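import Mathlib
import Cfsg.Agent.Lib.Helper8.HHLin14

/-!
# S3795 (Gross, p = 2): the NO-STACKING theorem, statement (designer: helper8)

`Q` a `q`-group, `S` an `s`-group (`q ≠ s` odd primes), `A` a cyclic `2`-group, `S` and `A` normalise `Q`,
`A` normalises `S`; `ρ` a representation of the ambient group over an algebraically closed field in which
`2` and `q` are invertible, with `C_V(A) = 0` and `C_Q(A) = 1`; `σ ∈ A` with `σ² = 1`.
Then `[S, σ]` centralises `Q` modulo the kernel of `ρ`:  `ρ [g, σ]` commutes with `ρ u` (`g ∈ S`, `u ∈ Q`).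
-/

set_option autoImplicit false
set_option linter.unusedSectionVars false

namespace Cfsg.Agent.Helper8.SG2N

open Module Cfsg.Agent.Helper8.FrobLin Cfsg.Agent.Helper8.HHLin

universe u v w

/-- the NO-STACKING statement at level `N = |Q| + |S| + dim V` -/
def NSStmt (F : Type w) [Field F] (q s N : ℕ) : Prop :=
  ∀ (Γ : Type u) [Group Γ] [Finite Γ] (V : Type v) [AddCommGroup V] [Module F V]
    [FiniteDimensional F V] (ρ : Representation F Γ V) (Q S A : Subgroup Γ) (σ : Γ),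
    Nat.card ↥Q + Nat.card ↥S + finrank F V = N →
    IsPGroup q ↥Q → IsPGroup s ↥S → IsCyclic ↥A → IsPGroup 2 ↥A →
    (∀ g ∈ S, ∀ x ∈ Q, g * x * g⁻¹ ∈ Q) → (∀ a ∈ A, ∀ x ∈ Q, a * x * a⁻¹ ∈ Q) →
    (∀ a ∈ A, ∀ g ∈ S, a * g * a⁻¹ ∈ S) →
    fixedBy ρ A = ⊥ → (∀ x ∈ Q, (∀ a ∈ A, a * x = x * a) → x = 1) →
    σ ∈ A → σ * σ = 1 →
    ∀ g ∈ S, ∀ x ∈ Q, ρ (g * σ * g⁻¹ * σ⁻¹) * ρ x = ρ x * ρ (g * σ * g⁻¹ * σ⁻¹)

end Cfsg.Agent.Helper8.SG2N
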