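import Mathlib
import Cfsg.Agent.Lib.SG2N.NSStmt
import Cfsg.Agent.Lib.SG3.SGFKRAD

/-!
# S3795 NO-STACKING block (designer helper8): definitions

`NSConf` = the structured configuration reached by the reductions (block B4):
`Q ⊴ Γ` a `q`-group of "class two modulo the kernel" with `Q / KZ` of exponent `q`, `S` centralising `KZ` on `V`.
`Rad χ` = the radical of the commutator pairing on the weight space of `χ` (a subgroup, `KZ ≤ Rad χ ≤ Q`).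
`L1Out` = the output of the level-one analysis (block B1) for an occurring weight `χ`.
-/

set_option autoImplicit false
set_option linter.unusedSectionVars false
set_option linter.style.haveILetI false

namespace Cfsg.Agent.Helper8.SG2N

open Module Cfsg.Agent.Helper8.FrobLin Cfsg.Agent.Helper8.HHLin Cfsg.Agent.Helper23.SGF

universe u v w

attribute [local instance] dualAct

variable {F : Type w} [Field F] [IsAlgClosed F] {Γ : Type u} [Group Γ] [Finite Γ]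
  {V : Type v} [AddCommGroup V] [Module F V] [FiniteDimensional F V]

/-- the radical of the commutator pairing of `Q` on the weight space of `χ`, as a subgroup -/
def Rad (ρ : Representation F Γ V) (Q : Subgroup Γ) [Q.Normal] (χ : KW ρ Q) : Subgroup Γ where
  carrier := {g | InRad ρ Q χ g}
  one_mem' := by
    refine ⟨Q.one_mem, ?_⟩
    intro h _ w _
    have : (1 : Γ) * h * 1⁻¹ * h⁻¹ = 1 := by group
    rw [this, map_one]; rfl
  mul_mem' := by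
    rintro g g' hg hg'
    refine ⟨Q.mul_mem hg.1 hg'.1, ?_⟩
    intro h hh w hw
    have h1 : g * g' * h * (g * g')⁻¹ * h⁻¹ =
        g * (g' * h * g'⁻¹ * h⁻¹) * g⁻¹ * (g * h * g⁻¹ * h⁻¹) := by group
    rw [h1, rho_mul_apply, hg.2 h hh w hw, rho_mul_apply, rho_mul_apply]
    have hw1 : ρ g⁻¹ w ∈ LinearMap.range (KP ρ Q χ) :=
      sgf_krad_stab χ g⁻¹ (sgf_krad_smul χ (Q.inv_mem hg.1)) w hw
    rw [hg'.2 h hh _ hw1]
    exact sgf_krad_rho_rho_inv ρ g w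
  inv_mem' := by
    rintro g hg
    refine ⟨Q.inv_mem hg.1, ?_⟩
    intro h hh w hw
    have h1 : g⁻¹ * h * g⁻¹⁻¹ * h⁻¹ = g⁻¹ * (g * h * g⁻¹ * h⁻¹)⁻¹ * g := by group
    rw [h1, rho_mul_apply, rho_mul_apply]
    have hw1 : ρ g w ∈ LinearMap.range (KP ρ Q χ) :=
      sgf_krad_stab χ g (sgf_krad_smul χ hg.1) w hw
    rw [sgf_krad_inv_fix ρ _ _ (hg.2 h hh _ hw1)]
    exact rho_inv_rho ρ g w

theorem mem_Rad {ρ : Representation F Γ V} {Q : Subgroup Γ} [Q.Normal] {χ : KW ρ Q} {g : Γ} :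
    g ∈ Rad ρ Q χ ↔ InRad ρ Q χ g := Iff.rfl

/-- the structured configuration reached by the reductions -/
structure NSConf (ρ : Representation F Γ V) (Q S A : Subgroup Γ) [Q.Normal] (σ : Γ) (q s : ℕ) :
    Prop where
  hq : q.Prime
  hs : s.Prime
  hq2 : q ≠ 2
  hs2 : s ≠ 2
  hqs : q ≠ s
  hqF : (q : F) ≠ 0
  h2F : (2 : F) ≠ 0
  hQ : IsPGroup q ↥Q
  hS : IsPGroup s ↥S
  hAc : IsCyclic ↥A
  hA : IsPGroup 2 ↥A
  hAS : ∀ a ∈ A, ∀ g ∈ S, a * g * a⁻¹ ∈ S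
  hfix : fixedBy ρ A = ⊥
  hσA : σ ∈ A
  hσ2 : σ * σ = 1
  hσ1 : σ ≠ 1
  hQZ : ∀ a ∈ Q, ∀ b ∈ Q, a * b * a⁻¹ * b⁻¹ ∈ KZ ρ Q
  hQq : ∀ a ∈ Q, a ^ q ∈ KZ ρ Q
  hSZ : ∀ g ∈ S, ∀ z ∈ KZ ρ Q, ρ g * ρ z = ρ z * ρ g

/-- output of the level-one analysis at an occurring weight `χ`: either `σ` centralises `Q / Rad χ`,
or `q` is a Mersenne prime and an element `c ∈ A` of order `4` (`q = 3`) or `8` with `c^(2^k) = σ`
fixes `χ` and centralises `C₁ / Rad χ` for a subgroup `C₁` of index at most `q²` in `Q`. -/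
def L1Out (ρ : Representation F Γ V) (Q A : Subgroup Γ) [Q.Normal] (σ : Γ) (q : ℕ) (χ : KW ρ Q) :
    Prop :=
  (∀ g ∈ Q, InRad ρ Q χ (σ * g * σ⁻¹ * g⁻¹)) ∨
  ∃ (k : ℕ) (c : Γ) (C₁ : Subgroup Γ), (k = 1 ∨ k = 2) ∧ (k = 1 → q = 3) ∧ c ∈ A ∧
    c ^ (2 ^ k) = σ ∧ c • χ = χ ∧ C₁ ≤ Q ∧ Rad ρ Q χ ≤ C₁ ∧
    Nat.card ↥Q ≤ q ^ 2 * Nat.card ↥C₁ ∧ ∀ g ∈ C₁, InRad ρ Q χ (c * g * c⁻¹ * g⁻¹)

end Cfsg.Agent.Helper8.SG2N
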