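import Mathlib
import Cfsg.Agent.Lib.SG2N.NSDefs
import Cfsg.Agent.Lib.SG3.SGFKXFIX

/-! S3795 NO-STACKING block B1 (designer helper8): global facts about an `NSConf` used by the plumbing of
levels one and two. -/

set_option autoImplicit false
set_option linter.unusedSectionVars false
set_option linter.style.haveILetI false

namespace Cfsg.Agent.Helper8.SG2N

open Module Cfsg.Agent.Helper8.FrobLin Cfsg.Agent.Helper8.HHLin Cfsg.Agent.Helper23.SGF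

universe u v w

attribute [local instance] dualAct

variable {F : Type w} [Field F] [IsAlgClosed F] {Γ : Type u} [Group Γ] [Finite Γ]
  {V : Type v} [AddCommGroup V] [Module F V] [FiniteDimensional F V]
  {ρ : Representation F Γ V} {Q S A : Subgroup Γ} [Q.Normal] {σ : Γ} {q s : ℕ}

/-- PIECE NSG-SIGFIX: `σ` fixes every occurring weight (`smul_eq_of_wproj_ne_zero`, Lib/SG3/SGFKXFIX.lean,
with `M = KZ ρ Q`, `N = KN ρ Q`, `X = zpowers σ` of order `2`, `p = 2`; `KP_def`). -/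
theorem sigma_smul (C : NSConf ρ Q S A σ q s) (χ : KW ρ Q) (hχ : KP ρ Q χ ≠ 0) : σ • χ = χ := by
  letI : Fintype ↥(KZ ρ Q) := Fintype.ofFinite _
  have hZQ : KZ ρ Q ≤ Q := relCenter_le Q (kerIn ρ Q)
  have hqfact : Fact q.Prime := ⟨C.hq⟩
  obtain ⟨a, ha⟩ := C.hQ.exists_card_eq
  have hcharQ : (Nat.card ↥Q : F) ≠ 0 := by
    rw [ha]; push_cast; exact pow_ne_zero _ C.hqF
  have hcharZ : (Nat.card ↥(KZ ρ Q) : F) ≠ 0 := by
    intro h0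
    apply hcharQ
    obtain ⟨k, hk⟩ := Subgroup.card_dvd_of_le hZQ
    rw [hk]; push_cast; rw [h0, zero_mul]
  have hord : orderOf σ = 2 :=
    orderOf_eq_prime (by rw [pow_two]; exact C.hσ2) C.hσ1
  have hX : Nat.card ↥(Subgroup.zpowers σ) = 2 := by
    rw [Nat.card_zpowers, hord]
  have hXA : Subgroup.zpowers σ ≤ A := by
    rw [Subgroup.zpowers_le]; exact C.hσA
  have hχ' : wproj ρ (KZ ρ Q) (KN ρ Q) χ ≠ 0 := hχ
  exact smul_eq_of_wproj_ne_zero ρ (KZ ρ Q) (KN ρ Q) A (Subgroup.zpowers σ) Nat.prime_two C.hAc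
    C.hA hXA hX C.hfix hcharZ C.h2F χ hχ' σ (Subgroup.mem_zpowers σ)

/-- PIECE NSG-SFIX: every element of `S` fixes every occurring weight: `ρ g` commutes with `ρ (KZ ρ Q)`
(`C.hSZ`), so for `w = KP χ v ≠ 0` the vector `ρ g w` is an eigenvector of `KZ` for `χ`
(`mem_range_wproj`) and lies in `range (KP (g • χ))` (`wproj_equi`); `wproj_orth` then forces
`g • χ = χ`. -/
theorem s_smul (C : NSConf ρ Q S A σ q s) (χ : KW ρ Q) (hχ : KP ρ Q χ ≠ 0) :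
    ∀ g ∈ S, g • χ = χ := by
  intro g hg
  letI : Fintype ↥(KZ ρ Q) := Fintype.ofFinite _
  have hKP : KP ρ Q χ = wproj ρ (KZ ρ Q) (KN ρ Q) χ := rfl
  haveI : Fact q.Prime := ⟨C.hq⟩
  obtain ⟨a, ha⟩ := C.hQ.exists_card_eq
  have hcharQ : (Nat.card ↥Q : F) ≠ 0 := by
    rw [ha]; push_cast; exact pow_ne_zero _ C.hqF
  have hcharZ : (Nat.card ↥(KZ ρ Q) : F) ≠ 0 := by
    intro h0
    apply hcharQ
    obtain ⟨k, hk⟩ := Subgroup.card_dvd_of_le (relCenter_le Q (kerIn ρ Q))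
    rw [hk]; push_cast; rw [h0, zero_mul]
  by_contra hne
  have hex : ∃ v, KP ρ Q χ v ≠ 0 := by
    by_contra hall
    push_neg at hall
    exact hχ (LinearMap.ext hall)
  obtain ⟨v, hv⟩ := hex
  rw [hKP] at hv
  have hw_eig : ∀ m : ↥(KZ ρ Q), ρ (m : Γ) (wproj ρ (KZ ρ Q) (KN ρ Q) χ v) =
      ((χ (QuotientGroup.mk m) : Fˣ) : F) • wproj ρ (KZ ρ Q) (KN ρ Q) χ v :=
    (mem_range_wproj ρ (KZ ρ Q) (KN ρ Q) hcharZ χ _).mp ⟨v, rfl⟩
  have hgw_eig : ∀ m : ↥(KZ ρ Q), ρ (m : Γ) (ρ g (wproj ρ (KZ ρ Q) (KN ρ Q) χ v)) =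
      ((χ (QuotientGroup.mk m) : Fˣ) : F) • ρ g (wproj ρ (KZ ρ Q) (KN ρ Q) χ v) := by
    intro m
    have hc := C.hSZ g hg (m : Γ) m.2
    have hsw : ρ (m : Γ) (ρ g (wproj ρ (KZ ρ Q) (KN ρ Q) χ v)) =
        ρ g (ρ (m : Γ) (wproj ρ (KZ ρ Q) (KN ρ Q) χ v)) := by
      have := congrArg (fun f : V →ₗ[F] V => f (wproj ρ (KZ ρ Q) (KN ρ Q) χ v)) hc
      simp only [Module.End.mul_apply] at this
      exact this.symm
    rw [hsw, hw_eig m, map_smul]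
  obtain ⟨u, hu⟩ := (mem_range_wproj ρ (KZ ρ Q) (KN ρ Q) hcharZ χ _).mpr hgw_eig
  have h1 : wproj ρ (KZ ρ Q) (KN ρ Q) χ (ρ g (wproj ρ (KZ ρ Q) (KN ρ Q) χ v)) =
      ρ g (wproj ρ (KZ ρ Q) (KN ρ Q) χ v) := by
    rw [← hu, wproj_orth ρ (KZ ρ Q) (KN ρ Q) hcharZ, if_pos rfl]
  have h2 : ρ g (wproj ρ (KZ ρ Q) (KN ρ Q) χ v) =
      wproj ρ (KZ ρ Q) (KN ρ Q) (g • χ) (ρ g v) := wproj_equi ρ (KZ ρ Q) (KN ρ Q) g χ v
  have h3 : wproj ρ (KZ ρ Q) (KN ρ Q) χ (ρ g (wproj ρ (KZ ρ Q) (KN ρ Q) χ v)) = 0 := by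
    rw [h2, wproj_orth ρ (KZ ρ Q) (KN ρ Q) hcharZ, if_neg (fun hh => hne hh.symm)]
  have h4 : ρ g (wproj ρ (KZ ρ Q) (KN ρ Q) χ v) = 0 := by rw [← h1, h3]
  apply hv
  have h5 := rho_inv_rho ρ g (wproj ρ (KZ ρ Q) (KN ρ Q) χ v)
  rw [h4, map_zero] at h5
  exact h5.symm

/-- PIECE NSG-ZRAD: `KZ ≤ Rad χ`. (`z ∈ KZ`, `h ∈ Q`: `z h z⁻¹ h⁻¹ ∈ KN`, so `ρ` of it is `1`.) -/
theorem kz_le_rad (ρ : Representation F Γ V) (Q : Subgroup Γ) [Q.Normal] (χ : KW ρ Q) :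
    KZ ρ Q ≤ Rad ρ Q χ := by
  intro z hz
  rw [mem_Rad]
  have hz' := mem_relCenter.mp hz
  refine ⟨hz'.1, ?_⟩
  intro h hh w _
  have h1 := (mem_kerIn ρ).mp (hz'.2 h hh)
  rw [h1.2]
  rfl

/-- PIECE NSG-TRIV: an element of `Γ` normalising... acting trivially on the weight space lies in the
radical: if `y ∈ Q` and `ρ y w = w` for all `w ∈ range (KP χ)` then `InRad ρ Q χ y`
(`Q` preserves the weight space: `sgf_krad_stab`, `sgf_krad_smul`). -/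
theorem inRad_of_triv (ρ : Representation F Γ V) (Q : Subgroup Γ) [Q.Normal] (χ : KW ρ Q) {y : Γ}
    (hy : y ∈ Q) (h : ∀ w ∈ LinearMap.range (KP ρ Q χ), ρ y w = w) : InRad ρ Q χ y := by
  refine ⟨hy, ?_⟩
  intro g hg w hw
  have hw1 : ρ g⁻¹ w ∈ LinearMap.range (KP ρ Q χ) :=
    sgf_krad_stab χ g⁻¹ (sgf_krad_smul χ (Q.inv_mem hg)) w hw
  have e : y * g * y⁻¹ * g⁻¹ = y * (g * (y⁻¹ * g⁻¹)) := by group
  rw [e, rho_mul_apply, rho_mul_apply, rho_mul_apply,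
    sgf_krad_inv_fix ρ y _ (h _ hw1), sgf_krad_rho_rho_inv ρ g w, h w hw]

end Cfsg.Agent.Helper8.SG2N
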