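import Mathlib
import Cfsg.Agent.Lib.SG2N.NSDefs
import Cfsg.Agent.Lib.Helper8.HHLin15

/-! S3795 NO-STACKING block B1 (designer helper8): the commutator pairing on the quotient `M / N`
of the Hall–Higman setting (`hh_bound`), and the conjugation action on it: the data fed to
`symp_cyclic` (block B3). -/

set_option autoImplicit false
set_option linter.unusedSectionVars false
set_option linter.style.haveILetI false

namespace Cfsg.Agent.Helper8.SG2N

open Module Cfsg.Agent.Helper8.FrobLin Cfsg.Agent.Helper8.HHLin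

section QPair

variable {F : Type*} [Field F] {G : Type*} [Group G]
  {V : Type*} [AddCommGroup V] [Module F V] [FiniteDimensional F V]
  (ρ : Representation F G V) (M N : Subgroup G) [M.Normal] [N.Normal]
  (hcomm : ∀ a ∈ M, ∀ b ∈ M, a * b * a⁻¹ * b⁻¹ ∈ N)
  (lam : ↥N →* Fˣ) (hlam : ∀ (z : ↥N) (v : V), ρ (z : G) v = ((lam z : Fˣ) : F) • v)
  (hV : 0 < finrank F V)

include hcomm in
/-- `M / N` is commutative -/
theorem qm_comm (a b : ↥M ⧸ N.subgroupOf M) : a * b = b * a := by
  induction a using QuotientGroup.induction_on with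
  | H x =>
    induction b using QuotientGroup.induction_on with
    | H y =>
      rw [← QuotientGroup.mk_mul, ← QuotientGroup.mk_mul, QuotientGroup.eq,
        Subgroup.mem_subgroupOf]
      have h1 := hcomm _ (M.inv_mem y.2) _ (M.inv_mem x.2)
      have h2 : (((x * y)⁻¹ * (y * x) : ↥M) : G) =
          (y : G)⁻¹ * (x : G)⁻¹ * (y : G)⁻¹⁻¹ * (x : G)⁻¹⁻¹ := by
        push_cast; group
      rw [h2]
      exact h1

/-- the commutator pairing on `M / N` -/
def qpair : (↥M ⧸ N.subgroupOf M) →* ((↥M ⧸ N.subgroupOf M) →* Fˣ) :=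
  QuotientGroup.lift (N.subgroupOf M) (qcharHom ρ M N hcomm lam hlam hV) (by
    intro g hg
    rw [Subgroup.mem_subgroupOf] at hg
    apply MonoidHom.ext
    intro a
    induction a using QuotientGroup.induction_on with
    | H y =>
      rw [qcharHom_apply, qchar_mk, MonoidHom.one_apply]
      exact kp_of_mem_right ρ M N hcomm lam hlam hV y g hg)

theorem qpair_mk (g y : ↥M) :
    qpair ρ M N hcomm lam hlam hV (QuotientGroup.mk g) (QuotientGroup.mk y) =
      kp M N hcomm lam y g := rfl

theorem qpair_self (a : ↥M ⧸ N.subgroupOf M) : qpair ρ M N hcomm lam hlam hV a a = 1 := by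
  induction a using QuotientGroup.induction_on with
  | H g =>
    rw [qpair_mk]
    exact kp_self ρ M N hcomm lam hlam hV g

/-- PIECE NSL1-QND: the pairing is nondegenerate -/
theorem qpair_nondeg (hnd : ∀ g ∈ M, (∀ y ∈ M, ρ (y * g * y⁻¹ * g⁻¹) = 1) → g ∈ N)
    (a : ↥M ⧸ N.subgroupOf M)
    (ha : ∀ b : ↥M ⧸ N.subgroupOf M, qpair ρ M N hcomm lam hlam hV a b = 1) : a = 1 := by
  induction a using QuotientGroup.induction_on with
  | H g =>
    rw [QuotientGroup.eq_one_iff, Subgroup.mem_subgroupOf]
    apply hnd (g : G) g.2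
    intro y hy
    have h1 : kp M N hcomm lam ⟨y, hy⟩ g = 1 := by
      have h0 := ha (QuotientGroup.mk (⟨y, hy⟩ : ↥M))
      rw [qpair_mk] at h0
      exact h0
    have h2 := rho_conj ρ M N hcomm lam hlam ⟨y, hy⟩ g
    rw [h1, Units.val_one, one_smul] at h2
    rw [map_mul, h2, ← map_mul, mul_inv_cancel, map_one]

/-- conjugation by `g : G` on `M / N`, as an automorphism -/
def qconj (g : G) : (↥M ⧸ N.subgroupOf M) ≃* (↥M ⧸ N.subgroupOf M) where
  toFun := kap M N g
  invFun := kap M N g⁻¹
  left_inv a := by rw [← kap_mul, inv_mul_cancel, kap_one]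
  right_inv a := by rw [← kap_mul, mul_inv_cancel, kap_one]
  map_mul' a b := map_mul _ a b

theorem qconj_mk (g : G) (m : ↥M) :
    qconj M N g (QuotientGroup.mk m) = QuotientGroup.mk (MulAut.conjNormal g m) :=
  kap_mk M N g m

/-- PIECE NSL1-QPOW: powers -/
theorem qconj_pow (g : G) (k : ℕ) : qconj M N (g ^ k) = (qconj M N g) ^ k := by
  induction k with
  | zero =>
    apply MulEquiv.ext
    intro a
    rw [pow_zero, pow_zero]
    show kap M N 1 a = a
    exact kap_one M N a
  | succ k ih =>
    apply MulEquiv.ext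
    intro a
    rw [pow_succ, pow_succ, ← ih]
    show kap M N (g ^ k * g) a = kap M N (g ^ k) (kap M N g a)
    exact kap_mul M N (g ^ k) g a

/-- PIECE NSL1-QINV: conjugation preserves the pairing (as `N` acts by the scalars `lam` on all of `V`,
`lam (g z g⁻¹) = lam z`) -/
theorem qpair_conj (g : G) (a b : ↥M ⧸ N.subgroupOf M) :
    qpair ρ M N hcomm lam hlam hV (qconj M N g a) (qconj M N g b) =
      qpair ρ M N hcomm lam hlam hV a b := by
  have hNn : N.Normal := inferInstance
  -- `lam` is invariant under conjugation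
  have key : ∀ (z : ↥N), lam ⟨g * (z : G) * g⁻¹, hNn.conj_mem _ z.2 g⟩ = lam z := by
    intro z
    apply Units.ext
    apply smul_cancel_rho ρ hV (1 : G)
    rw [map_one]
    have h1 := rho_scalar ρ N lam hlam ⟨g * (z : G) * g⁻¹, hNn.conj_mem _ z.2 g⟩
    have h2 := rho_scalar ρ N lam hlam z
    simp only at h1
    rw [← h1, map_mul, map_mul, h2, mul_smul_comm, mul_one, smul_mul_assoc, ← map_mul,
      mul_inv_cancel, map_one]
  induction a using QuotientGroup.induction_on with
  | H x =>
    induction b using QuotientGroup.induction_on with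
    | H y =>
      rw [qconj_mk, qconj_mk, qpair_mk, qpair_mk]
      have k1 := key ⟨(y : G) * x * (y : G)⁻¹ * (x : G)⁻¹, hcomm y y.2 x x.2⟩
      unfold kp
      rw [← k1]
      apply congrArg lam
      apply Subtype.ext
      show ((MulAut.conjNormal g y : ↥M) : G) * ((MulAut.conjNormal g x : ↥M) : G) *
          ((MulAut.conjNormal g y : ↥M) : G)⁻¹ * ((MulAut.conjNormal g x : ↥M) : G)⁻¹ =
        g * ((y : G) * x * (y : G)⁻¹ * (x : G)⁻¹) * g⁻¹
      rw [MulAut.conjNormal_apply, MulAut.conjNormal_apply]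
      group

/-- PIECE NSL1-QFIX: a fixed point of `qconj g` on `M / N`, in terms of elements -/
theorem qconj_mk_eq_iff (g : G) (m : ↥M) :
    qconj M N g (QuotientGroup.mk m) = QuotientGroup.mk m ↔
      g * (m : G) * g⁻¹ * (m : G)⁻¹ ∈ N := by
  have hNn : N.Normal := inferInstance
  rw [qconj_mk, eq_comm, QuotientGroup.eq, Subgroup.mem_subgroupOf]
  have e : ((m⁻¹ * MulAut.conjNormal g m : ↥M) : G) = (m : G)⁻¹ * (g * (m : G) * g⁻¹) := by
    rw [Subgroup.coe_mul, Subgroup.coe_inv, MulAut.conjNormal_apply]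
  rw [e]
  exact hNn.mem_comm_iff

end QPair

end Cfsg.Agent.Helper8.SG2N
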