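import Mathlib
import Cfsg.Agent.Lib.Helper8.HHLin7
import Cfsg.Agent.Lib.Helper18.SG2Arith

/-!
# S3795, NO-STACKING block B3 (designer helper8, written by helper18): auxiliary lemmas

* `card_modEq_one_of_free` : a group acting freely off one fixed point: `|X| ≡ 1 mod |G|`.
* `card_modEq_one_of_semireg` : the same for a semiregular automorphism of a finite group.
* `frob_core` : in a ring of prime characteristic `q`, `C + C⁻¹ = y ∈ ℕ` forces
  `(C^(q+1) - 1) (C^(q-1) - 1) = 0`.
-/

set_option autoImplicit false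

namespace Cfsg.Agent.Helper18.Symp

/-- a finite group acting freely outside one common fixed point: `|X| ≡ 1 mod |G|` -/
theorem card_modEq_one_of_free {G X : Type*} [Group G] [Finite G] [MulAction G X] [Finite X]
    (x0 : X) (h0 : ∀ g : G, g • x0 = x0)
    (hfree : ∀ g : G, g ≠ 1 → ∀ x : X, g • x = x → x = x0) :
    Nat.card X ≡ 1 [MOD Nat.card G] := by
  classical
  have hfe : Fintype G := Fintype.ofFinite G
  have hfX : Fintype X := Fintype.ofFinite X
  have hB := MulAction.sum_card_fixedBy_eq_card_orbits_mul_card_group G X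
  have hcard1 : ∀ e : G, e ≠ 1 → Fintype.card ↥(MulAction.fixedBy X e) = 1 := by
    intro e he
    rw [Fintype.card_eq_one_iff]
    refine ⟨⟨x0, h0 e⟩, ?_⟩
    intro y
    exact Subtype.ext (hfree e he y.1 y.2)
  have hcard0 : Fintype.card ↥(MulAction.fixedBy X (1 : G)) = Fintype.card X := by
    apply Fintype.card_congr
    exact
      { toFun := fun x => x.1
        invFun := fun x => ⟨x, one_smul _ x⟩
        left_inv := fun x => rfl
        right_inv := fun x => rfl }
  have hsum : ∑ g : G, Fintype.card ↥(MulAction.fixedBy X g) =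
      Fintype.card X + (Fintype.card G - 1) := by
    rw [← Finset.add_sum_erase Finset.univ _ (Finset.mem_univ (1 : G)), hcard0]
    congr 1
    rw [Finset.sum_congr rfl (fun g hg => hcard1 g (Finset.ne_of_mem_erase hg)), Finset.sum_const,
      Finset.card_erase_of_mem (Finset.mem_univ _), Finset.card_univ, smul_eq_mul, mul_one]
  rw [hsum] at hB
  rw [Nat.card_eq_fintype_card, Nat.card_eq_fintype_card]
  have hpos : 0 < Fintype.card G := Fintype.card_pos
  have h3 : Fintype.card X + Fintype.card G =
      1 + Fintype.card (Quotient (MulAction.orbitRel G X)) * Fintype.card G := by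
    omega
  show Fintype.card X % Fintype.card G = 1 % Fintype.card G
  rw [← Nat.add_mod_right, h3, Nat.add_mul_mod_self_right]

/-- a semiregular automorphism `c` of a finite group: `|M| ≡ 1 mod (order of c)` -/
theorem card_modEq_one_of_semireg {M : Type*} [Group M] [Finite M] (c : MulAut M)
    (hsemi : ∀ (k : ℕ) (x : M), (c ^ k) x = x → x ≠ 1 → c ^ k = 1) :
    Nat.card M ≡ 1 [MOD orderOf c] := by
  classical
  have hfin : IsOfFinOrder c := isOfFinOrder_of_finite c
  rw [← Nat.card_zpowers c]
  apply card_modEq_one_of_free (G := ↥(Subgroup.zpowers c)) (X := M) (1 : M)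
  · intro g
    show (g : MulAut M) (1 : M) = 1
    exact map_one _
  · intro g hg x hx
    by_contra hx1
    apply hg
    have hgm : (g : MulAut M) ∈ Submonoid.powers c := hfin.mem_powers_iff_mem_zpowers.mpr g.2
    obtain ⟨k, hk⟩ := Submonoid.mem_powers_iff _ _ |>.mp hgm
    have hx' : (c ^ k) x = x := by
      rw [hk]; exact hx
    have := hsemi k x hx' hx1
    apply Subtype.ext
    rw [← hk, this]; rfl

/-- Frobenius trick: in a ring of prime characteristic `q`, an invertible `C` with
`C + C⁻¹` an integer satisfies `(C^(q+1) - 1) (C^(q-1) - 1) = 0`. -/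
theorem frob_core {R : Type*} [Ring R] {q : ℕ} [hq : Fact q.Prime] [CharP R q] (C C' : R)
    (h1 : C * C' = 1) (h2 : C' * C = 1) (y : ℕ) (hT : C + C' = (y : R)) :
    (C ^ (q + 1) - 1) * (C ^ (q - 1) - 1) = 0 := by
  have hcomm : Commute C C' := h1.trans h2.symm
  have e1 : (C + C') ^ q = C ^ q + C' ^ q := add_pow_char_of_commute q hcomm
  have e2 : ((y : R)) ^ q = (y : R) := by
    rw [← Nat.cast_pow]
    apply (CharP.natCast_eq_natCast R q).mpr
    have h := ZMod.pow_card (y : ZMod q)
    rw [← Nat.cast_pow] at h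
    exact (ZMod.natCast_eq_natCast_iff _ _ _).mp h
  have e3 : C ^ q + C' ^ q = C + C' := by
    rw [← e1, hT, e2]
  have e4 : C ^ q * C' ^ q = 1 := by
    rw [← hcomm.mul_pow, h1, one_pow]
  have hq1 : 1 ≤ q := hq.out.one_le
  have e5 : C ^ q * C' = C ^ (q - 1) := by
    have : C ^ q = C ^ (q - 1) * C := by
      rw [← pow_succ, Nat.sub_add_cancel hq1]
    rw [this, mul_assoc, h1, mul_one]
  have e6 : C ^ q * C ^ q + 1 = C ^ (q + 1) + C ^ (q - 1) := by
    have := congrArg (fun z => C ^ q * z) e3
    simp only [mul_add] at this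
    rw [e4, e5, ← pow_succ] at this
    exact this
  have e7 : C ^ (q + 1) * C ^ (q - 1) = C ^ q * C ^ q := by
    rw [← pow_add, ← pow_add]
    congr 1
    omega
  rw [sub_mul, mul_sub, one_mul, mul_one, e7]
  have : C ^ q * C ^ q = C ^ (q + 1) + C ^ (q - 1) - 1 := by
    rw [← e6]; abel
  rw [this]
  abel

end Cfsg.Agent.Helper18.Symp
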