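import Mathlib
import Cfsg.Agent.Lib.SG2N.SympA

/-!
# S3795, NO-STACKING block B3: a semiregular symplectic automorphism, the two fake cases

`M` an abelian group of exponent `q` with a nondegenerate alternating bicharacter `kap`,
`c` an automorphism preserving `kap` and acting semiregularly.

* `dvd_of_card_sq` : if `|M| = q²` then the order of `c` divides `q - 1` or `q + 1`.
* `order_sq_le_of_iso` : a `c`-invariant totally isotropic subgroup `≠ 1` forces `|c|² ≤ |M|`.
* `no_sixteen` : `|M| = 81`, `q = 3`: `c` cannot have order `16`.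
-/

set_option autoImplicit false

namespace Cfsg.Agent.Helper18.Symp

open Cfsg.Agent.Helper8.HHLin

section Basic

variable {M : Type*} [CommGroup M] {K : Type*} [Field K] (kap : M →* M →* Kˣ) (c : MulAut M)

theorem kap_skew (halt : ∀ x, kap x x = 1) (a b : M) : kap a b * kap b a = 1 := by
  have h := halt (a * b)
  have e : kap (a * b) (a * b) = kap a a * kap a b * (kap b a * kap b b) := by
    rw [map_mul kap a b, MonoidHom.mul_apply, map_mul, map_mul]
  rw [e, halt a, halt b, one_mul, mul_one] at h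
  exact h

theorem kap_symm_one (halt : ∀ x, kap x x = 1) {a b : M} (h : kap a b = 1) : kap b a = 1 := by
  have := kap_skew kap halt a b
  rw [h, one_mul] at this
  exact this

theorem pow_pow_apply (k l : ℕ) (x : M) : (c ^ k) ((c ^ l) x) = (c ^ (k + l)) x := by
  rw [pow_add, MulAut.mul_apply]

theorem kap_inv_pow (hinv : ∀ x y, kap (c x) (c y) = kap x y) (k : ℕ) (x y : M) :
    kap ((c ^ k) x) ((c ^ k) y) = kap x y := by
  induction k with
  | zero => simp
  | succ k ih =>
    rw [pow_succ', MulAut.mul_apply, MulAut.mul_apply, hinv, ih]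

/-- adjoint of a power of `c` -/
theorem kap_adj (hinv : ∀ x y, kap (c x) (c y) = kap x y) {k l : ℕ} (hkl : c ^ (l + k) = 1)
    (x y : M) : kap ((c ^ k) x) y = kap x ((c ^ l) y) := by
  rw [← kap_inv_pow kap c hinv l ((c ^ k) x) y, pow_pow_apply, hkl, MulAut.one_apply]

/-- the involution of a semiregular automorphism of even order inverts -/
theorem half_inverts (hsemi : ∀ (k : ℕ) (x : M), (c ^ k) x = x → x ≠ 1 → c ^ k = 1) {n : ℕ}
    (hn : 0 < n) (hord : orderOf c = 2 * n) (x : M) : (c ^ n) x = x⁻¹ := by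
  have h2 : c ^ (n + n) = 1 := by
    rw [← two_mul, ← hord]; exact pow_orderOf_eq_one c
  have hu : (c ^ n) ((c ^ n) x * x) = (c ^ n) x * x := by
    rw [map_mul, pow_pow_apply, h2, MulAut.one_apply, mul_comm]
  by_cases hu1 : (c ^ n) x * x = 1
  · exact eq_inv_of_mul_eq_one_left hu1
  · exfalso
    have h1 := hsemi n _ hu hu1
    have hd := orderOf_dvd_of_pow_eq_one h1
    rw [hord] at hd
    have := Nat.le_of_dvd hn hd
    omega

end Basic

section Iso

variable {M : Type*} [CommGroup M] [Finite M] {K : Type*} [Field K] [IsAlgClosed K]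
  (kap : M →* M →* Kˣ) (c : MulAut M)

/-- a totally isotropic subgroup has order at most `√|M|` -/
theorem iso_card_sq_le (hnd : ∀ x, (∀ y, kap x y = 1) → x = 1) (hchar : (Nat.card M : K) ≠ 0)
    (W : Subgroup M) (hW : ∀ a ∈ W, ∀ b ∈ W, kap a b = 1) :
    Nat.card ↥W * Nat.card ↥W ≤ Nat.card M := by
  let β : ↥W →* (M →* Kˣ) := kap.comp W.subtype
  have hker : β.ker = ⊥ := by
    rw [eq_bot_iff]
    intro w hw
    rw [MonoidHom.mem_ker] at hw
    rw [Subgroup.mem_bot]
    apply Subtype.ext
    apply hnd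
    intro y
    have : β w y = 1 := by rw [hw]; rfl
    exact this
  have hle : W ≤ rightKer β := by
    intro b hb
    rw [mem_rightKer]
    intro a
    exact hW a a.2 b hb
  have h1 := card_mul_le_of_pairing β hchar
  rw [hker, Subgroup.card_bot, one_mul] at h1
  calc Nat.card ↥W * Nat.card ↥W ≤ Nat.card ↥W * Nat.card ↥(rightKer β) :=
        Nat.mul_le_mul_left _ (Subgroup.card_le_of_le hle)
    _ ≤ Nat.card M := h1

/-- a `c`-invariant subgroup with a nontrivial element contains a full `c`-orbit -/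
theorem order_le_card_of_inv (hsemi : ∀ (k : ℕ) (x : M), (c ^ k) x = x → x ≠ 1 → c ^ k = 1)
    (W : Subgroup M) (hcW : ∀ w ∈ W, c w ∈ W) {z : M} (hz : z ∈ W) (hz1 : z ≠ 1) :
    orderOf c ≤ Nat.card ↥W := by
  have hmem : ∀ k : ℕ, (c ^ k) z ∈ W := by
    intro k
    induction k with
    | zero => simpa using hz
    | succ k ih =>
      rw [pow_succ', MulAut.mul_apply]
      exact hcW _ ih
  have key : ∀ k l : ℕ, k ≤ l → l < orderOf c → (c ^ k) z = (c ^ l) z → k = l := by
    intro k l hkl hl h
    obtain ⟨d, rfl⟩ := Nat.exists_eq_add_of_le hkl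
    rw [← pow_pow_apply] at h
    have h' : (c ^ d) z = z := ((c ^ k).injective h).symm
    have h1 := hsemi d z h' hz1
    have hd := orderOf_dvd_of_pow_eq_one h1
    by_contra hne
    have hd0 : 0 < d := by omega
    have := Nat.le_of_dvd hd0 hd
    omega
  let f : Fin (orderOf c) → ↥W := fun k => ⟨(c ^ (k : ℕ)) z, hmem k⟩
  have hf : Function.Injective f := by
    intro a b hab
    have hab' : (c ^ (a : ℕ)) z = (c ^ (b : ℕ)) z := congrArg Subtype.val hab
    apply Fin.ext
    rcases le_total (a : ℕ) (b : ℕ) with h | h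
    · exact key _ _ h b.2 hab'
    · exact (key _ _ h a.2 hab'.symm).symm
  have := Nat.card_le_card_of_injective f hf
  rwa [Nat.card_fin] at this

theorem order_sq_le_of_iso (hnd : ∀ x, (∀ y, kap x y = 1) → x = 1) (hchar : (Nat.card M : K) ≠ 0)
    (hsemi : ∀ (k : ℕ) (x : M), (c ^ k) x = x → x ≠ 1 → c ^ k = 1)
    (W : Subgroup M) (hW : ∀ a ∈ W, ∀ b ∈ W, kap a b = 1) (hcW : ∀ w ∈ W, c w ∈ W)
    {z : M} (hz : z ∈ W) (hz1 : z ≠ 1) :
    orderOf c * orderOf c ≤ Nat.card M := by
  have h1 := order_le_card_of_inv c hsemi W hcW hz hz1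
  have h2 := iso_card_sq_le kap hnd hchar W hW
  calc orderOf c * orderOf c ≤ Nat.card ↥W * Nat.card ↥W := Nat.mul_le_mul h1 h1
    _ ≤ Nat.card M := h2

end Iso

end Cfsg.Agent.Helper18.Symp
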