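import Mathlib
import Cfsg.Agent.Lib.SG2N.SympB

/-!
# S3795, NO-STACKING block B3: the exceptional case `(q, i, j) = (3, 2, 4)`

`|M| = 81`, exponent `3`, `c` semiregular of order `16` preserving a nondegenerate alternating
bicharacter: impossible.  `S = c² + c⁶` is skew-adjoint with `S² = 1`, so its eigenspaces are
`c`-invariant and totally isotropic, of order at most `9`; but they contain a `c`-orbit of size `16`.
-/

set_option autoImplicit false

namespace Cfsg.Agent.Helper18.Symp

open Cfsg.Agent.Helper8.HHLin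

theorem no_sixteen {M : Type*} [CommGroup M] [Finite M] {K : Type*} [Field K] [IsAlgClosed K]
    (kap : M →* M →* Kˣ) (c : MulAut M) (hcard : Nat.card M = 81) (hexp : ∀ x : M, x ^ 3 = 1)
    (hnd : ∀ x, (∀ y, kap x y = 1) → x = 1) (hchar : (Nat.card M : K) ≠ 0)
    (hinv : ∀ x y, kap (c x) (c y) = kap x y) (hord : orderOf c = 16)
    (hsemi : ∀ (k : ℕ) (x : M), (c ^ k) x = x → x ≠ 1 → c ^ k = 1) : False := by
  have hc8 : ∀ x, (c ^ 8) x = x⁻¹ := half_inverts c hsemi (by norm_num) (by rw [hord])
  have hc16 : c ^ 16 = 1 := hord ▸ pow_orderOf_eq_one c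
  let S : M →* M := (c ^ 2 : MulAut M).toMonoidHom * (c ^ 6 : MulAut M).toMonoidHom
  have hS : ∀ x, S x = (c ^ 2) x * (c ^ 6) x := fun x => rfl
  have hinv3 : ∀ x : M, x⁻¹ * x⁻¹ = x := by
    intro x
    calc x⁻¹ * x⁻¹ = x⁻¹ * x⁻¹ * x ^ 3 := by rw [hexp, mul_one]
      _ = x := by group
  have hSS : ∀ x, S (S x) = x := by
    intro x
    have h12 : (c ^ 12) x = ((c ^ 4) x)⁻¹ := by
      rw [← hc8, pow_pow_apply]
    rw [hS (S x), hS x, map_mul, map_mul, pow_pow_apply, pow_pow_apply, pow_pow_apply,
      pow_pow_apply]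
    norm_num
    rw [hc8, h12]
    calc (c ^ 4) x * x⁻¹ * (x⁻¹ * ((c ^ 4) x)⁻¹) = x⁻¹ * x⁻¹ := by
          rw [mul_comm ((c ^ 4) x) x⁻¹, mul_assoc, mul_comm x⁻¹ ((c ^ 4) x)⁻¹, ← mul_assoc ((c ^ 4) x),
            mul_inv_cancel, one_mul]
      _ = x := hinv3 x
  have hSadj : ∀ x y, kap (S x) y * kap x (S y) = 1 := by
    intro x y
    have e1 : kap ((c ^ 2) x) y = (kap x ((c ^ 6) y))⁻¹ := by
      rw [kap_adj kap c hinv (k := 2) (l := 14) (by norm_num; exact hc16), ← map_inv, ← hc8,
        pow_pow_apply]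
    have e2 : kap ((c ^ 6) x) y = (kap x ((c ^ 2) y))⁻¹ := by
      rw [kap_adj kap c hinv (k := 6) (l := 10) (by norm_num; exact hc16), ← map_inv, ← hc8,
        pow_pow_apply]
    rw [hS x, hS y, map_mul kap, MonoidHom.mul_apply, map_mul (kap x), e1, e2]
    group
  have hSc : ∀ x, S (c x) = c (S x) := by
    intro x
    have e : ∀ k : ℕ, (c ^ k) (c x) = c ((c ^ k) x) := by
      intro k
      rw [← MulAut.mul_apply, ← MulAut.mul_apply, ← pow_succ, ← pow_succ']
    rw [hS, hS, map_mul, e, e]
  have hk3 : ∀ x y, (kap x y) ^ 3 = 1 := by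
    intro x y
    rw [← MonoidHom.pow_apply, ← map_pow, hexp, map_one]; rfl
  have hu : ∀ u : Kˣ, u * u = 1 → u ^ 3 = 1 → u = 1 := by
    intro u h2 h3
    have : u ^ 3 = u := by rw [pow_succ, pow_two, h2, one_mul]
    rw [← this, h3]
  have hnt : Nontrivial M := by
    rw [← Finite.one_lt_card_iff_nontrivial, hcard]; norm_num
  obtain ⟨x, hx⟩ := exists_ne (1 : M)
  have h256 : ∀ (W : Subgroup M), (∀ a ∈ W, ∀ b ∈ W, kap a b = 1) → (∀ w ∈ W, c w ∈ W) →
      ∀ z ∈ W, z ≠ 1 → False := by
    intro W hW hcW z hz hz1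
    have := order_sq_le_of_iso kap c hnd hchar hsemi W hW hcW hz hz1
    rw [hord, hcard] at this
    omega
  by_cases hy : S x * x = 1
  · -- `S x = x⁻¹`
    let W : Subgroup M :=
      { carrier := {w | S w = w⁻¹}
        one_mem' := by
          show S 1 = 1⁻¹
          rw [map_one, inv_one]
        mul_mem' := by
          intro a b ha hb
          show S (a * b) = (a * b)⁻¹
          have ha' : S a = a⁻¹ := ha
          have hb' : S b = b⁻¹ := hb
          rw [map_mul, ha', hb', mul_inv]
        inv_mem' := by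
          intro a ha
          show S a⁻¹ = a⁻¹⁻¹
          have ha' : S a = a⁻¹ := ha
          rw [map_inv, ha'] }
    apply h256 W ?_ ?_ x (eq_inv_of_mul_eq_one_left hy) hx
    · intro a ha b hb
      have ha' : S a = a⁻¹ := ha
      have hb' : S b = b⁻¹ := hb
      have h := hSadj a b
      rw [ha', hb', map_inv kap, MonoidHom.inv_apply, map_inv (kap a)] at h
      have h3 : ((kap a b)⁻¹) ^ 3 = 1 := by rw [inv_pow, hk3, inv_one]
      have := hu _ h h3
      exact inv_eq_one.mp this
    · intro w hw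
      have hw' : S w = w⁻¹ := hw
      show S (c w) = (c w)⁻¹
      rw [hSc, hw', map_inv]
  · -- `y = S x * x` is fixed by `S`
    let W : Subgroup M :=
      { carrier := {w | S w = w}
        one_mem' := map_one S
        mul_mem' := by
          intro a b ha hb
          show S (a * b) = a * b
          have ha' : S a = a := ha
          have hb' : S b = b := hb
          rw [map_mul, ha', hb']
        inv_mem' := by
          intro a ha
          show S a⁻¹ = a⁻¹
          have ha' : S a = a := ha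
          rw [map_inv, ha'] }
    have hyW : S x * x ∈ W := by
      show S (S x * x) = S x * x
      rw [map_mul, hSS, mul_comm]
    apply h256 W ?_ ?_ (S x * x) hyW hy
    · intro a ha b hb
      have ha' : S a = a := ha
      have hb' : S b = b := hb
      have h := hSadj a b
      rw [ha', hb'] at h
      exact hu _ h (hk3 a b)
    · intro w hw
      have hw' : S w = w := hw
      show S (c w) = c w
      rw [hSc, hw']

end Cfsg.Agent.Helper18.Symp
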