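import Mathlib
import Cfsg.Agent.Lib.SG2N.SympB

/-!
# S3795, NO-STACKING block B3: the case `|M| = q²`

`c` semiregular, preserving a nondegenerate alternating bicharacter on `M` of order `q²` and
exponent `q`: the order of `c` divides `q - 1` or `q + 1` (`c + c⁻¹` is a scalar, then Frobenius).
-/

set_option autoImplicit false

namespace Cfsg.Agent.Helper18.Symp

section Scalar

variable {M : Type*} [CommGroup M] [Finite M]

theorem orderOf_eq_of_exp {q : ℕ} (hq : q.Prime) (hexp : ∀ x : M, x ^ q = 1) {x : M} (hx : x ≠ 1) :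
    orderOf x = q := by
  rcases (Nat.dvd_prime hq).mp (orderOf_dvd_of_pow_eq_one (hexp x)) with h | h
  · exact absurd (orderOf_eq_one_iff.mp h) hx
  · exact h

/-- an endomorphism of a non-cyclic group of exponent `q` fixing every cyclic subgroup is a power map -/
theorem exists_scalar {q : ℕ} (hq : q.Prime) (hcard : Nat.card M = q ^ 2) (hexp : ∀ x : M, x ^ q = 1)
    (T : M →* M) (hT : ∀ x, T x ∈ Subgroup.zpowers x) : ∃ y : ℕ, ∀ x, T x = x ^ y := by
  have hq1 : 1 < q := hq.one_lt
  have hnt : Nontrivial M := by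
    rw [← Finite.one_lt_card_iff_nontrivial, hcard]
    exact Nat.one_lt_pow (by norm_num) hq1
  have hpow : ∀ x : M, ∃ a : ℕ, x ^ a = T x := by
    intro x
    have h1 : T x ∈ Submonoid.powers x :=
      (isOfFinOrder_of_finite x).mem_powers_iff_mem_zpowers.mpr (hT x)
    exact (Submonoid.mem_powers_iff _ _).mp h1
  obtain ⟨x0, hx0⟩ := exists_ne (1 : M)
  have ho0 : orderOf x0 = q := orderOf_eq_of_exp hq hexp hx0
  obtain ⟨a, ha⟩ := hpow x0
  refine ⟨a, ?_⟩
  intro x
  by_cases hx : x ∈ Subgroup.zpowers x0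
  · obtain ⟨m, rfl⟩ := hx
    rw [map_zpow, ← ha, ← zpow_natCast, ← zpow_natCast, ← zpow_mul, ← zpow_mul, mul_comm]
  · have hx1 : x ≠ 1 := fun h => hx (h ▸ Subgroup.one_mem _)
    have hox : orderOf x = q := orderOf_eq_of_exp hq hexp hx1
    obtain ⟨b, hb⟩ := hpow x
    obtain ⟨d, hd⟩ := hpow (x0 * x)
    rw [map_mul, ← ha, ← hb, mul_pow] at hd
    -- `x0^d * x^d = x0^a * x^b`
    have hu : x0 ^ d / x0 ^ a = x ^ b / x ^ d := by
      rw [div_eq_div_iff_mul_eq_mul, hd, mul_comm]
    -- the intersection of the two cyclic subgroups is trivial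
    have hint : Subgroup.zpowers x ⊓ Subgroup.zpowers x0 = ⊥ := by
      have hdvd : Nat.card ↥(Subgroup.zpowers x ⊓ Subgroup.zpowers x0) ∣ q := by
        have := Subgroup.card_dvd_of_le
          (inf_le_left : Subgroup.zpowers x ⊓ Subgroup.zpowers x0 ≤ Subgroup.zpowers x)
        rwa [Nat.card_zpowers, hox] at this
      rcases (Nat.dvd_prime hq).mp hdvd with h | h
      · exact Subgroup.card_eq_one.mp h
      · exfalso
        have heq : Subgroup.zpowers x ⊓ Subgroup.zpowers x0 = Subgroup.zpowers x := by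
          apply Subgroup.eq_of_le_of_card_ge inf_le_left
          rw [h, Nat.card_zpowers, hox]
        apply hx
        have : x ∈ Subgroup.zpowers x ⊓ Subgroup.zpowers x0 := by
          rw [heq]; exact Subgroup.mem_zpowers x
        exact this.2
    have hu1 : x ^ b / x ^ d = 1 := by
      have hmem : x ^ b / x ^ d ∈ Subgroup.zpowers x ⊓ Subgroup.zpowers x0 := by
        constructor
        · exact Subgroup.div_mem _ (Subgroup.pow_mem _ (Subgroup.mem_zpowers x) _)
            (Subgroup.pow_mem _ (Subgroup.mem_zpowers x) _)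
        · rw [← hu]
          exact Subgroup.div_mem _ (Subgroup.pow_mem _ (Subgroup.mem_zpowers x0) _)
            (Subgroup.pow_mem _ (Subgroup.mem_zpowers x0) _)
      rw [hint] at hmem
      exact Subgroup.mem_bot.mp hmem
    have hbd : x ^ b = x ^ d := div_eq_one.mp hu1
    have hda : x0 ^ d = x0 ^ a := by
      rw [hu1] at hu
      exact div_eq_one.mp hu
    have hmod : d ≡ a [MOD q] := by
      rw [← ho0]; exact pow_eq_pow_iff_modEq.mp hda
    have hda' : x ^ d = x ^ a := by
      apply pow_eq_pow_iff_modEq.mpr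
      rw [hox]; exact hmod
    rw [← hb, hbd, hda']

end Scalar

section Perp

variable {M : Type*} [CommGroup M] [Finite M] {K : Type*} [Field K] (kap : M →* M →* Kˣ)

/-- in order `q²`, the orthogonal of a nontrivial element is the cyclic group it generates -/
theorem mem_zpowers_of_perp {q : ℕ} (hq : q.Prime) (hcard : Nat.card M = q ^ 2)
    (hexp : ∀ x : M, x ^ q = 1) (halt : ∀ x, kap x x = 1)
    (hnd : ∀ x, (∀ y, kap x y = 1) → x = 1) {x y : M} (hx : x ≠ 1) (h : kap x y = 1) :
    y ∈ Subgroup.zpowers x := by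
  have hox : orderOf x = q := orderOf_eq_of_exp hq hexp hx
  have hle : Subgroup.zpowers x ≤ (kap x).ker := by
    rw [Subgroup.zpowers_le, MonoidHom.mem_ker]
    exact halt x
  have hne : (kap x).ker ≠ ⊤ := by
    intro htop
    apply hx
    apply hnd
    intro z
    have : z ∈ (kap x).ker := by rw [htop]; exact Subgroup.mem_top z
    exact MonoidHom.mem_ker.mp this
  have hdvd : Nat.card ↥(kap x).ker ∣ q ^ 2 := hcard ▸ Subgroup.card_subgroup_dvd_card _
  obtain ⟨m, hm, hcm⟩ := (Nat.dvd_prime_pow hq).mp hdvd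
  have hge : q ≤ Nat.card ↥(kap x).ker := by
    have := Subgroup.card_le_of_le hle
    rwa [Nat.card_zpowers, hox] at this
  have hm2 : m ≠ 2 := by
    intro h2
    apply hne
    apply (Subgroup.card_eq_iff_eq_top _).mp
    rw [hcm, h2, hcard]
  have hm0 : m ≠ 0 := by
    intro h0
    rw [hcm, h0, pow_zero] at hge
    have := hq.one_lt
    omega
  have hm1 : m = 1 := by omega
  have heq : Subgroup.zpowers x = (kap x).ker := by
    apply Subgroup.eq_of_le_of_card_ge hle
    rw [hcm, hm1, pow_one, Nat.card_zpowers, hox]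
  rw [heq, MonoidHom.mem_ker]
  exact h

end Perp

end Cfsg.Agent.Helper18.Symp
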