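import Mathlib
import Cfsg.Agent.Lib.SG2N.SympD

/-!
# S3795, NO-STACKING block B3: the case `|M| = q²`, conclusion
-/

set_option autoImplicit false

namespace Cfsg.Agent.Helper18.Symp

section Ring

variable (M : Type*) [CommGroup M]

/-- automorphisms of `M` as elements of the endomorphism ring of `Additive M` -/
def toEnd : MulAut M →* AddMonoid.End (Additive M) where
  toFun c := MonoidHom.toAdditive c.toMonoidHom
  map_one' := rfl
  map_mul' _ _ := rfl

variable {M}

theorem toEnd_apply (c : MulAut M) (x : M) :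
    toEnd M c (Additive.ofMul x) = Additive.ofMul (c x) := rfl

end Ring

variable {M : Type*} [CommGroup M] [Finite M] {K : Type*} [Field K] (kap : M →* M →* Kˣ)
  (c : MulAut M)

theorem dvd_of_card_sq {q : ℕ} (hq : q.Prime) (hcard : Nat.card M = q ^ 2)
    (hexp : ∀ x : M, x ^ q = 1) (halt : ∀ x, kap x x = 1)
    (hnd : ∀ x, (∀ y, kap x y = 1) → x = 1) (hinv : ∀ x y, kap (c x) (c y) = kap x y)
    (hsemi : ∀ (k : ℕ) (x : M), (c ^ k) x = x → x ≠ 1 → c ^ k = 1) :
    orderOf c ∣ q - 1 ∨ orderOf c ∣ q + 1 := by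
  have hq1 : 1 < q := hq.one_lt
  let T : M →* M := c.toMonoidHom * (c⁻¹ : MulAut M).toMonoidHom
  have hTdef : ∀ x, T x = c x * c⁻¹ x := fun x => rfl
  -- `kap (T x) x = 1`
  have hTperp : ∀ x, kap x (T x) = 1 := by
    intro x
    apply kap_symm_one kap halt
    rw [hTdef, map_mul, MonoidHom.mul_apply]
    have e : kap (c⁻¹ x) x = kap x (c x) := by
      rw [← hinv (c⁻¹ x) x, MulAut.apply_inv_self]
    rw [e]
    exact kap_skew kap halt _ _
  have hTz : ∀ x, T x ∈ Subgroup.zpowers x := by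
    intro x
    by_cases hx : x = 1
    · rw [hx, map_one]; exact Subgroup.one_mem _
    · exact mem_zpowers_of_perp kap hq hcard hexp halt hnd hx (hTperp x)
  obtain ⟨y, hy⟩ := exists_scalar hq hcard hexp T hTz
  -- the ring
  have hfact : Fact q.Prime := ⟨hq⟩
  have hnt : Nontrivial M := by
    rw [← Finite.one_lt_card_iff_nontrivial, hcard]
    exact Nat.one_lt_pow (by norm_num) hq1
  have hntR : Nontrivial (AddMonoid.End (Additive M)) := by
    obtain ⟨x, hx⟩ := exists_ne (1 : M)
    refine ⟨⟨0, 1, fun h => hx ?_⟩⟩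
    have := DFunLike.congr_fun h (Additive.ofMul x)
    exact (Additive.ofMul.injective this).symm
  have hq0 : ((q : ℕ) : AddMonoid.End (Additive M)) = 0 := by
    apply AddMonoidHom.ext
    intro v
    show q • v = 0
    have : v = Additive.ofMul (Additive.toMul v) := rfl
    rw [this, ← ofMul_pow, hexp]; rfl
  have hchar : CharP (AddMonoid.End (Additive M)) q := (CharP.charP_iff_prime_eq_zero hq).mpr hq0
  have hT' : toEnd M c + toEnd M c⁻¹ = ((y : ℕ) : AddMonoid.End (Additive M)) := by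
    apply AddMonoidHom.ext
    intro v
    have hv : v = Additive.ofMul (Additive.toMul v) := rfl
    show (toEnd M c + toEnd M c⁻¹) v = y • v
    rw [hv, ← ofMul_pow, ← hy, hTdef]
    rfl
  have h1 : toEnd M c * toEnd M c⁻¹ = 1 := by rw [← map_mul, mul_inv_cancel, map_one]
  have h2 : toEnd M c⁻¹ * toEnd M c = 1 := by rw [← map_mul, inv_mul_cancel, map_one]
  have hF := frob_core (toEnd M c) (toEnd M c⁻¹) h1 h2 y hT'
  rw [← map_pow, ← map_pow] at hF
  have key : ∀ x : M, (c ^ (q + 1)) ((c ^ (q - 1)) x / x) = (c ^ (q - 1)) x / x := by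
    intro x
    have h := DFunLike.congr_fun hF (Additive.ofMul x)
    have e1 : ((toEnd M (c ^ (q + 1)) - 1) * (toEnd M (c ^ (q - 1)) - 1)) (Additive.ofMul x) =
        Additive.ofMul ((c ^ (q + 1)) ((c ^ (q - 1)) x / x) / ((c ^ (q - 1)) x / x)) := rfl
    rw [e1] at h
    have h' : (c ^ (q + 1)) ((c ^ (q - 1)) x / x) / ((c ^ (q - 1)) x / x) = 1 :=
      Additive.ofMul.injective h
    exact div_eq_one.mp h'
  by_cases hall : ∀ x : M, (c ^ (q - 1)) x = x
  · left
    apply orderOf_dvd_of_pow_eq_one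
    apply MulEquiv.ext
    intro x
    rw [hall x, MulAut.one_apply]
  · right
    push_neg at hall
    obtain ⟨x, hx⟩ := hall
    have hw : (c ^ (q - 1)) x / x ≠ 1 := fun h => hx (div_eq_one.mp h)
    exact orderOf_dvd_of_pow_eq_one (hsemi (q + 1) _ (key x) hw)

end Cfsg.Agent.Helper18.Symp
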