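import Mathlib
import Cfsg.Agent.Lib.SG2N.SympC
import Cfsg.Agent.Lib.SG2N.SympE

/-!
# S3795, NO-STACKING block B3 (designer helper8): the SYMPLECTIC CYCLIC lemma

`M` abelian of exponent `q` (odd) and order `q^(2i)` with a nondegenerate alternating bicharacter,
`c` a semiregular automorphism of order `2^j` preserving it, `q^i ≤ 2^j - 1`.  Then `q^i + 1 = 2^j`.
-/

set_option autoImplicit false

namespace Cfsg.Agent.Helper18.Symp

open Cfsg.Agent.Helper18

section Char

variable {M : Type*} [CommGroup M] [Finite M] {K : Type*} [Field K] (kap : M →* M →* Kˣ)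

/-- a nondegenerate bicharacter on a nontrivial group of exponent `q` forces `q ≠ 0` in `K` -/
theorem card_ne_zero_of_nd {q n : ℕ} (hq : q.Prime) (hcard : Nat.card M = q ^ n)
    (hexp : ∀ x : M, x ^ q = 1) (hnt : Nontrivial M)
    (hnd : ∀ x, (∀ y, kap x y = 1) → x = 1) : (Nat.card M : K) ≠ 0 := by
  intro h0
  rw [hcard, Nat.cast_pow] at h0
  have hq0 : (q : K) = 0 := eq_zero_of_pow_eq_zero h0
  have hfact : Fact q.Prime := ⟨hq⟩
  have hchar : CharP K q := (CharP.charP_iff_prime_eq_zero hq).mpr hq0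
  obtain ⟨x, hx⟩ := exists_ne (1 : M)
  apply hx
  apply hnd
  intro y
  have h1 : (kap x y) ^ q = 1 := by
    rw [← MonoidHom.pow_apply, ← map_pow, hexp, map_one]; rfl
  have h2 : ((kap x y : Kˣ) : K) ^ q = 1 := by
    rw [← Units.val_pow_eq_pow_val, h1, Units.val_one]
  have h3 : (((kap x y : Kˣ) : K) - 1) ^ q = 0 := by
    rw [sub_pow_char, h2, one_pow, sub_self]
  have h4 : ((kap x y : Kˣ) : K) - 1 = 0 := pow_eq_zero_iff (hq.ne_zero) |>.mp h3
  apply Units.ext
  rw [Units.val_one]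
  exact sub_eq_zero.mp h4

end Char

theorem symp_cyclic_aux {M : Type*} [CommGroup M] [Finite M] {K : Type*} [Field K] [IsAlgClosed K]
    {q i j : ℕ} (hq : q.Prime) (hq2 : q ≠ 2) (hcard : Nat.card M = q ^ (2 * i))
    (hexp : ∀ x : M, x ^ q = 1) (kap : M →* M →* Kˣ) (halt : ∀ x, kap x x = 1)
    (hnd : ∀ x, (∀ y, kap x y = 1) → x = 1) (c : MulAut M)
    (hinv : ∀ x y, kap (c x) (c y) = kap x y) (hord : orderOf c = 2 ^ j)
    (hsemi : ∀ (k : ℕ) (x : M), (c ^ k) x = x → x ≠ 1 → c ^ k = 1)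
    (hb : q ^ i ≤ 2 ^ j - 1) (hi : 1 ≤ i) : q ^ i + 1 = 2 ^ j := by
  have hqodd : q % 2 = 1 := by
    rcases hq.eq_two_or_odd with h | h
    · exact absurd h hq2
    · exact h
  have hq1 : 1 < q := hq.one_lt
  have hq3 : 3 ≤ q := by omega
  have hqi : q ≤ q ^ i := by
    calc q = q ^ 1 := (pow_one q).symm
      _ ≤ q ^ i := Nat.pow_le_pow_right (by omega) hi
  have hj : 1 ≤ j := by
    by_contra hcon
    have h0 : j = 0 := by omega
    rw [h0] at hb
    simp at hb
    omega
  have hmod := card_modEq_one_of_semireg c hsemi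
  rw [hord, hcard] at hmod
  have hs : (q ^ i) ^ 2 ≡ 1 [MOD 2 ^ j] := by
    rw [← pow_mul, mul_comm]; exact hmod
  -- arithmetic for the fake roots
  have harith : ∀ P : ℕ, 4 ≤ P → 2 ^ j = 2 * P → (q + 1 = P ∨ q = P + 1) →
      (2 ^ j ∣ q - 1 ∨ 2 ^ j ∣ q + 1) → False := by
    intro P hP h2j hcase hd
    rcases hcase with hc | hc <;> rcases hd with hd | hd
    · have := Nat.le_of_dvd (by omega) hd
      omega
    · have := Nat.le_of_dvd (by omega) hd
      omega
    · have := Nat.le_of_dvd (by omega) hd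
      omega
    · have := Nat.le_of_dvd (by omega) hd
      omega
  have hfake1 : 3 ≤ j → (q + 1 = 2 ^ (j - 1) ∨ q = 2 ^ (j - 1) + 1) →
      Nat.card M = q ^ 2 → False := by
    intro hj3 hcase hcard2
    have h2j : 2 ^ j = 2 * 2 ^ (j - 1) := by
      rw [← pow_succ', Nat.sub_add_cancel hj]
    have hP : 4 ≤ 2 ^ (j - 1) := by
      calc 4 = 2 ^ 2 := by norm_num
        _ ≤ 2 ^ (j - 1) := Nat.pow_le_pow_right (by norm_num) (by omega)
    have hd := dvd_of_card_sq kap c hq hcard2 hexp halt hnd hinv hsemi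
    rw [hord] at hd
    exact harith _ hP h2j hcase hd
  rcases SG2.arith_sq_two hj hs hb with h | h | ⟨hj3, h | h⟩
  · omega
  · exact h
  · have hi1 : i = 1 := SG2.pow_add_one_eq_two_pow hqodd hq1 hi h
    exfalso
    rw [hi1, pow_one] at h
    rw [hi1] at hcard
    exact hfake1 hj3 (Or.inl h) (by simpa using hcard)
  · rcases SG2.pow_eq_two_pow_add_one hqodd hq1 hi h with hi1 | ⟨hq3', hi2, hj4⟩
    · exfalso
      rw [hi1, pow_one] at h
      rw [hi1] at hcard
      exact hfake1 hj3 (Or.inr h) (by simpa using hcard)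
    · exfalso
      have hj4' : j = 4 := by omega
      rw [hq3', hi2] at hcard
      rw [hj4'] at hord
      rw [hq3'] at hexp
      have hcard' : Nat.card M = 81 := by rw [hcard]; norm_num
      have hnt : Nontrivial M := by
        rw [← Finite.one_lt_card_iff_nontrivial, hcard']; norm_num
      have hchar : (Nat.card M : K) ≠ 0 :=
        card_ne_zero_of_nd kap Nat.prime_three hcard hexp hnt hnd
      exact no_sixteen kap c hcard' hexp hnd hchar hinv (by rw [hord]; norm_num) hsemi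

end Cfsg.Agent.Helper18.Symp

namespace Cfsg.Agent.Helper8.SG2N

open Cfsg.Agent.Helper18.Symp

/-- **SYMPLECTIC CYCLIC lemma** (block B3 of the NO-STACKING theorem). -/
theorem symp_cyclic {M : Type*} [CommGroup M] [Finite M] {K : Type*} [Field K] {q i j : ℕ}
    (hq : q.Prime) (hq2 : q ≠ 2) (hcard : Nat.card M = q ^ (2 * i)) (hexp : ∀ x : M, x ^ q = 1)
    (kap : M →* M →* Kˣ) (halt : ∀ x, kap x x = 1) (hnd : ∀ x, (∀ y, kap x y = 1) → x = 1)
    (c : M ≃* M) (hinv : ∀ x y, kap (c x) (c y) = kap x y) (hord : orderOf c = 2 ^ j)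
    (hsemi : ∀ (k : ℕ) (x : M), (c ^ k) x = x → x ≠ 1 → c ^ k = 1)
    (hb : q ^ i ≤ 2 ^ j - 1) (hi : 1 ≤ i) : q ^ i + 1 = 2 ^ j := by
  let φ : Kˣ →* (AlgebraicClosure K)ˣ :=
    Units.map ((algebraMap K (AlgebraicClosure K) : K →+* AlgebraicClosure K) : K →* AlgebraicClosure K)
  have hφ : Function.Injective φ :=
    Units.map_injective (algebraMap K (AlgebraicClosure K)).injective
  let kap' : M →* M →* (AlgebraicClosure K)ˣ := (MonoidHom.compHom φ).comp kap
  have hk : ∀ x y, kap' x y = φ (kap x y) := fun x y => rfl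
  refine symp_cyclic_aux hq hq2 hcard hexp kap' ?_ ?_ c ?_ hord hsemi hb hi
  · intro x
    rw [hk, halt, map_one]
  · intro x hx
    apply hnd x
    intro y
    apply hφ
    rw [← hk, hx y, map_one]
  · intro x y
    rw [hk, hk, hinv]

end Cfsg.Agent.Helper8.SG2N
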