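import Mathlib
import Cfsg.Agent.Lib.SG2N.NSL1Q
import Cfsg.Agent.Lib.SG2N.Symp
import Cfsg.Agent.Lib.Helper18.SG2Arith

/-! S3795 NO-STACKING block B1 (designer helper8): in the Hall–Higman setting with `E` a cyclic
`2`-group and `M / N` of odd prime exponent `q`, the section has order `q²` and `|E| = q + 1`
(`hh_bound` + `hh_square` + `symp_cyclic` + arithmetic). -/

set_option autoImplicit false
set_option linter.unusedSectionVars false
set_option linter.style.haveILetI false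

namespace Cfsg.Agent.Helper8.SG2N

open Module Cfsg.Agent.Helper8.FrobLin Cfsg.Agent.Helper8.HHLin

/-- `symp_cyclic` for a group with a commutativity hypothesis instead of a `CommGroup` instance -/
theorem symp_cyclic_grp {M : Type*} [Group M] [Finite M] (hc : ∀ a b : M, a * b = b * a)
    {K : Type*} [Field K] {q i j : ℕ}
    (hq : q.Prime) (hq2 : q ≠ 2) (hcard : Nat.card M = q ^ (2 * i)) (hexp : ∀ x : M, x ^ q = 1)
    (kap : M →* M →* Kˣ) (halt : ∀ x, kap x x = 1) (hnd : ∀ x, (∀ y, kap x y = 1) → x = 1)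
    (c : M ≃* M) (hinv : ∀ x y, kap (c x) (c y) = kap x y) (hord : orderOf c = 2 ^ j)
    (hsemi : ∀ (k : ℕ) (x : M), (c ^ k) x = x → x ≠ 1 → c ^ k = 1)
    (hb : q ^ i ≤ 2 ^ j - 1) (hi : 1 ≤ i) : q ^ i + 1 = 2 ^ j := by
  letI : CommGroup M := { (inferInstance : Group M) with mul_comm := hc }
  exact symp_cyclic hq hq2 hcard hexp kap halt hnd c hinv hord hsemi hb hi

section HHSymp

variable {F : Type*} [Field F] [IsAlgClosed F] {G : Type*} [Group G] [Finite G]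
  {V : Type*} [AddCommGroup V] [Module F V] [FiniteDimensional F V]
  (ρ : Representation F G V) (M N : Subgroup G) [M.Normal] [N.Normal]

attribute [local instance] dualAct

/-- PIECE NSL1-SYMPCORE: apply `symp_cyclic_grp` to `↥M ⧸ N.subgroupOf M` with the pairing `qpair` and
`c := qconj M N e₀` for a generator `e₀` of `E` (`qm_comm`, `qpair_self`, `qpair_nondeg`, `qpair_conj`,
`qconj_pow`, `qconj_mk_eq_iff`; the order of `c` is `|E|` and `c` is semiregular by `hfpf`, as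
`N ≠ M`; exponent `q` from `hexp`; `|M / N| = q^(2i)` from `hi2`). -/
theorem hh_symp_core (E : Subgroup G) (hNM : N ≤ M)
    (hcomm : ∀ a ∈ M, ∀ b ∈ M, a * b * a⁻¹ * b⁻¹ ∈ N)
    (lam : ↥N →* Fˣ) (hlam : ∀ (z : ↥N) (v : V), ρ (z : G) v = ((lam z : Fˣ) : F) • v)
    (hnd : ∀ g ∈ M, (∀ y ∈ M, ρ (y * g * y⁻¹ * g⁻¹) = 1) → g ∈ N)
    (hfpf : ∀ e ∈ E, e ≠ 1 → ∀ m ∈ M, e * m * e⁻¹ * m⁻¹ ∈ N → m ∈ N)
    (hEc : IsCyclic ↥E) (hV : 0 < finrank F V)
    {q i j : ℕ} (hq : q.Prime) (hq2 : q ≠ 2) (hexp : ∀ a ∈ M, a ^ q ∈ N)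
    (hi2 : Nat.card ↥M = q ^ (2 * i) * Nat.card ↥N) (hj : Nat.card ↥E = 2 ^ j)
    (hb : q ^ i ≤ 2 ^ j - 1) (hi : 1 ≤ i) : q ^ i + 1 = 2 ^ j := by
  classical
  haveI := hEc
  obtain ⟨e0, he0⟩ := IsCyclic.exists_generator (α := ↥E)
  have hord0 : orderOf e0 = Nat.card ↥E := orderOf_eq_card_of_forall_mem_zpowers he0
  have hg0E : (e0 : G) ∈ E := e0.2
  have hordg : orderOf (e0 : G) = 2 ^ j := by
    rw [Subgroup.orderOf_coe, hord0, hj]
  -- an element of `M` outside `N`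
  have hNpos : 0 < Nat.card ↥N := Nat.card_pos
  obtain ⟨m0, hm0M, hm0N⟩ : ∃ m ∈ M, m ∉ N := by
    by_contra hcon
    push Not at hcon
    have hMN : M = N := le_antisymm hcon hNM
    have h1 : Nat.card ↥M = Nat.card ↥N := by rw [hMN]
    rw [h1] at hi2
    have h2 : q ^ (2 * i) = 1 := by
      have h3 : 1 * Nat.card ↥N = q ^ (2 * i) * Nat.card ↥N := by rw [one_mul]; exact hi2
      exact (Nat.eq_of_mul_eq_mul_right hNpos h3).symm
    have h4 : 1 < q ^ (2 * i) := Nat.one_lt_pow (by omega) hq.one_lt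
    omega
  -- the data
  have hcardQ : Nat.card (↥M ⧸ N.subgroupOf M) = q ^ (2 * i) := by
    have h1 := Subgroup.card_eq_card_quotient_mul_card_subgroup (N.subgroupOf M)
    have h2 : Nat.card ↥(N.subgroupOf M) = Nat.card ↥N :=
      Nat.card_congr (Subgroup.subgroupOfEquivOfLe hNM).toEquiv
    rw [h2, hi2] at h1
    exact (Nat.eq_of_mul_eq_mul_right hNpos h1).symm
  have hexpQ : ∀ x : ↥M ⧸ N.subgroupOf M, x ^ q = 1 := by
    intro x
    induction x using QuotientGroup.induction_on with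
    | H m =>
      rw [← QuotientGroup.mk_pow, QuotientGroup.eq_one_iff, Subgroup.mem_subgroupOf,
        Subgroup.coe_pow]
      exact hexp (m : G) m.2
  have hone : qconj M N (1 : G) = 1 := by
    have h := qconj_pow M N (e0 : G) 0
    rw [pow_zero, pow_zero] at h
    exact h
  have hA1 : ∀ k : ℕ, (e0 : G) ^ k = 1 → (qconj M N (e0 : G)) ^ k = 1 := by
    intro k hk
    rw [← qconj_pow, hk, hone]
  have hfixN : ∀ (k : ℕ) (m : ↥M), ((qconj M N (e0 : G)) ^ k) (QuotientGroup.mk m) =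
      QuotientGroup.mk m → (m : G) ∉ N → (e0 : G) ^ k = 1 := by
    intro k m hk hmN
    by_contra hne
    apply hmN
    rw [← qconj_pow] at hk
    exact hfpf ((e0 : G) ^ k) (E.pow_mem hg0E k) hne (m : G) m.2
      ((qconj_mk_eq_iff M N ((e0 : G) ^ k) m).mp hk)
  have hA2 : ∀ k : ℕ, (qconj M N (e0 : G)) ^ k = 1 → (e0 : G) ^ k = 1 := by
    intro k hk
    apply hfixN k ⟨m0, hm0M⟩ _ hm0N
    rw [hk]
    rfl
  have hordc : orderOf (qconj M N (e0 : G)) = 2 ^ j := by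
    rw [← hordg]
    apply Nat.dvd_antisymm
    · exact orderOf_dvd_of_pow_eq_one (hA1 _ (pow_orderOf_eq_one _))
    · exact orderOf_dvd_of_pow_eq_one (hA2 _ (pow_orderOf_eq_one _))
  have hsemi : ∀ (k : ℕ) (x : ↥M ⧸ N.subgroupOf M), ((qconj M N (e0 : G)) ^ k) x = x → x ≠ 1 →
      (qconj M N (e0 : G)) ^ k = 1 := by
    intro k x hx hx1
    induction x using QuotientGroup.induction_on with
    | H m =>
      apply hA1
      apply hfixN k m hx
      intro hmN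
      apply hx1
      rw [QuotientGroup.eq_one_iff, Subgroup.mem_subgroupOf]
      exact hmN
  exact symp_cyclic_grp (qm_comm M N hcomm) hq hq2 hcardQ hexpQ
    (qpair ρ M N hcomm lam hlam hV) (qpair_self ρ M N hcomm lam hlam hV)
    (fun a ha => qpair_nondeg ρ M N hcomm lam hlam hV hnd a ha)
    (qconj M N (e0 : G)) (fun x y => qpair_conj ρ M N hcomm lam hlam hV (e0 : G) x y)
    hordc hsemi hb hi

/-- PIECE NSL1-SYMP: `|M : N| = q²` and `|E| = q + 1`.  (`hh_square`: `|M| = t²|N|`; `M` a `q`-group so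
`t = q^i`, `i ≥ 1` by `hne`; `hh_bound` (with `hab` from cyclic): `t ≤ |E| - 1`; `|E| = 2^j`;
`hh_symp_core`: `q^i + 1 = 2^j`; `Cfsg.Agent.Helper18.SG2.pow_add_one_eq_two_pow`: `i = 1`.) -/
theorem hh_symp (E : Subgroup G) (hNM : N ≤ M)
    (hcomm : ∀ a ∈ M, ∀ b ∈ M, a * b * a⁻¹ * b⁻¹ ∈ N)
    (lam : ↥N →* Fˣ) (hlam : ∀ (z : ↥N) (v : V), ρ (z : G) v = ((lam z : Fˣ) : F) • v)
    (hnd : ∀ g ∈ M, (∀ y ∈ M, ρ (y * g * y⁻¹ * g⁻¹) = 1) → g ∈ N)
    (hfpf : ∀ e ∈ E, e ≠ 1 → ∀ m ∈ M, e * m * e⁻¹ * m⁻¹ ∈ N → m ∈ N)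
    (hEc : IsCyclic ↥E) (hE2 : IsPGroup 2 ↥E)
    (hcharM : (Nat.card ↥M : F) ≠ 0) (hcharE : (Nat.card ↥E : F) ≠ 0)
    (hfix : fixedBy ρ E = ⊥) (hV : 0 < finrank F V)
    {q : ℕ} (hq : q.Prime) (hq2 : q ≠ 2) (hMq : IsPGroup q ↥M) (hexp : ∀ a ∈ M, a ^ q ∈ N)
    (hne : ∃ g ∈ M, g ∉ N) :
    Nat.card ↥M = q ^ 2 * Nat.card ↥N ∧ Nat.card ↥E = q + 1 := by
  haveI : Fact q.Prime := ⟨hq⟩
  haveI : Fact (Nat.Prime 2) := ⟨Nat.prime_two⟩
  obtain ⟨s, hs⟩ := hh_square ρ M N hcomm lam hlam hV hNM hnd hcharM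
  obtain ⟨a, ha⟩ := hMq.exists_card_eq
  obtain ⟨c, hc⟩ := (hMq.to_le hNM).exists_card_eq
  obtain ⟨j, hj⟩ := hE2.exists_card_eq
  have hab : ∀ x ∈ E, ∀ y ∈ E, x * y = y * x := by
    intro x hx y hy
    haveI := hEc
    have h3 := (IsCyclic.isMulCommutative (α := ↥E)).is_comm.comm ⟨x, hx⟩ ⟨y, hy⟩
    exact congrArg Subtype.val h3
  have hbd := hh_bound ρ M N E hNM hcomm lam hlam hnd hfpf hab hcharM hcharE hfix hV
  have hNpos : 0 < Nat.card ↥N := Nat.card_pos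
  have hqpos : 0 < q := hq.pos
  -- `c ≤ a`
  have hca : c ≤ a := by
    have hdvd : Nat.card ↥N ∣ Nat.card ↥M := Subgroup.card_dvd_of_le hNM
    rw [ha, hc] at hdvd
    exact (Nat.pow_dvd_pow_iff_le_right hq.one_lt).mp hdvd
  -- `s ^ 2 = q ^ (a - c)`
  have hs2 : s ^ 2 = q ^ (a - c) := by
    have h1 : q ^ a = q ^ (a - c) * q ^ c := by
      rw [← pow_add, Nat.sub_add_cancel hca]
    have h2 : s ^ 2 * q ^ c = q ^ (a - c) * q ^ c := by
      rw [← h1, ← ha, ← hc, hs]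
    exact Nat.eq_of_mul_eq_mul_right (pow_pos hqpos c) h2
  -- `s = q ^ i`
  have hsd : s ∣ q ^ (a - c) := by
    rw [← hs2]
    exact dvd_pow_self s (by norm_num)
  obtain ⟨i, _, hsi⟩ := (Nat.dvd_prime_pow hq).mp hsd
  have hcardM : Nat.card ↥M = q ^ (2 * i) * Nat.card ↥N := by
    rw [hs, hsi, ← pow_mul, mul_comm i 2]
  -- `1 ≤ i`
  have hi : 1 ≤ i := by
    by_contra hcon
    have hi0 : i = 0 := by omega
    rw [hi0, Nat.mul_zero, pow_zero, one_mul] at hcardM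
    obtain ⟨g, hgM, hgN⟩ := hne
    apply hgN
    have hfin : Finite ↥M := inferInstance
    have heq : N = M := by
      apply Subgroup.eq_of_le_of_card_ge hNM
      rw [hcardM]
    rw [heq]
    exact hgM
  -- `q ^ i ≤ 2 ^ j - 1`
  have hb : q ^ i ≤ 2 ^ j - 1 := by
    rw [hs, hj, hsi] at hbd
    have h1 : (q ^ i) ^ 2 ≤ (2 ^ j - 1) ^ 2 := Nat.le_of_mul_le_mul_right hbd hNpos
    exact (Nat.pow_le_pow_iff_left (by norm_num)).mp h1
  have hcore := hh_symp_core ρ M N E hNM hcomm lam hlam hnd hfpf hEc hV hq hq2 hexp hcardM hj hb hi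
  have hqodd : q % 2 = 1 := by
    rcases hq.eq_two_or_odd with h | h
    · exact absurd h hq2
    · exact h
  have hi1 : i = 1 :=
    Cfsg.Agent.Helper18.SG2.pow_add_one_eq_two_pow hqodd hq.one_lt hi hcore
  rw [hi1] at hcardM hcore
  rw [pow_one] at hcore
  refine ⟨by rw [hcardM], ?_⟩
  rw [hj, ← hcore]

/-- the tight conclusion in this situation (assembled) -/
theorem hh_symp_comm (E : Subgroup G) (hNM : N ≤ M)
    (hcomm : ∀ a ∈ M, ∀ b ∈ M, a * b * a⁻¹ * b⁻¹ ∈ N)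
    (lam : ↥N →* Fˣ) (hlam : ∀ (z : ↥N) (v : V), ρ (z : G) v = ((lam z : Fˣ) : F) • v)
    (hnd : ∀ g ∈ M, (∀ y ∈ M, ρ (y * g * y⁻¹ * g⁻¹) = 1) → g ∈ N)
    (hfpf : ∀ e ∈ E, e ≠ 1 → ∀ m ∈ M, e * m * e⁻¹ * m⁻¹ ∈ N → m ∈ N)
    (hEc : IsCyclic ↥E) (hE2 : IsPGroup 2 ↥E)
    (hcharM : (Nat.card ↥M : F) ≠ 0) (hcharE : (Nat.card ↥E : F) ≠ 0)
    (hfix : fixedBy ρ E = ⊥) (hV : 0 < finrank F V)
    {q : ℕ} (hq : q.Prime) (hq2 : q ≠ 2) (hMq : IsPGroup q ↥M) (hexp : ∀ a ∈ M, a ^ q ∈ N)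
    (hne : ∃ g ∈ M, g ∉ N)
    (T : V →ₗ[F] V) (hT : ∀ m ∈ M, ρ m * T = T * ρ m) :
    ∀ e ∈ E, ρ e * T = T * ρ e := by
  obtain ⟨h1, h2⟩ := hh_symp ρ M N E hNM hcomm lam hlam hnd hfpf hEc hE2 hcharM hcharE hfix hV
    hq hq2 hMq hexp hne
  have hab : ∀ a ∈ E, ∀ b ∈ E, a * b = b * a := by
    intro a ha b hb
    haveI := hEc
    have h3 := (IsCyclic.isMulCommutative (α := ↥E)).is_comm.comm ⟨a, ha⟩ ⟨b, hb⟩
    exact congrArg Subtype.val h3
  refine hh_tight_comm ρ M N E hNM hcomm lam hlam hnd hfpf hab hcharM hcharE hfix hV ?_ T hT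
  rw [h1, h2, Nat.add_sub_cancel]

end HHSymp

end Cfsg.Agent.Helper8.SG2N
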