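import Mathlib
import Cfsg.Agent.Lib.SG2N.NSL1Symp
import Cfsg.Agent.Lib.SG3.SGFKHHL

/-! S3795 NO-STACKING block B1 (designer helper8): the LOCAL Hall–Higman analysis in the tight situation
(`B` a cyclic `2`-group acting fixed-point-freely on `Q / R` of odd prime exponent `q`): for every
second-level weight `μ` the stabiliser of `μ` in `B` has order `q + 1`, `|Q : R| = q²`, and every operator
commuting with `ρ Q` commutes with the stabiliser on the weight space of `μ`. -/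

set_option autoImplicit false
set_option linter.unusedSectionVars false
set_option linter.style.haveILetI false

namespace Cfsg.Agent.Helper8.SG2N

open Module Cfsg.Agent.Helper8.FrobLin Cfsg.Agent.Helper8.HHLin Cfsg.Agent.Helper23.SGF

universe u v w

attribute [local instance] dualAct

/-- auxiliary form of `hh_local_mu` with `N`, `R` as variables -/
theorem nsl1_mu_aux {F : Type w} [Field F] [IsAlgClosed F] {H : Type u} [Group H] [Finite H]
    {W : Type v} [AddCommGroup W] [Module F W] [FiniteDimensional F W]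
    (ρ : Representation F H W) (Q B : Subgroup H) [Q.Normal]
    (N R : Subgroup H) [hNn : N.Normal] [hRn : R.Normal] (hN : N = kerIn ρ Q)
    (hR : R = relCenter Q N)
    (hBc : IsCyclic ↥B) (hB2 : IsPGroup 2 ↥B)
    (hcharQ : (Nat.card ↥Q : F) ≠ 0) (h2F : (2 : F) ≠ 0)
    (hfix : fixedBy ρ B = ⊥)
    (hscal : ∀ g ∈ Q, ∀ h ∈ Q, ∃ c : F, ρ (g * h * g⁻¹ * h⁻¹) = c • (1 : W →ₗ[F] W))
    (hfpf : ∀ e ∈ B, e ≠ 1 → ∀ m ∈ Q, e * m * e⁻¹ * m⁻¹ ∈ R → m ∈ R)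
    {q : ℕ} (hq : q.Prime) (hq2 : q ≠ 2) (hQ : IsPGroup q ↥Q)
    (hexp : ∀ a ∈ Q, a ^ q ∈ R)
    (hne : ∃ g ∈ Q, g ∉ R)
    [Fintype ↥R]
    (μ : (↥R ⧸ N.subgroupOf R) →* Fˣ)
    (hμ : wproj ρ R N μ ≠ 0) :
    Nat.card ↥Q = q ^ 2 * Nat.card ↥R ∧
    Nat.card ↥(B ⊓ MulAction.stabilizer H μ) = q + 1 ∧
    ∀ T : W →ₗ[F] W, (∀ g ∈ Q, ρ g * T = T * ρ g) →
      ∀ b ∈ B ⊓ MulAction.stabilizer H μ,
        ∀ w ∈ LinearMap.range (wproj ρ R N μ),
          ρ b (T w) = T (ρ b w) := by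
  classical
  have hab : ∀ a ∈ B, ∀ b ∈ B, a * b = b * a := by
    intro x hx y hy
    haveI := hBc
    have h3 := (IsCyclic.isMulCommutative (α := ↥B)).is_comm.comm ⟨x, hx⟩ ⟨y, hy⟩
    exact congrArg Subtype.val h3
  have hcharB : (Nat.card ↥B : F) ≠ 0 := by
    haveI : Fact (Nat.Prime 2) := ⟨Nat.prime_two⟩
    obtain ⟨k, hk⟩ := hB2.exists_card_eq
    rw [hk]
    push_cast
    exact pow_ne_zero k h2F
  have hNQ : N ≤ Q := by rw [hN]; exact kerIn_le ρ Q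
  have hRQ : R ≤ Q := by rw [hR]; exact relCenter_le Q N
  have hNR : N ≤ R := by rw [hR]; exact le_relCenter hNQ
  have hRcomm : ∀ a ∈ R, ∀ b ∈ R, a * b * a⁻¹ * b⁻¹ ∈ N := by rw [hR]; exact relCenter_comm Q N
  -- commutators of `Q` lie in `R`
  have hcommQ : ∀ a ∈ Q, ∀ b ∈ Q, a * b * a⁻¹ * b⁻¹ ∈ Q := fun a ha b hb =>
    Q.mul_mem (Q.mul_mem (Q.mul_mem ha hb) (Q.inv_mem ha)) (Q.inv_mem hb)
  have hQQR : ∀ a ∈ Q, ∀ b ∈ Q, a * b * a⁻¹ * b⁻¹ ∈ R := by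
    intro a ha b hb
    rw [hR, mem_relCenter]
    refine ⟨hcommQ a ha b hb, ?_⟩
    intro u hu
    rw [hN, mem_kerIn]
    refine ⟨hcommQ _ (hcommQ a ha b hb) u hu, ?_⟩
    obtain ⟨c, hc⟩ := hscal a ha b hb
    rw [← rho_comm_iff_commutator, hc]
    rw [smul_mul_assoc, one_mul, mul_smul_comm, mul_one]
  -- characteristic
  have hcharR : (Nat.card ↥R : F) ≠ 0 := by
    intro h0
    apply hcharQ
    obtain ⟨k, hk⟩ := Subgroup.card_dvd_of_le hRQ
    rw [hk]; push_cast; rw [h0, zero_mul]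
  have hμ' : wproj ρ R N μ ≠ 0 := hμ
  -- the weight space and the stabiliser
  set W' : Submodule F W := LinearMap.range (wproj ρ R N μ) with hW'
  have hW'ne : W' ≠ ⊥ := by
    intro h
    apply hμ'
    rw [hW', LinearMap.range_eq_bot] at h
    exact h
  set H' : Subgroup H := MulAction.stabilizer H μ with hH'
  have hQH' : Q ≤ H' := by
    intro g hg
    rw [hH', MulAction.mem_stabilizer_iff]
    have hcs : ∀ g ∈ Q, g • μ = μ := by
      subst hR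
      intro g hg
      exact central_smul Q N hg μ
    exact hcs g hg
  have hRH' : R ≤ H' := hRQ.trans hQH'
  set B' : Subgroup H := B ⊓ H' with hB'
  have hB'B : B' ≤ B := inf_le_left
  have hB'H' : B' ≤ H' := inf_le_right
  -- no non-zero vector of `W'` is fixed by `B'`
  have hnofix : ∀ v ∈ W', (∀ a ∈ B', ρ a v = v) → v = 0 := by
    intro v hv hfixv
    apply stab_fixed_eq_zero ρ R N B hfix hcharR hcharB μ v hv
    intro a ha hsm
    apply hfixv a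
    exact ⟨ha, MulAction.mem_stabilizer_iff.mpr hsm⟩
  have hB'ne : B' ≠ ⊥ := by
    intro hbot
    apply hW'ne
    rw [eq_bot_iff]
    intro v hv
    rw [Submodule.mem_bot]
    apply hnofix v hv
    intro a ha
    rw [hbot, Subgroup.mem_bot] at ha
    rw [ha, map_one]
    rfl
  -- the restricted representation
  set ρH : Representation F ↥H' W := ρ.comp H'.subtype with hρH
  have hinvW' : ∀ g : ↥H', W' ≤ W'.comap (ρH g) := by
    intro g
    have hg : (g : H) • μ = μ := MulAction.mem_stabilizer_iff.mp g.2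
    exact range_wproj_le_comap ρ R N μ (g : H) hg
  set ρ' : Representation F ↥H' ↥W' := Representation.subrepresentation ρH W' hinvW' with hρ'
  have hρ'a : ∀ (g : ↥H') (w : ↥W'), ((ρ' g w : ↥W') : W) = ρ (g : H) (w : W) := fun g w => rfl
  have hV' : 0 < finrank F ↥W' := by
    rw [Module.finrank_pos_iff]
    exact (Submodule.nontrivial_iff_ne_bot).mpr hW'ne
  -- the subgroups of `H'`
  set M₁ : Subgroup ↥H' := Q.subgroupOf H' with hM₁
  set N₁ : Subgroup ↥H' := R.subgroupOf H' with hN₁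
  set E₁ : Subgroup ↥H' := B'.subgroupOf H' with hE₁
  haveI : M₁.Normal := Subgroup.normal_subgroupOf
  haveI : N₁.Normal := Subgroup.normal_subgroupOf
  have hN₁M₁ : N₁ ≤ M₁ := by
    intro x hx
    rw [hN₁, Subgroup.mem_subgroupOf] at hx
    rw [hM₁, Subgroup.mem_subgroupOf]
    exact hRQ hx
  have hcomm₁ : ∀ a ∈ M₁, ∀ b ∈ M₁, a * b * a⁻¹ * b⁻¹ ∈ N₁ := by
    intro a ha b hb
    rw [hM₁, Subgroup.mem_subgroupOf] at ha hb
    rw [hN₁, Subgroup.mem_subgroupOf]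
    exact hQQR _ ha _ hb
  -- the character
  let ι : ↥N₁ →* ↥R :=
    { toFun := fun z => ⟨((z : ↥H') : H), Subgroup.mem_subgroupOf.mp z.2⟩
      map_one' := rfl
      map_mul' := fun _ _ => rfl }
  set lam : ↥N₁ →* Fˣ := (μ.comp (QuotientGroup.mk' (N.subgroupOf R))).comp ι with hlamdef
  have hlam : ∀ (z : ↥N₁) (v : ↥W'), ρ' (z : ↥H') v = ((lam z : Fˣ) : F) • v := by
    intro z v
    apply Subtype.ext
    rw [hρ'a]
    have h1 := (mem_range_wproj ρ R N hcharR μ (v : W)).mp v.2 (ι z)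
    exact h1
  -- a non-zero vector of `W'`
  obtain ⟨w₀, hw₀, hw₀0⟩ := (Submodule.ne_bot_iff _).mp hW'ne
  have hnd₁ : ∀ g ∈ M₁, (∀ y ∈ M₁, ρ' (y * g * y⁻¹ * g⁻¹) = 1) → g ∈ N₁ := by
    intro g hg hall
    rw [hM₁, Subgroup.mem_subgroupOf] at hg
    rw [hN₁, Subgroup.mem_subgroupOf, hR, mem_relCenter]
    refine ⟨hg, ?_⟩
    intro u hu
    -- `u g u⁻¹ g⁻¹ ∈ N`
    have hkey : u * (g : H) * u⁻¹ * (g : H)⁻¹ ∈ N := by
      rw [hN, mem_kerIn]
      refine ⟨hcommQ u hu _ hg, ?_⟩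
      obtain ⟨c, hc⟩ := hscal u hu _ hg
      have h1 := hall ⟨u, hQH' hu⟩ (by rw [hM₁, Subgroup.mem_subgroupOf]; exact hu)
      have h2 := congrArg (fun T : ↥W' →ₗ[F] ↥W' => ((T ⟨w₀, hw₀⟩ : ↥W') : W)) h1
      have h3 : ρ (u * (g : H) * u⁻¹ * (g : H)⁻¹) w₀ = w₀ := h2
      rw [hc] at h3
      have h4 : c • w₀ = w₀ := h3
      have h5 : (c - 1) • w₀ = 0 := by rw [sub_smul, one_smul, h4, sub_self]
      rcases smul_eq_zero.mp h5 with h6 | h6
      · rw [hc, sub_eq_zero.mp h6, one_smul]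
      · exact absurd h6 hw₀0
    have e : (g : H) * u * (g : H)⁻¹ * u⁻¹ = (u * (g : H) * u⁻¹ * (g : H)⁻¹)⁻¹ := by group
    rw [e]
    exact N.inv_mem hkey
  have hfpf₁ : ∀ e ∈ E₁, e ≠ 1 → ∀ m ∈ M₁, e * m * e⁻¹ * m⁻¹ ∈ N₁ → m ∈ N₁ := by
    intro e he he1 m hm hem
    rw [hE₁, Subgroup.mem_subgroupOf] at he
    rw [hM₁, Subgroup.mem_subgroupOf] at hm
    rw [hN₁, Subgroup.mem_subgroupOf] at hem ⊢
    refine hfpf (e : H) (hB'B he) ?_ (m : H) hm hem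
    intro h1
    apply he1
    exact Subtype.ext h1
  have hab₁ : ∀ a ∈ E₁, ∀ b ∈ E₁, a * b = b * a := by
    intro a ha b hb
    rw [hE₁, Subgroup.mem_subgroupOf] at ha hb
    apply Subtype.ext
    exact hab _ (hB'B ha) _ (hB'B hb)
  have hcardM₁ : Nat.card ↥M₁ = Nat.card ↥Q := sgf_khhl_card_subgroupOf hQH'
  have hcardN₁ : Nat.card ↥N₁ = Nat.card ↥R := sgf_khhl_card_subgroupOf hRH'
  have hcardE₁ : Nat.card ↥E₁ = Nat.card ↥B' := sgf_khhl_card_subgroupOf hB'H'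
  have hcharM₁ : (Nat.card ↥M₁ : F) ≠ 0 := by rw [hcardM₁]; exact hcharQ
  have hcharE₁ : (Nat.card ↥E₁ : F) ≠ 0 := by
    rw [hcardE₁]
    intro h0
    apply hcharB
    obtain ⟨k, hk⟩ := Subgroup.card_dvd_of_le hB'B
    rw [hk]; push_cast; rw [h0, zero_mul]
  have hfix₁ : fixedBy ρ' E₁ = ⊥ := by
    rw [eq_bot_iff]
    intro v hv
    rw [mem_fixedBy] at hv
    rw [Submodule.mem_bot]
    apply Subtype.ext
    apply hnofix (v : W) v.2
    intro a ha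
    have h1 := hv ⟨a, hB'H' ha⟩ (by rw [hE₁, Subgroup.mem_subgroupOf]; exact ha)
    have h2 := congrArg Subtype.val h1
    rw [hρ'a] at h2
    exact h2
  -- cyclic `2`-group, `q`-group, exponent, non-triviality
  have hE₁c : IsCyclic ↥E₁ := by
    haveI := hBc
    haveI : IsCyclic ↥B' :=
      isCyclic_of_injective (Subgroup.inclusion hB'B) (Subgroup.inclusion_injective hB'B)
    exact isCyclic_of_surjective (Subgroup.subgroupOfEquivOfLe hB'H').symm.toMonoidHom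
      (Subgroup.subgroupOfEquivOfLe hB'H').symm.surjective
  have hE₁2 : IsPGroup 2 ↥E₁ := (hB2.to_le hB'B).comap_subtype
  have hM₁q : IsPGroup q ↥M₁ := hQ.comap_subtype
  have hexp₁ : ∀ a ∈ M₁, a ^ q ∈ N₁ := by
    intro a ha
    rw [hM₁, Subgroup.mem_subgroupOf] at ha
    rw [hN₁, Subgroup.mem_subgroupOf, Subgroup.coe_pow]
    exact hexp _ ha
  have hne₁ : ∃ g ∈ M₁, g ∉ N₁ := by
    obtain ⟨g, hgQ, hgR⟩ := hne
    refine ⟨⟨g, hQH' hgQ⟩, ?_, ?_⟩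
    · rw [hM₁, Subgroup.mem_subgroupOf]
      exact hgQ
    · rw [hN₁, Subgroup.mem_subgroupOf]
      exact hgR
  obtain ⟨hc1, hc2⟩ := hh_symp ρ' M₁ N₁ E₁ hN₁M₁ hcomm₁ lam hlam hnd₁ hfpf₁ hE₁c hE₁2
    hcharM₁ hcharE₁ hfix₁ hV' hq hq2 hM₁q hexp₁ hne₁
  rw [hcardM₁, hcardN₁] at hc1
  rw [hcardE₁] at hc2
  refine ⟨hc1, hc2, ?_⟩
  intro T hT b hb w hw
  -- `T` preserves `W'`
  have hTW' : ∀ v ∈ W', T v ∈ W' := by
    intro v hv
    rw [hW', mem_range_wproj ρ R N hcharR μ] at hv ⊢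
    intro m
    have h1 := hT (m : H) (hRQ m.2)
    have h2 : ρ (m : H) (T v) = T (ρ (m : H) v) := by
      have := congrArg (fun S : W →ₗ[F] W => S v) h1
      exact this
    rw [h2, hv m, map_smul]
  set T' : ↥W' →ₗ[F] ↥W' := T.restrict hTW' with hT'
  have hT'M : ∀ m ∈ M₁, ρ' m * T' = T' * ρ' m := by
    intro m hm
    rw [hM₁, Subgroup.mem_subgroupOf] at hm
    apply LinearMap.ext
    intro v
    apply Subtype.ext
    have h1 := hT (m : H) hm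
    have h2 : ρ (m : H) (T (v : W)) = T (ρ (m : H) (v : W)) := by
      have := congrArg (fun S : W →ₗ[F] W => S (v : W)) h1
      exact this
    exact h2
  have hcomm' := hh_symp_comm ρ' M₁ N₁ E₁ hN₁M₁ hcomm₁ lam hlam hnd₁ hfpf₁ hE₁c hE₁2
    hcharM₁ hcharE₁ hfix₁ hV' hq hq2 hM₁q hexp₁ hne₁ T' hT'M
  have hbB' : b ∈ B' := hb
  have h3 := hcomm' ⟨b, hB'H' hbB'⟩ (by rw [hE₁, Subgroup.mem_subgroupOf]; exact hbB')
  have h4 := congrArg (fun S : ↥W' →ₗ[F] ↥W' => ((S ⟨w, hw⟩ : ↥W') : W)) h3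
  exact h4

/-- PIECE NSL1-MU.  Same set-up and same plumbing as `hh_local` (Lib/SG3/SGFKHHL.lean: restrict to the
stabiliser `H'` of `μ` acting on `W' = range (wproj μ)`, `M₁ = Q.subgroupOf H'`, `N₁ = R.subgroupOf H'`,
`E₁ = (B ⊓ H').subgroupOf H'`), but for a GIVEN occurring `μ`, and with `hh_symp` / `hh_symp_comm`
(NSL1Symp.lean) instead of `hh_bound` / `hh_square`.  `T` commutes with `ρ R` hence preserves `W'`
(`mem_range_wproj`); apply `hh_symp_comm` to the restriction of `T` to `W'`. -/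
theorem hh_local_mu {F : Type w} [Field F] [IsAlgClosed F] {H : Type u} [Group H] [Finite H]
    {W : Type v} [AddCommGroup W] [Module F W] [FiniteDimensional F W]
    (ρ : Representation F H W) (Q B : Subgroup H) [Q.Normal]
    (hBc : IsCyclic ↥B) (hB2 : IsPGroup 2 ↥B)
    (hcharQ : (Nat.card ↥Q : F) ≠ 0) (h2F : (2 : F) ≠ 0)
    (hfix : fixedBy ρ B = ⊥)
    (hscal : ∀ g ∈ Q, ∀ h ∈ Q, ∃ c : F, ρ (g * h * g⁻¹ * h⁻¹) = c • (1 : W →ₗ[F] W))
    (hfpf : ∀ e ∈ B, e ≠ 1 → ∀ m ∈ Q,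
      e * m * e⁻¹ * m⁻¹ ∈ relCenter Q (kerIn ρ Q) → m ∈ relCenter Q (kerIn ρ Q))
    {q : ℕ} (hq : q.Prime) (hq2 : q ≠ 2) (hQ : IsPGroup q ↥Q)
    (hexp : ∀ a ∈ Q, a ^ q ∈ relCenter Q (kerIn ρ Q))
    (hne : ∃ g ∈ Q, g ∉ relCenter Q (kerIn ρ Q))
    [Fintype ↥(relCenter Q (kerIn ρ Q))]
    (μ : (↥(relCenter Q (kerIn ρ Q)) ⧸ (kerIn ρ Q).subgroupOf (relCenter Q (kerIn ρ Q))) →* Fˣ)
    (hμ : wproj ρ (relCenter Q (kerIn ρ Q)) (kerIn ρ Q) μ ≠ 0) :
    Nat.card ↥Q = q ^ 2 * Nat.card ↥(relCenter Q (kerIn ρ Q)) ∧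
    Nat.card ↥(B ⊓ MulAction.stabilizer H μ) = q + 1 ∧
    ∀ T : W →ₗ[F] W, (∀ g ∈ Q, ρ g * T = T * ρ g) →
      ∀ b ∈ B ⊓ MulAction.stabilizer H μ,
        ∀ w ∈ LinearMap.range (wproj ρ (relCenter Q (kerIn ρ Q)) (kerIn ρ Q) μ),
          ρ b (T w) = T (ρ b w) := by
  exact nsl1_mu_aux ρ Q B (kerIn ρ Q) (relCenter Q (kerIn ρ Q)) rfl rfl hBc hB2 hcharQ h2F hfix hscal
    hfpf hq hq2 hQ hexp hne μ hμ

/-- two subgroups of the same order of a cyclic group: one lies in the other (aux for NSL1-TIGHT, helper27) -/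
theorem nsl1tight_le_of_card_eq {H : Type*} [Group H] [Finite H] (A K₁ K₂ : Subgroup H)
    (hAc : IsCyclic ↥A) (h1 : K₁ ≤ A) (h2 : K₂ ≤ A) (hc : Nat.card ↥K₁ = Nat.card ↥K₂) :
    K₁ ≤ K₂ := by
  classical
  have : Fintype ↥A := Fintype.ofFinite _
  have : Fintype ↥K₂ := Fintype.ofFinite _
  set d := Nat.card ↥K₂ with hd
  have hdpos : 0 < d := Nat.card_pos
  let S : Finset ↥A := Finset.univ.filter (fun a : ↥A => a ^ d = 1)
  have hScard : S.card ≤ d := IsCyclic.card_pow_eq_one_le hdpos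
  let f : ↥K₂ → ↥A := fun x => ⟨x, h2 x.2⟩
  have hf : Function.Injective f := by
    intro x y hxy
    apply Subtype.ext
    exact congrArg (fun z : ↥A => (z : H)) hxy
  let T : Finset ↥A := Finset.univ.image f
  have hTcard : T.card = d := by
    rw [Finset.card_image_of_injective _ hf, Finset.card_univ, ← Nat.card_eq_fintype_card]
  have hTS : T ⊆ S := by
    intro a ha
    obtain ⟨x, _, rfl⟩ := Finset.mem_image.mp ha
    rw [Finset.mem_filter]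
    refine ⟨Finset.mem_univ _, ?_⟩
    apply Subtype.ext
    have h3 : x ^ d = 1 := pow_card_eq_one'
    have := congrArg Subtype.val h3
    simpa using this
  have hTeq : T = S := Finset.eq_of_subset_of_card_le hTS (by rw [hTcard]; exact hScard)
  intro x hx
  have hxd : x ^ d = 1 := by
    have h3 : (⟨x, hx⟩ : ↥K₁) ^ Nat.card ↥K₁ = 1 := pow_card_eq_one'
    rw [hc] at h3
    have := congrArg Subtype.val h3
    simpa using this
  have hxS : (⟨x, h1 hx⟩ : ↥A) ∈ S := by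
    rw [Finset.mem_filter]
    refine ⟨Finset.mem_univ _, ?_⟩
    apply Subtype.ext
    simpa using hxd
  rw [← hTeq] at hxS
  obtain ⟨y, _, hy⟩ := Finset.mem_image.mp hxS
  have : (y : H) = x := congrArg (fun z : ↥A => (z : H)) hy
  rw [← this]
  exact y.2

/-- PIECE NSL1-TIGHT.  From `hh_local_mu`: an occurring `μ₀` exists (`range_sum_wproj` = ⊤ and `hW`, as in
`hh_local`); `B' := B ⊓ stabilizer μ₀`; for every occurring `μ` the subgroup `B ⊓ stabilizer μ` of the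
cyclic group `B` has the same order `q + 1`, hence equals `B'`; `w = ∑ μ, wproj μ w` (the sum of the
projections is the identity: `range_sum_wproj`, `fixedBy_kerIn`, `wproj_orth`), each summand lies in
`range (wproj μ)` (zero if `μ` does not occur). -/
theorem hh_local_tight {F : Type w} [Field F] [IsAlgClosed F] {H : Type u} [Group H] [Finite H]
    {W : Type v} [AddCommGroup W] [Module F W] [FiniteDimensional F W]
    (ρ : Representation F H W) (Q B : Subgroup H) [Q.Normal]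
    (hW : 0 < finrank F W)
    (hBc : IsCyclic ↥B) (hB2 : IsPGroup 2 ↥B)
    (hcharQ : (Nat.card ↥Q : F) ≠ 0) (h2F : (2 : F) ≠ 0)
    (hfix : fixedBy ρ B = ⊥)
    (hscal : ∀ g ∈ Q, ∀ h ∈ Q, ∃ c : F, ρ (g * h * g⁻¹ * h⁻¹) = c • (1 : W →ₗ[F] W))
    (hfpf : ∀ e ∈ B, e ≠ 1 → ∀ m ∈ Q,
      e * m * e⁻¹ * m⁻¹ ∈ relCenter Q (kerIn ρ Q) → m ∈ relCenter Q (kerIn ρ Q))
    {q : ℕ} (hq : q.Prime) (hq2 : q ≠ 2) (hQ : IsPGroup q ↥Q)
    (hexp : ∀ a ∈ Q, a ^ q ∈ relCenter Q (kerIn ρ Q))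
    (hne : ∃ g ∈ Q, g ∉ relCenter Q (kerIn ρ Q)) :
    Nat.card ↥Q = q ^ 2 * Nat.card ↥(relCenter Q (kerIn ρ Q)) ∧
    ∃ B' : Subgroup H, B' ≤ B ∧ Nat.card ↥B' = q + 1 ∧
      ∀ T : W →ₗ[F] W, (∀ g ∈ Q, ρ g * T = T * ρ g) → ∀ b ∈ B', ρ b * T = T * ρ b := by
  classical
  haveI hNn : (kerIn ρ Q).Normal := kerIn_normal ρ Q
  have hNQ : kerIn ρ Q ≤ Q := kerIn_le ρ Q
  haveI hRn : (relCenter Q (kerIn ρ Q)).Normal := relCenter_normal Q (kerIn ρ Q)
  have hRQ : relCenter Q (kerIn ρ Q) ≤ Q := relCenter_le Q (kerIn ρ Q)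
  have hNR : kerIn ρ Q ≤ relCenter Q (kerIn ρ Q) := le_relCenter hNQ
  have hRcomm : ∀ a ∈ relCenter Q (kerIn ρ Q), ∀ b ∈ relCenter Q (kerIn ρ Q),
      a * b * a⁻¹ * b⁻¹ ∈ kerIn ρ Q := relCenter_comm Q (kerIn ρ Q)
  have hcharR : (Nat.card ↥(relCenter Q (kerIn ρ Q)) : F) ≠ 0 := by
    intro h0
    apply hcharQ
    obtain ⟨k, hk⟩ := Subgroup.card_dvd_of_le hRQ
    rw [hk]; push_cast; rw [h0, zero_mul]
  letI : Fintype ↥(relCenter Q (kerIn ρ Q)) := Fintype.ofFinite _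
  letI : Fintype ((↥(relCenter Q (kerIn ρ Q)) ⧸
    (kerIn ρ Q).subgroupOf (relCenter Q (kerIn ρ Q))) →* Fˣ) := Fintype.ofFinite _
  have hrS : LinearMap.range (∑ χ : (↥(relCenter Q (kerIn ρ Q)) ⧸
      (kerIn ρ Q).subgroupOf (relCenter Q (kerIn ρ Q))) →* Fˣ,
      wproj ρ (relCenter Q (kerIn ρ Q)) (kerIn ρ Q) χ) = ⊤ := by
    rw [range_sum_wproj ρ (relCenter Q (kerIn ρ Q)) (kerIn ρ Q) hNR hRcomm hcharR, fixedBy_kerIn]
  obtain ⟨μ₀, hμ₀⟩ : ∃ μ, wproj ρ (relCenter Q (kerIn ρ Q)) (kerIn ρ Q) μ ≠ 0 := by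
    by_contra hcon
    push Not at hcon
    have h0 : (∑ χ : (↥(relCenter Q (kerIn ρ Q)) ⧸
        (kerIn ρ Q).subgroupOf (relCenter Q (kerIn ρ Q))) →* Fˣ,
        wproj ρ (relCenter Q (kerIn ρ Q)) (kerIn ρ Q) χ) = 0 :=
      Finset.sum_eq_zero (fun χ _ => hcon χ)
    rw [h0, LinearMap.range_zero] at hrS
    have h1 : finrank F W = 0 := by
      have h2 : finrank F (⊥ : Submodule F W) = finrank F (⊤ : Submodule F W) := by rw [hrS]
      rw [finrank_bot, finrank_top] at h2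
      exact h2.symm
    omega
  have horth : ∀ χ χ' v, wproj ρ (relCenter Q (kerIn ρ Q)) (kerIn ρ Q) χ
      (wproj ρ (relCenter Q (kerIn ρ Q)) (kerIn ρ Q) χ' v) =
      if χ = χ' then wproj ρ (relCenter Q (kerIn ρ Q)) (kerIn ρ Q) χ v else 0 :=
    fun χ χ' v => wproj_orth ρ (relCenter Q (kerIn ρ Q)) (kerIn ρ Q) hcharR χ χ' v
  have hsum : ∀ v, (∑ χ : (↥(relCenter Q (kerIn ρ Q)) ⧸
      (kerIn ρ Q).subgroupOf (relCenter Q (kerIn ρ Q))) →* Fˣ,
      wproj ρ (relCenter Q (kerIn ρ Q)) (kerIn ρ Q) χ) v = v := by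
    intro v
    letI := trivAct ((↥(relCenter Q (kerIn ρ Q)) ⧸
      (kerIn ρ Q).subgroupOf (relCenter Q (kerIn ρ Q))) →* Fˣ)
    exact (permIdem_of_orth (fun χ => wproj ρ (relCenter Q (kerIn ρ Q)) (kerIn ρ Q) χ)
      horth).sum_of_mem (by rw [hrS]; trivial)
  have hmu := fun μ hμ => hh_local_mu ρ Q B hBc hB2 hcharQ h2F hfix hscal hfpf hq hq2 hQ hexp hne
    μ hμ
  obtain ⟨hcard, hB0, _⟩ := hmu μ₀ hμ₀
  refine ⟨hcard, B ⊓ MulAction.stabilizer H μ₀, inf_le_left, hB0, ?_⟩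
  intro T hT b hb
  apply LinearMap.ext
  intro w
  show ρ b (T w) = T (ρ b w)
  conv_lhs => rw [← hsum w]
  conv_rhs => rw [← hsum w]
  rw [LinearMap.sum_apply, map_sum, map_sum, map_sum, map_sum]
  apply Finset.sum_congr rfl
  intro μ _
  by_cases hμ : wproj ρ (relCenter Q (kerIn ρ Q)) (kerIn ρ Q) μ = 0
  · rw [hμ]; simp
  · obtain ⟨_, hBμ, hTμ⟩ := hmu μ hμ
    have heq : B ⊓ MulAction.stabilizer H μ₀ ≤ B ⊓ MulAction.stabilizer H μ :=
      nsl1tight_le_of_card_eq B _ _ hBc inf_le_left inf_le_left (by rw [hB0, hBμ])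
    exact hTμ T hT b (heq hb) _ (LinearMap.mem_range_self _ _)

end Cfsg.Agent.Helper8.SG2N
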