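import Mathlib
import Cfsg.Agent.Lib.SG2N.NSL1Mu
import Cfsg.Agent.Lib.SG3.SGFKCYC

/-! S3795 NO-STACKING block B1 (designer helper8): the ABSTRACT LOCAL analysis on a weight space.

`H = Q B` acts on `W`, `Q ⊴ H` a `q`-group whose commutators act as scalars, `B` a cyclic `2`-group
without non-zero fixed vector, `σ ∈ B` the involution, `R = relCenter Q (kerIn ρ Q)` the radical,
`Q / R` of exponent `q`.  `Cs / R = C_{Q/R}(σ)`, `Is / R = [Q/R, σ]` (the elements inverted by `σ`).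
Result (`loc_main`): either `σ` centralises `Q / R`, or `q` is a Mersenne prime, `|Is : R| = q²` and an
element `c ∈ B` of order `4` (`q = 3`) or `8` with `c^(2^k) = σ` commutes with `ρ Cs`. -/

set_option autoImplicit false
set_option linter.unusedSectionVars false
set_option linter.style.haveILetI false

namespace Cfsg.Agent.Helper8.SG2N

open Module Cfsg.Agent.Helper8.FrobLin Cfsg.Agent.Helper8.HHLin Cfsg.Agent.Helper23.SGF

universe u v w

attribute [local instance] dualAct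


variable {F : Type w} [Field F] [IsAlgClosed F] {H : Type u} [Group H] [Finite H]
  {W : Type v} [AddCommGroup W] [Module F W] [FiniteDimensional F W]

/-- the abstract local configuration -/
structure LocConf (ρ : Representation F H W) (Q B : Subgroup H) [Q.Normal] (σ : H) (q : ℕ) :
    Prop where
  htop : Q ⊔ B = ⊤
  hW : 0 < finrank F W
  hq : q.Prime
  hq2 : q ≠ 2
  hqF : (q : F) ≠ 0
  h2F : (2 : F) ≠ 0
  hQ : IsPGroup q ↥Q
  hBc : IsCyclic ↥B
  hB2 : IsPGroup 2 ↥B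
  hσB : σ ∈ B
  hσ2 : σ * σ = 1
  hσ1 : σ ≠ 1
  hfix : fixedBy ρ B = ⊥
  hscal : ∀ g ∈ Q, ∀ h ∈ Q, ∃ c : F, ρ (g * h * g⁻¹ * h⁻¹) = c • (1 : W →ₗ[F] W)
  hexp : ∀ a ∈ Q, a ^ q ∈ relCenter Q (kerIn ρ Q)

/-- `Cs` / `Is` are the preimages in `Q` of the centraliser of `σ` / of the elements inverted by `σ`
in `Q / R` -/
structure IsCI (ρ : Representation F H W) (Q : Subgroup H) [Q.Normal] (σ : H)
    (Cs Is : Subgroup H) : Prop where
  hC : ∀ g, g ∈ Cs ↔ g ∈ Q ∧ σ * g * σ⁻¹ * g⁻¹ ∈ relCenter Q (kerIn ρ Q)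
  hI : ∀ g, g ∈ Is ↔ g ∈ Q ∧ σ * g * σ⁻¹ * g ∈ relCenter Q (kerIn ρ Q)

/-- `c² = 1`, `c^q = 1`, `q` odd imply `c = 1` -/
theorem eq_one_of_sq_of_pow {c : F} {q : ℕ} (hq : q % 2 = 1) (h2 : c * c = 1) (hq1 : c ^ q = 1) :
    c = 1 := by
  obtain ⟨m, rfl⟩ : ∃ m, q = 2 * m + 1 := ⟨q / 2, by omega⟩
  rw [pow_succ, pow_mul, sq, h2, one_pow, one_mul] at hq1
  exact hq1

/-! ### the configuration -/

end Cfsg.Agent.Helper8.SG2N
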