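import Mathlib
import Cfsg.Agent.Lib.SG2N.NSL1CIDefs

/-! S3795 NO-STACKING block B1 (designer helper8), abstract local analysis: piece NSL1-CQR.
See Cfsg/Agent/Lib/SG2N/NSL1CIDefs.lean for the set-up and plans/S3795_nostack_plan.md. -/

set_option autoImplicit false
set_option linter.unusedSectionVars false
set_option linter.style.haveILetI false

namespace Cfsg.Agent.Helper8.SG2N

open Module Cfsg.Agent.Helper8.FrobLin Cfsg.Agent.Helper8.HHLin Cfsg.Agent.Helper23.SGF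

universe u v w

attribute [local instance] dualAct

variable {F : Type w} [Field F] [IsAlgClosed F] {H : Type u} [Group H] [Finite H]
  {W : Type v} [AddCommGroup W] [Module F W] [FiniteDimensional F W]
  {ρ : Representation F H W} {Q B : Subgroup H} [Q.Normal] {σ : H} {q : ℕ}

/-- PIECE NSL1-CQR: commutators of `Q` lie in the radical (copy `hQQR` from the proof of `hh_local`,
Lib/SG3/SGFKHHL.lean). -/
theorem comm_mem_lr (L : LocConf ρ Q B σ q) :
    ∀ a ∈ Q, ∀ b ∈ Q, a * b * a⁻¹ * b⁻¹ ∈ relCenter Q (kerIn ρ Q) := by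
  have hcommQ : ∀ a ∈ Q, ∀ b ∈ Q, a * b * a⁻¹ * b⁻¹ ∈ Q := fun a ha b hb =>
    Q.mul_mem (Q.mul_mem (Q.mul_mem ha hb) (Q.inv_mem ha)) (Q.inv_mem hb)
  intro a ha b hb
  rw [mem_relCenter]
  refine ⟨hcommQ a ha b hb, ?_⟩
  intro u hu
  rw [mem_kerIn]
  refine ⟨hcommQ _ (hcommQ a ha b hb) u hu, ?_⟩
  obtain ⟨c, hc⟩ := L.hscal a ha b hb
  rw [← rho_comm_iff_commutator, hc]
  rw [smul_mul_assoc, one_mul, mul_smul_comm, mul_one]

end Cfsg.Agent.Helper8.SG2N
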