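import Mathlib
import Cfsg.Agent.Lib.SG2N.NSL1CQR

/-! S3795 NO-STACKING block B1 (designer helper8), abstract local analysis: piece NSL1-CIEX.
See Cfsg/Agent/Lib/SG2N/NSL1CIDefs.lean for the set-up and plans/S3795_nostack_plan.md. -/

set_option autoImplicit false
set_option linter.unusedSectionVars false
set_option linter.style.haveILetI false

namespace Cfsg.Agent.Helper8.SG2N

open Module Cfsg.Agent.Helper8.FrobLin Cfsg.Agent.Helper8.HHLin Cfsg.Agent.Helper23.SGF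

universe u v w

attribute [local instance] dualAct

variable {F : Type w} [Field F] [IsAlgClosed F] {H : Type u} [Group H] [Finite H]
  {W : Type v} [AddCommGroup W] [Module F W] [FiniteDimensional F W]
  {ρ : Representation F H W} {Q B : Subgroup H} [Q.Normal] {σ : H} {q : ℕ}

/-- PIECE NSL1-CIEX: `Cs` and `Is` exist (as subgroups: `R` is normal in `H` (`relCenter_normal`), and for
`Is` use `comm_mem_lr`: `Q / R` is abelian). -/
theorem ci_exists (L : LocConf ρ Q B σ q) : ∃ Cs Is : Subgroup H, IsCI ρ Q σ Cs Is := by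
  classical
  haveI hRn : (relCenter Q (kerIn ρ Q)).Normal := relCenter_normal Q (kerIn ρ Q)
  have hQQ := comm_mem_lr L
  let Cs : Subgroup H :=
    { carrier := {g | g ∈ Q ∧ σ * g * σ⁻¹ * g⁻¹ ∈ relCenter Q (kerIn ρ Q)}
      one_mem' := ⟨Q.one_mem, by
        have e : σ * 1 * σ⁻¹ * (1 : H)⁻¹ = 1 := by group
        rw [e]; exact Subgroup.one_mem _⟩
      mul_mem' := by
        rintro a b ⟨haQ, ha⟩ ⟨hbQ, hb⟩
        refine ⟨Q.mul_mem haQ hbQ, ?_⟩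
        have e : σ * (a * b) * σ⁻¹ * (a * b)⁻¹ =
            (σ * a * σ⁻¹ * a⁻¹) * (a * (σ * b * σ⁻¹ * b⁻¹) * a⁻¹) := by group
        rw [e]
        exact Subgroup.mul_mem _ ha (hRn.conj_mem _ hb a)
      inv_mem' := by
        rintro a ⟨haQ, ha⟩
        refine ⟨Q.inv_mem haQ, ?_⟩
        have e : σ * a⁻¹ * σ⁻¹ * a⁻¹⁻¹ = a⁻¹ * (σ * a * σ⁻¹ * a⁻¹)⁻¹ * a⁻¹⁻¹ := by group
        rw [e]
        exact hRn.conj_mem _ (Subgroup.inv_mem _ ha) a⁻¹ }
  let Is : Subgroup H :=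
    { carrier := {g | g ∈ Q ∧ σ * g * σ⁻¹ * g ∈ relCenter Q (kerIn ρ Q)}
      one_mem' := ⟨Q.one_mem, by
        have e : σ * 1 * σ⁻¹ * (1 : H) = 1 := by group
        rw [e]; exact Subgroup.one_mem _⟩
      mul_mem' := by
        rintro a b ⟨haQ, ha⟩ ⟨hbQ, hb⟩
        refine ⟨Q.mul_mem haQ hbQ, ?_⟩
        have e : σ * (a * b) * σ⁻¹ * (a * b) =
            (σ * a * σ⁻¹ * a) * (a⁻¹ * (σ * b * σ⁻¹ * b) * a⁻¹⁻¹) *
              (a⁻¹ * b⁻¹ * a⁻¹⁻¹ * b⁻¹⁻¹) := by group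
        rw [e]
        exact Subgroup.mul_mem _ (Subgroup.mul_mem _ ha (hRn.conj_mem _ hb a⁻¹))
          (hQQ _ (Q.inv_mem haQ) _ (Q.inv_mem hbQ))
      inv_mem' := by
        rintro a ⟨haQ, ha⟩
        refine ⟨Q.inv_mem haQ, ?_⟩
        have e : σ * a⁻¹ * σ⁻¹ * a⁻¹ = a * (σ * a * σ⁻¹ * a)⁻¹ * a⁻¹ := by group
        rw [e]
        exact hRn.conj_mem _ (Subgroup.inv_mem _ ha) a }
  exact ⟨Cs, Is, ⟨fun g => Iff.rfl, fun g => Iff.rfl⟩⟩

end Cfsg.Agent.Helper8.SG2N
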