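import Mathlib
import Cfsg.Agent.Lib.SG2N.NSL1CIDefs

/-! S3795 NO-STACKING block B1 (designer helper8), abstract local analysis: piece NSL1-CIFIRST.
See Cfsg/Agent/Lib/SG2N/NSL1CIDefs.lean for the set-up and plans/S3795_nostack_plan.md. -/

set_option autoImplicit false
set_option linter.unusedSectionVars false
set_option linter.style.haveILetI false

namespace Cfsg.Agent.Helper8.SG2N

open Module Cfsg.Agent.Helper8.FrobLin Cfsg.Agent.Helper8.HHLin Cfsg.Agent.Helper23.SGF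

universe u v w

attribute [local instance] dualAct

variable {F : Type w} [Field F] [IsAlgClosed F] {H : Type u} [Group H] [Finite H]
  {W : Type v} [AddCommGroup W] [Module F W] [FiniteDimensional F W]
  {ρ : Representation F H W} {Q B : Subgroup H} [Q.Normal] {σ : H} {q : ℕ}

/-- PIECE NSL1-CIFIRST: `h = σ g σ⁻¹ g⁻¹` satisfies `σ h σ⁻¹ * h = 1` (as `σ * σ = 1`), so `h ∈ Is`. -/
theorem ci_first (L : LocConf ρ Q B σ q) {Cs Is : Subgroup H} (K : IsCI ρ Q σ Cs Is)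
    (hIR : Is ≤ relCenter Q (kerIn ρ Q)) :
    ∀ g ∈ Q, σ * g * σ⁻¹ * g⁻¹ ∈ relCenter Q (kerIn ρ Q) := by
  intro g hg
  apply hIR
  rw [K.hI]
  have hQn : Q.Normal := inferInstance
  refine ⟨Q.mul_mem (hQn.conj_mem g hg σ) (Q.inv_mem hg), ?_⟩
  have hσinv : σ⁻¹ = σ := inv_eq_of_mul_eq_one_left L.hσ2
  have e : σ * (σ * g * σ⁻¹ * g⁻¹) * σ⁻¹ * (σ * g * σ⁻¹ * g⁻¹) = 1 := by
    rw [hσinv]
    calc σ * (σ * g * σ * g⁻¹) * σ * (σ * g * σ * g⁻¹)
        = (σ * σ) * g * σ * g⁻¹ * (σ * σ) * g * σ * g⁻¹ := by simp only [mul_assoc]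
      _ = g * (σ * (g⁻¹ * g) * σ) * g⁻¹ := by rw [L.hσ2]; simp only [one_mul, mul_one, mul_assoc]
      _ = 1 := by rw [inv_mul_cancel, mul_one, L.hσ2, mul_one, mul_inv_cancel]
  rw [e]
  exact Subgroup.one_mem _

end Cfsg.Agent.Helper8.SG2N
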