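import Mathlib
import Cfsg.Agent.Lib.SG2N.NSL1CQR

/-! S3795 NO-STACKING block B1 (designer helper8), abstract local analysis: piece NSL1-CIBASIC.
See Cfsg/Agent/Lib/SG2N/NSL1CIDefs.lean for the set-up and plans/S3795_nostack_plan.md. -/

set_option autoImplicit false
set_option linter.unusedSectionVars false
set_option linter.style.haveILetI false

namespace Cfsg.Agent.Helper8.SG2N

open Module Cfsg.Agent.Helper8.FrobLin Cfsg.Agent.Helper8.HHLin Cfsg.Agent.Helper23.SGF

universe u v w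

attribute [local instance] dualAct

variable {F : Type w} [Field F] [IsAlgClosed F] {H : Type u} [Group H] [Finite H]
  {W : Type v} [AddCommGroup W] [Module F W] [FiniteDimensional F W]
  {ρ : Representation F H W} {Q B : Subgroup H} [Q.Normal] {σ : H} {q : ℕ}

/-- PIECE NSL1-CIBASIC -/
theorem ci_basic (L : LocConf ρ Q B σ q) {Cs Is : Subgroup H} (K : IsCI ρ Q σ Cs Is) :
    relCenter Q (kerIn ρ Q) ≤ Cs ∧ relCenter Q (kerIn ρ Q) ≤ Is ∧ Cs ≤ Q ∧ Is ≤ Q := by
  haveI hRn : (relCenter Q (kerIn ρ Q)).Normal := relCenter_normal Q (kerIn ρ Q)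
  refine ⟨?_, ?_, ?_, ?_⟩
  · intro g hg
    rw [K.hC]
    refine ⟨relCenter_le Q (kerIn ρ Q) hg, ?_⟩
    exact (relCenter Q (kerIn ρ Q)).mul_mem (hRn.conj_mem g hg σ)
      ((relCenter Q (kerIn ρ Q)).inv_mem hg)
  · intro g hg
    rw [K.hI]
    refine ⟨relCenter_le Q (kerIn ρ Q) hg, ?_⟩
    exact (relCenter Q (kerIn ρ Q)).mul_mem (hRn.conj_mem g hg σ) hg
  · intro g hg
    exact ((K.hC g).mp hg).1
  · intro g hg
    exact ((K.hI g).mp hg).1

end Cfsg.Agent.Helper8.SG2N
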