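import Mathlib
import Cfsg.Agent.Lib.SG2N.NSL1CIBASIC

/-! S3795 NO-STACKING block B1 (designer helper8), abstract local analysis: piece NSL1-CIFPF.
See Cfsg/Agent/Lib/SG2N/NSL1CIDefs.lean for the set-up and plans/S3795_nostack_plan.md. -/

set_option autoImplicit false
set_option linter.unusedSectionVars false
set_option linter.style.haveILetI false

namespace Cfsg.Agent.Helper8.SG2N

open Module Cfsg.Agent.Helper8.FrobLin Cfsg.Agent.Helper8.HHLin Cfsg.Agent.Helper23.SGF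

universe u v w

attribute [local instance] dualAct

variable {F : Type w} [Field F] [IsAlgClosed F] {H : Type u} [Group H] [Finite H]
  {W : Type v} [AddCommGroup W] [Module F W] [FiniteDimensional F W]
  {ρ : Representation F H W} {Q B : Subgroup H} [Q.Normal] {σ : H} {q : ℕ}

/-- for a normal `R` the elements `g` with `g m g⁻¹ m⁻¹ ∈ R` form a subgroup -/
def nsl1cifpfT {H : Type*} [Group H] (R : Subgroup H) [hR : R.Normal] (m : H) : Subgroup H where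
  carrier := {g | g * m * g⁻¹ * m⁻¹ ∈ R}
  one_mem' := by
    show (1 : H) * m * 1⁻¹ * m⁻¹ ∈ R
    have h1 : (1 : H) * m * 1⁻¹ * m⁻¹ = 1 := by group
    rw [h1]
    exact R.one_mem
  mul_mem' := by
    intro g g' hg hg'
    show (g * g') * m * (g * g')⁻¹ * m⁻¹ ∈ R
    have h1 : (g * g') * m * (g * g')⁻¹ * m⁻¹ =
        g * (g' * m * g'⁻¹ * m⁻¹) * g⁻¹ * (g * m * g⁻¹ * m⁻¹) := by group
    rw [h1]
    exact R.mul_mem (hR.conj_mem _ hg' g) hg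
  inv_mem' := by
    intro g hg
    show g⁻¹ * m * g⁻¹⁻¹ * m⁻¹ ∈ R
    have h1 : g⁻¹ * m * g⁻¹⁻¹ * m⁻¹ = g⁻¹ * (g * m * g⁻¹ * m⁻¹)⁻¹ * g⁻¹⁻¹ := by group
    rw [h1]
    exact hR.conj_mem _ (R.inv_mem hg) g⁻¹

theorem nsl1cifpf_mem {H : Type*} [Group H] (R : Subgroup H) [R.Normal] (m g : H) :
    g ∈ nsl1cifpfT R m ↔ g * m * g⁻¹ * m⁻¹ ∈ R := Iff.rfl

/-- PIECE NSL1-CIFPF: every non-trivial element of `B` acts fixed-point-freely on `Is / R`.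
`σ ∈ zpowers e` (`le_of_ne_bot_of_cyclic`, Lib/SG3/SGFKCYC.lean, with `X = zpowers σ` of order `2`), so
`σ m σ⁻¹ m⁻¹ ∈ R`; with `σ m σ⁻¹ m ∈ R` get `m * m ∈ R`; `m ^ q ∈ R`; `q` odd. -/
theorem ci_fpf (L : LocConf ρ Q B σ q) {Cs Is : Subgroup H} (K : IsCI ρ Q σ Cs Is) :
    ∀ e ∈ B, e ≠ 1 → ∀ m ∈ Is,
      e * m * e⁻¹ * m⁻¹ ∈ relCenter Q (kerIn ρ Q) → m ∈ relCenter Q (kerIn ρ Q) := by
  intro e heB he1 m hmI hem
  haveI : Fact (Nat.Prime 2) := ⟨Nat.prime_two⟩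
  haveI hRn : (relCenter Q (kerIn ρ Q)).Normal := relCenter_normal Q (kerIn ρ Q)
  obtain ⟨hmQ, hσm⟩ := (K.hI m).1 hmI
  -- `σ ∈ zpowers e`
  have hσord : orderOf σ = 2 := orderOf_eq_prime (by rw [pow_two]; exact L.hσ2) L.hσ1
  have hcardX : Nat.card ↥(Subgroup.zpowers σ) = 2 := by rw [Nat.card_zpowers, hσord]
  have hXB : Subgroup.zpowers σ ≤ B := by rw [Subgroup.zpowers_le]; exact L.hσB
  have hEB : Subgroup.zpowers e ≤ B := by rw [Subgroup.zpowers_le]; exact heB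
  have hE1 : Subgroup.zpowers e ≠ ⊥ := by
    rw [Ne, Subgroup.zpowers_eq_bot]; exact he1
  have hσe : σ ∈ Subgroup.zpowers e :=
    le_of_ne_bot_of_cyclic B (Subgroup.zpowers σ) (Subgroup.zpowers e) Nat.prime_two L.hBc L.hB2
      hXB hcardX hEB hE1 (Subgroup.mem_zpowers σ)
  -- `σ m σ⁻¹ m⁻¹ ∈ R`
  have hle : Subgroup.zpowers e ≤ nsl1cifpfT (relCenter Q (kerIn ρ Q)) m := by
    rw [Subgroup.zpowers_le]; exact hem
  have hσm' : σ * m * σ⁻¹ * m⁻¹ ∈ relCenter Q (kerIn ρ Q) := hle hσe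
  -- `m * m ∈ R`
  have hmm : m * m ∈ relCenter Q (kerIn ρ Q) := by
    have h1 : m * m = (σ * m * σ⁻¹ * m⁻¹)⁻¹ * (σ * m * σ⁻¹ * m) := by group
    rw [h1]
    exact Subgroup.mul_mem _ (Subgroup.inv_mem _ hσm') hσm
  -- `q` odd
  have hqodd : q % 2 = 1 := by
    rcases L.hq.eq_two_or_odd with h | h
    · exact absurd h L.hq2
    · exact h
  obtain ⟨t, ht⟩ : ∃ t, q = 2 * t + 1 := ⟨q / 2, by omega⟩
  have hmq := L.hexp m hmQ
  have h2 : m = ((m * m) ^ t)⁻¹ * m ^ q := by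
    rw [ht, pow_succ, pow_mul, pow_two, inv_mul_cancel_left]
  rw [h2]
  exact Subgroup.mul_mem _ (Subgroup.inv_mem _ (Subgroup.pow_mem _ hmm t)) hmq

end Cfsg.Agent.Helper8.SG2N
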