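import Mathlib
import Cfsg.Agent.Lib.SG2N.NSL1CIBASIC

/-! S3795 NO-STACKING block B1 (designer helper8), abstract local analysis: piece NSL1-CISQ.
See Cfsg/Agent/Lib/SG2N/NSL1CIDefs.lean for the set-up and plans/S3795_nostack_plan.md. -/

set_option autoImplicit false
set_option linter.unusedSectionVars false
set_option linter.style.haveILetI false

namespace Cfsg.Agent.Helper8.SG2N

open Module Cfsg.Agent.Helper8.FrobLin Cfsg.Agent.Helper8.HHLin Cfsg.Agent.Helper23.SGF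

universe u v w

attribute [local instance] dualAct

variable {F : Type w} [Field F] [IsAlgClosed F] {H : Type u} [Group H] [Finite H]
  {W : Type v} [AddCommGroup W] [Module F W] [FiniteDimensional F W]
  {ρ : Representation F H W} {Q B : Subgroup H} [Q.Normal] {σ : H} {q : ℕ}

/-- PIECE NSL1-CISQ: `x * x = (x * σ x σ⁻¹) * ((σ x σ⁻¹)⁻¹ * x)`; the first factor is in `Cs`, the second in
`Is` (`σ * σ = 1`, `comm_mem_lr`). -/
theorem ci_sq (L : LocConf ρ Q B σ q) {Cs Is : Subgroup H} (K : IsCI ρ Q σ Cs Is) :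
    ∀ x ∈ Q, ∃ c ∈ Cs, ∃ i ∈ Is, x * x = c * i := by
  intro x hx
  have hx' : σ * x * σ⁻¹ ∈ Q := ‹Q.Normal›.conj_mem x hx σ
  have hσi : σ⁻¹ = σ := inv_eq_of_mul_eq_one_left L.hσ2
  refine ⟨x * (σ * x * σ⁻¹), ?_, (σ * x * σ⁻¹)⁻¹ * x, ?_, by group⟩
  · rw [K.hC]
    refine ⟨Q.mul_mem hx hx', ?_⟩
    have h1 : σ * (x * (σ * x * σ⁻¹)) * σ⁻¹ * (x * (σ * x * σ⁻¹))⁻¹ =
        (σ * x * σ⁻¹) * ((σ * σ) * x * (σ * σ)⁻¹) * (σ * x * σ⁻¹)⁻¹ * x⁻¹ := by group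
    rw [h1, L.hσ2, one_mul, inv_one, mul_one]
    exact comm_mem_lr L _ hx' _ hx
  · rw [K.hI]
    refine ⟨Q.mul_mem (Q.inv_mem hx') hx, ?_⟩
    have e1 : σ * ((σ * x * σ⁻¹)⁻¹ * x) * σ⁻¹ = x⁻¹ * (σ * x * σ⁻¹) := by
      have e2 : σ * ((σ * x * σ⁻¹)⁻¹ * x) * σ⁻¹ =
          (σ * σ) * x⁻¹ * (σ * σ)⁻¹ * (σ * x * σ⁻¹) := by group
      rw [e2, L.hσ2, one_mul, inv_one, mul_one]
    have e3 : x⁻¹ * (σ * x * σ⁻¹) * ((σ * x * σ⁻¹)⁻¹ * x) = 1 := by group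
    rw [e1, e3]
    exact Subgroup.one_mem _

end Cfsg.Agent.Helper8.SG2N
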