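import Mathlib
import Cfsg.Agent.Lib.SG2N.NSL1CISQ

/-! S3795 NO-STACKING block B1 (designer helper8), abstract local analysis: piece NSL1-CIIDX.
See Cfsg/Agent/Lib/SG2N/NSL1CIDefs.lean for the set-up and plans/S3795_nostack_plan.md. -/

set_option autoImplicit false
set_option linter.unusedSectionVars false
set_option linter.style.haveILetI false

namespace Cfsg.Agent.Helper8.SG2N

open Module Cfsg.Agent.Helper8.FrobLin Cfsg.Agent.Helper8.HHLin Cfsg.Agent.Helper23.SGF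

universe u v w

attribute [local instance] dualAct

variable {F : Type w} [Field F] [IsAlgClosed F] {H : Type u} [Group H] [Finite H]
  {W : Type v} [AddCommGroup W] [Module F W] [FiniteDimensional F W]
  {ρ : Representation F H W} {Q B : Subgroup H} [Q.Normal] {σ : H} {q : ℕ}

/-- PIECE NSL1-CIIDX: `|Q : Cs| ≤ |Is : R|`.  Either: `g ↦ σ g σ⁻¹ g⁻¹` maps `Q` to `Is` and induces an
injection `Q / Cs → Is / R`; or: `Q = Cs ⊔ Is` (`ci_sq`, `x = x^(q+1) * (x^q)⁻¹`), `Cs ⊓ Is = R`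
(`m * m ∈ R` and `m ^ q ∈ R`) and the product formula (`Is` is normalised by `Q`). -/
theorem ci_index (L : LocConf ρ Q B σ q) {Cs Is : Subgroup H} (K : IsCI ρ Q σ Cs Is) :
    Nat.card ↥Q * Nat.card ↥(relCenter Q (kerIn ρ Q)) ≤ Nat.card ↥Is * Nat.card ↥Cs := by
  obtain ⟨hRC, hRI, hCQ, hIQ⟩ := ci_basic L K
  -- every element of `Q` is a product `c * i`
  have hdec : ∀ x ∈ Q, ∃ c ∈ Cs, ∃ i ∈ Is, x = c * i := by
    intro x hx
    obtain ⟨m, hm⟩ : ∃ m, q + 1 = 2 * m := by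
      have hodd : Odd q := L.hq.odd_of_ne_two L.hq2
      obtain ⟨k, hk⟩ := hodd
      exact ⟨k + 1, by omega⟩
    obtain ⟨c, hc, i, hi, hci⟩ := ci_sq L K (x ^ m) (Q.pow_mem hx m)
    have hxq : x ^ q ∈ relCenter Q (kerIn ρ Q) := L.hexp x hx
    refine ⟨c, hc, i * (x ^ q)⁻¹, Is.mul_mem hi (Is.inv_mem (hRI hxq)), ?_⟩
    rw [← mul_assoc, ← hci, ← pow_add, ← two_mul, ← hm, pow_succ]
    have : Commute (x ^ q) x := (Commute.refl x).pow_left q
    rw [this.eq, mul_assoc, mul_inv_cancel, mul_one]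
  choose! cf hcf jf hjf hxf using hdec
  let φ : ↥Q × ↥(relCenter Q (kerIn ρ Q)) → ↥Is × ↥Cs := fun p =>
    (⟨(p.2 : H) * jf (p.1 : H), Is.mul_mem (hRI p.2.2) (hjf _ p.1.2)⟩,
      ⟨cf (p.1 : H) * (p.2 : H)⁻¹, Cs.mul_mem (hcf _ p.1.2) (Cs.inv_mem (hRC p.2.2))⟩)
  have hinj : Function.Injective φ := by
    rintro ⟨x, r⟩ ⟨x', r'⟩ hφ
    have h1 : (r : H) * jf (x : H) = (r' : H) * jf (x' : H) :=
      congrArg (fun p : ↥Is × ↥Cs => ((p.1 : ↥Is) : H)) hφ
    have h2 : cf (x : H) * (r : H)⁻¹ = cf (x' : H) * (r' : H)⁻¹ :=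
      congrArg (fun p : ↥Is × ↥Cs => ((p.2 : ↥Cs) : H)) hφ
    have hx : (x : H) = (x' : H) := by
      calc (x : H) = cf (x : H) * jf (x : H) := hxf _ x.2
        _ = (cf (x : H) * (r : H)⁻¹) * ((r : H) * jf (x : H)) := by group
        _ = (cf (x' : H) * (r' : H)⁻¹) * ((r' : H) * jf (x' : H)) := by rw [h1, h2]
        _ = cf (x' : H) * jf (x' : H) := by group
        _ = (x' : H) := (hxf _ x'.2).symm
    have hr : (r : H) = (r' : H) := by
      rw [hx] at h2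
      have := mul_left_cancel h2
      exact inv_injective this
    exact Prod.ext (Subtype.ext hx) (Subtype.ext hr)
  calc Nat.card ↥Q * Nat.card ↥(relCenter Q (kerIn ρ Q))
      = Nat.card (↥Q × ↥(relCenter Q (kerIn ρ Q))) := (Nat.card_prod _ _).symm
    _ ≤ Nat.card (↥Is × ↥Cs) := Nat.card_le_card_of_injective φ hinj
    _ = Nat.card ↥Is * Nat.card ↥Cs := Nat.card_prod _ _

end Cfsg.Agent.Helper8.SG2N
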