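import Mathlib
import Cfsg.Agent.Lib.SG2N.NSL1CIBASIC

/-! S3795 NO-STACKING block B1 (designer helper8), abstract local analysis: piece NSL1-CINORM.
See Cfsg/Agent/Lib/SG2N/NSL1CIDefs.lean for the set-up and plans/S3795_nostack_plan.md. -/

set_option autoImplicit false
set_option linter.unusedSectionVars false
set_option linter.style.haveILetI false

namespace Cfsg.Agent.Helper8.SG2N

open Module Cfsg.Agent.Helper8.FrobLin Cfsg.Agent.Helper8.HHLin Cfsg.Agent.Helper23.SGF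

universe u v w

attribute [local instance] dualAct

variable {F : Type w} [Field F] [IsAlgClosed F] {H : Type u} [Group H] [Finite H]
  {W : Type v} [AddCommGroup W] [Module F W] [FiniteDimensional F W]
  {ρ : Representation F H W} {Q B : Subgroup H} [Q.Normal] {σ : H} {q : ℕ}

/-- PIECE NSL1-CINORM: `Is` is normal in `H = Q B` (`L.htop`): `Q` acts trivially on `Q / R`
(`comm_mem_lr`, `ci_basic`), `B` is abelian and contains `σ`; the normaliser contains `Q ⊔ B = ⊤`. -/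
theorem ci_normal (L : LocConf ρ Q B σ q) {Cs Is : Subgroup H} (K : IsCI ρ Q σ Cs Is) :
    ∀ h : H, ∀ g ∈ Is, h * g * h⁻¹ ∈ Is := by
  have hQn : ∀ h ∈ Q, ∀ g ∈ Is, h * g * h⁻¹ ∈ Is := by
    intro h hh g hg
    rw [K.hI] at hg ⊢
    obtain ⟨hgQ, hgR⟩ := hg
    refine ⟨Q.mul_mem (Q.mul_mem hh hgQ) (Q.inv_mem hh), ?_⟩
    have hh' : σ * h * σ⁻¹ ∈ Q := ‹Q.Normal›.conj_mem h hh σ
    have hx : σ * g * σ⁻¹ ∈ Q := ‹Q.Normal›.conj_mem g hgQ σ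
    have h1 := comm_mem_lr L _ hh' _ hx
    have h2 := comm_mem_lr L h hh g hgQ
    have h3 : (σ * g * σ⁻¹) * (h * g * h⁻¹ * g⁻¹) * (σ * g * σ⁻¹)⁻¹ ∈
        relCenter Q (kerIn ρ Q) := (relCenter_normal Q (kerIn ρ Q)).conj_mem _ h2 _
    have h4 := (relCenter Q (kerIn ρ Q)).mul_mem ((relCenter Q (kerIn ρ Q)).mul_mem h1 h3) hgR
    have e : σ * (h * g * h⁻¹) * σ⁻¹ * (h * g * h⁻¹) =
        ((σ * h * σ⁻¹) * (σ * g * σ⁻¹) * (σ * h * σ⁻¹)⁻¹ * (σ * g * σ⁻¹)⁻¹) *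
          ((σ * g * σ⁻¹) * (h * g * h⁻¹ * g⁻¹) * (σ * g * σ⁻¹)⁻¹) * (σ * g * σ⁻¹ * g) := by
      group
    rw [e]
    exact h4
  have hBn : ∀ c ∈ B, ∀ g ∈ Is, c * g * c⁻¹ ∈ Is := by
    intro c hc g hg
    rw [K.hI] at hg ⊢
    obtain ⟨hgQ, hgR⟩ := hg
    refine ⟨‹Q.Normal›.conj_mem g hgQ c, ?_⟩
    have hcomm : σ * c = c * σ := by
      haveI := L.hBc
      have h0 := (IsCyclic.commGroup (α := ↥B)).mul_comm ⟨σ, L.hσB⟩ ⟨c, hc⟩
      exact congrArg Subtype.val h0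
    have hcomm' : σ⁻¹ * c = c * σ⁻¹ := (Commute.inv_left (show Commute σ c from hcomm)).eq
    have h3 := (relCenter_normal Q (kerIn ρ Q)).conj_mem _ hgR c
    have e1 : c⁻¹ * σ⁻¹ * c = σ⁻¹ := by rw [mul_assoc, hcomm', inv_mul_cancel_left]
    have e : σ * (c * g * c⁻¹) * σ⁻¹ * (c * g * c⁻¹) = c * (σ * g * σ⁻¹ * g) * c⁻¹ := by
      calc σ * (c * g * c⁻¹) * σ⁻¹ * (c * g * c⁻¹)
          = (σ * c) * g * (c⁻¹ * σ⁻¹ * c) * g * c⁻¹ := by group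
        _ = (c * σ) * g * σ⁻¹ * g * c⁻¹ := by rw [hcomm, e1]
        _ = c * (σ * g * σ⁻¹ * g) * c⁻¹ := by group
    rw [e]
    exact h3
  intro h g hg
  have hh : h ∈ (↑(Q ⊔ B) : Set H) := by
    rw [L.htop]
    trivial
  rw [Subgroup.normal_mul] at hh
  obtain ⟨a, ha, c, hc, rfl⟩ := Set.mem_mul.mp hh
  have h5 := hQn a ha _ (hBn c hc g hg)
  have e : a * c * g * (a * c)⁻¹ = a * (c * g * c⁻¹) * a⁻¹ := by group
  rw [e]
  exact h5

end Cfsg.Agent.Helper8.SG2N
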