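import Mathlib
import Cfsg.Agent.Lib.SG2N.NSL1CIDefs

/-! S3795 NO-STACKING block B1 (designer helper8), abstract local analysis: piece NSL1-SC1.
See Cfsg/Agent/Lib/SG2N/NSL1CIDefs.lean for the set-up and plans/S3795_nostack_plan.md. -/

set_option autoImplicit false
set_option linter.unusedSectionVars false
set_option linter.style.haveILetI false

namespace Cfsg.Agent.Helper8.SG2N

open Module Cfsg.Agent.Helper8.FrobLin Cfsg.Agent.Helper8.HHLin Cfsg.Agent.Helper23.SGF

universe u v w

attribute [local instance] dualAct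

variable {F : Type w} [Field F] [IsAlgClosed F] {H : Type u} [Group H] [Finite H]
  {W : Type v} [AddCommGroup W] [Module F W] [FiniteDimensional F W]
  {ρ : Representation F H W} {Q B : Subgroup H} [Q.Normal] {σ : H} {q : ℕ}

/-- PIECE NSL1-SC1: elements of the radical commute with `ρ Q`. (`mem_relCenter`, `mem_kerIn`,
`rho_comm_iff_commutator`.) -/
theorem lr_comm (ρ : Representation F H W) (Q : Subgroup H) [Q.Normal] {r u : H}
    (hr : r ∈ relCenter Q (kerIn ρ Q)) (hu : u ∈ Q) : ρ r * ρ u = ρ u * ρ r := by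
  have h1 := (mem_relCenter.1 hr).2 u hu
  have h2 := ((mem_kerIn ρ).1 h1).2
  exact (rho_comm_iff_commutator ρ r u).2 h2

end Cfsg.Agent.Helper8.SG2N
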