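import Mathlib
import Cfsg.Agent.Lib.SG2N.NSL1CIDefs

/-! S3795 NO-STACKING block B1 (designer helper8), abstract local analysis: piece NSL1-SC2.
See Cfsg/Agent/Lib/SG2N/NSL1CIDefs.lean for the set-up and plans/S3795_nostack_plan.md. -/

set_option autoImplicit false
set_option linter.unusedSectionVars false
set_option linter.style.haveILetI false

namespace Cfsg.Agent.Helper8.SG2N

open Module Cfsg.Agent.Helper8.FrobLin Cfsg.Agent.Helper8.HHLin Cfsg.Agent.Helper23.SGF

universe u v w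

attribute [local instance] dualAct

variable {F : Type w} [Field F] [IsAlgClosed F] {H : Type u} [Group H] [Finite H]
  {W : Type v} [AddCommGroup W] [Module F W] [FiniteDimensional F W]
  {ρ : Representation F H W} {Q B : Subgroup H} [Q.Normal] {σ : H} {q : ℕ}

/-- PIECE NSL1-SC2: bilinearity of scalar commutators (second variable).
`g (u u') g⁻¹ (u u')⁻¹ = (g u g⁻¹ u⁻¹) * u (g u' g⁻¹ u'⁻¹) u⁻¹`. -/
theorem comm_scalar_mul (ρ : Representation F H W) {g u u' : H} {c c' : F}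
    (h : ρ (g * u * g⁻¹ * u⁻¹) = c • (1 : W →ₗ[F] W))
    (h' : ρ (g * u' * g⁻¹ * u'⁻¹) = c' • (1 : W →ₗ[F] W)) :
    ρ (g * (u * u') * g⁻¹ * (u * u')⁻¹) = (c * c') • (1 : W →ₗ[F] W) := by
  have e : g * (u * u') * g⁻¹ * (u * u')⁻¹ =
      (g * u * g⁻¹ * u⁻¹) * u * (g * u' * g⁻¹ * u'⁻¹) * u⁻¹ := by group
  have hinv : ρ u * ρ u⁻¹ = 1 := by rw [← map_mul, mul_inv_cancel, map_one]
  rw [e, map_mul, map_mul, map_mul, h, h']
  rw [smul_mul_assoc, one_mul, mul_smul_comm, mul_one, smul_mul_assoc, smul_mul_assoc, hinv,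
    smul_smul, mul_comm]

end Cfsg.Agent.Helper8.SG2N
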