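import Mathlib
import Cfsg.Agent.Lib.SG2N.NSL1SC2

/-! S3795 NO-STACKING block B1 (designer helper8), abstract local analysis: piece NSL1-SC3.
See Cfsg/Agent/Lib/SG2N/NSL1CIDefs.lean for the set-up and plans/S3795_nostack_plan.md. -/

set_option autoImplicit false
set_option linter.unusedSectionVars false
set_option linter.style.haveILetI false

namespace Cfsg.Agent.Helper8.SG2N

open Module Cfsg.Agent.Helper8.FrobLin Cfsg.Agent.Helper8.HHLin Cfsg.Agent.Helper23.SGF

universe u v w

attribute [local instance] dualAct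

variable {F : Type w} [Field F] [IsAlgClosed F] {H : Type u} [Group H] [Finite H]
  {W : Type v} [AddCommGroup W] [Module F W] [FiniteDimensional F W]
  {ρ : Representation F H W} {Q B : Subgroup H} [Q.Normal] {σ : H} {q : ℕ}

/-- PIECE NSL1-SC3: powers (induction with `comm_scalar_mul`). -/
theorem comm_scalar_pow (ρ : Representation F H W) {g u : H} {c : F}
    (h : ρ (g * u * g⁻¹ * u⁻¹) = c • (1 : W →ₗ[F] W)) (n : ℕ) :
    ρ (g * u ^ n * g⁻¹ * (u ^ n)⁻¹) = (c ^ n) • (1 : W →ₗ[F] W) := by
  induction n with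
  | zero =>
    rw [pow_zero, pow_zero, one_smul]
    have : g * 1 * g⁻¹ * (1 : H)⁻¹ = 1 := by group
    rw [this, map_one]
  | succ n ih =>
    rw [pow_succ, pow_succ]
    exact comm_scalar_mul ρ ih h

end Cfsg.Agent.Helper8.SG2N
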