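import Mathlib
import Cfsg.Agent.Lib.SG2N.NSL1CIDefs

/-! S3795 NO-STACKING block B1 (designer helper8), abstract local analysis: piece NSL1-SC4 (implemented by helper11).
See Cfsg/Agent/Lib/SG2N/NSL1CIDefs.lean for the set-up and plans/S3795_nostack_plan.md. -/

set_option autoImplicit false
set_option linter.unusedSectionVars false
set_option linter.style.haveILetI false

namespace Cfsg.Agent.Helper8.SG2N

open Module Cfsg.Agent.Helper8.FrobLin Cfsg.Agent.Helper8.HHLin Cfsg.Agent.Helper23.SGF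

universe u v w

attribute [local instance] dualAct

variable {F : Type w} [Field F] [IsAlgClosed F] {H : Type u} [Group H] [Finite H]
  {W : Type v} [AddCommGroup W] [Module F W] [FiniteDimensional F W]
  {ρ : Representation F H W} {Q B : Subgroup H} [Q.Normal] {σ : H} {q : ℕ}

/-- PIECE NSL1-SC4: swapping the variables inverts the scalar:
`u g u⁻¹ g⁻¹ = (g u g⁻¹ u⁻¹)⁻¹`; so `c * c' = 1`. -/
theorem comm_scalar_swap (ρ : Representation F H W) (hW : 0 < finrank F W) {g u : H} {c c' : F}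
    (h : ρ (g * u * g⁻¹ * u⁻¹) = c • (1 : W →ₗ[F] W))
    (h' : ρ (u * g * u⁻¹ * g⁻¹) = c' • (1 : W →ₗ[F] W)) : c * c' = 1 := by
  have h1 : (g * u * g⁻¹ * u⁻¹) * (u * g * u⁻¹ * g⁻¹) = 1 := by group
  have h2 : ρ (g * u * g⁻¹ * u⁻¹) * ρ (u * g * u⁻¹ * g⁻¹) = 1 := by
    rw [← map_mul, h1, map_one]
  rw [h, h'] at h2
  obtain ⟨w, hw⟩ := (Module.finrank_pos_iff_exists_ne_zero (R := F) (M := W)).mp hW
  have h3 := LinearMap.congr_fun h2 w
  simp only [Module.End.mul_apply, LinearMap.smul_apply, Module.End.one_apply, smul_smul] at h3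
  have h4 : (c * c' - 1) • w = 0 := by
    rw [sub_smul, one_smul, h3, sub_self]
  rcases smul_eq_zero.mp h4 with h5 | h5
  · exact sub_eq_zero.mp h5
  · exact absurd h5 hw

end Cfsg.Agent.Helper8.SG2N
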