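import Mathlib
import Cfsg.Agent.Lib.SG2N.NSL1SC1
import Cfsg.Agent.Lib.SG2N.NSL1SC2
import Cfsg.Agent.Lib.SG2N.NSL1SC3
import Cfsg.Agent.Lib.SG2N.NSL1SC4
import Cfsg.Agent.Lib.SG2N.NSL1SC5
import Cfsg.Agent.Lib.SG2N.NSL1CIBASIC

/-! S3795 NO-STACKING block B1 (designer helper8), abstract local analysis: piece NSL1-CIORTH.
See Cfsg/Agent/Lib/SG2N/NSL1CIDefs.lean for the set-up and plans/S3795_nostack_plan.md. -/

set_option autoImplicit false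
set_option linter.unusedSectionVars false
set_option linter.style.haveILetI false

namespace Cfsg.Agent.Helper8.SG2N

open Module Cfsg.Agent.Helper8.FrobLin Cfsg.Agent.Helper8.HHLin Cfsg.Agent.Helper23.SGF

universe u v w

attribute [local instance] dualAct

variable {F : Type w} [Field F] [IsAlgClosed F] {H : Type u} [Group H] [Finite H]
  {W : Type v} [AddCommGroup W] [Module F W] [FiniteDimensional F W]
  {ρ : Representation F H W} {Q B : Subgroup H} [Q.Normal] {σ : H} {q : ℕ}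

/-- scalars are determined by the scalar endomorphism on a non-zero space -/
theorem nsl1_ciorth_scal_inj (hW : 0 < finrank F W) {a b : F}
    (h : a • (1 : W →ₗ[F] W) = b • (1 : W →ₗ[F] W)) : a = b := by
  obtain ⟨w, hw⟩ := Module.finrank_pos_iff_exists_ne_zero.1 hW
  have h1 : a • w = b • w := by
    have := congrArg (fun T : W →ₗ[F] W => T w) h
    simpa using this
  have h2 : (a - b) • w = 0 := by rw [sub_smul, h1, sub_self]
  rcases smul_eq_zero.1 h2 with h3 | h3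
  · exact sub_eq_zero.1 h3
  · exact absurd h3 hw

/-- conjugating an element of `Q` by an element of the radical does not change its image -/
theorem nsl1_ciorth_conj (ρ : Representation F H W) (Q : Subgroup H) [Q.Normal] {r x : H}
    (hr : r ∈ relCenter Q (kerIn ρ Q)) (hx : x ∈ Q) : ρ (r * x * r⁻¹) = ρ x := by
  rw [map_mul, map_mul, lr_comm ρ Q hr hx, mul_assoc, ← map_mul, mul_inv_cancel, map_one, mul_one]

/-- PIECE NSL1-CIORTH: `ρ Cs` and `ρ Is` commute.  For `g ∈ Cs`, `h ∈ Is`: `ρ [g,h] = c • 1` (`hscal`);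
conjugating by `σ` (`comm_scalar_conj`) gives the same scalar for `[σgσ⁻¹, σhσ⁻¹] = [r g, r' h⁻¹]` with
`r, r' ∈ R` (`lr_comm`: they drop out), and `ρ [g, h⁻¹] = c⁻¹ • 1` (`comm_scalar_mul` with `h * h⁻¹`); so
`c * c = 1`; `c ^ q = 1` by `comm_scalar_pow`, `L.hexp` and `lr_comm`; `eq_one_of_sq_of_pow`;
`rho_comm_iff_commutator`. -/
theorem ci_orth (L : LocConf ρ Q B σ q) {Cs Is : Subgroup H} (K : IsCI ρ Q σ Cs Is) :
    ∀ g ∈ Cs, ∀ h ∈ Is, ρ g * ρ h = ρ h * ρ g := by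
  intro g hg h hh
  obtain ⟨hgQ, hrR⟩ := (K.hC g).1 hg
  obtain ⟨hhQ, hr'R⟩ := (K.hI h).1 hh
  have hRQ : relCenter Q (kerIn ρ Q) ≤ Q := relCenter_le _ _
  obtain ⟨c, hc⟩ := L.hscal g hgQ h hhQ
  -- the conjugated commutator
  have hconj := comm_scalar_conj ρ (x := σ) hc
  set r := σ * g * σ⁻¹ * g⁻¹ with hrdef
  set r' := σ * h * σ⁻¹ * h with hr'def
  have ha : σ * g * σ⁻¹ = r * g := by rw [hrdef]; group
  have hb : σ * h * σ⁻¹ = r' * h⁻¹ := by rw [hr'def]; group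
  have hrQ : r ∈ Q := hRQ hrR
  have hr'Q : r' ∈ Q := hRQ hr'R
  -- `ρ [g, h⁻¹] = c • 1`
  have hc' : ρ (g * h⁻¹ * g⁻¹ * h⁻¹⁻¹) = c • (1 : W →ₗ[F] W) := by
    have e1 : r * g * (r' * h⁻¹) * (r * g)⁻¹ * (r' * h⁻¹)⁻¹ =
        (r * (g * r' * h⁻¹ * g⁻¹) * r⁻¹) * (h * r'⁻¹) := by group
    have hX : g * r' * h⁻¹ * g⁻¹ ∈ Q :=
      Q.mul_mem (Q.mul_mem (Q.mul_mem hgQ hr'Q) (Q.inv_mem hhQ)) (Q.inv_mem hgQ)
    have hZ : h⁻¹ * g⁻¹ * h ∈ Q := Q.mul_mem (Q.mul_mem (Q.inv_mem hhQ) (Q.inv_mem hgQ)) hhQ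
    have e2 : g * r' * h⁻¹ * g⁻¹ * (h * r'⁻¹) = g * (r' * (h⁻¹ * g⁻¹ * h) * r'⁻¹) := by group
    have e3 : g * (h⁻¹ * g⁻¹ * h) = g * h⁻¹ * g⁻¹ * h⁻¹⁻¹ := by group
    have key : ρ (r * g * (r' * h⁻¹) * (r * g)⁻¹ * (r' * h⁻¹)⁻¹) =
        ρ (g * h⁻¹ * g⁻¹ * h⁻¹⁻¹) := by
      calc ρ (r * g * (r' * h⁻¹) * (r * g)⁻¹ * (r' * h⁻¹)⁻¹)
          = ρ (r * (g * r' * h⁻¹ * g⁻¹) * r⁻¹) * ρ (h * r'⁻¹) := by rw [e1, map_mul]
        _ = ρ (g * r' * h⁻¹ * g⁻¹) * ρ (h * r'⁻¹) := by rw [nsl1_ciorth_conj ρ Q hrR hX]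
        _ = ρ (g * (r' * (h⁻¹ * g⁻¹ * h) * r'⁻¹)) := by rw [← map_mul, e2]
        _ = ρ g * ρ (r' * (h⁻¹ * g⁻¹ * h) * r'⁻¹) := by rw [map_mul]
        _ = ρ g * ρ (h⁻¹ * g⁻¹ * h) := by rw [nsl1_ciorth_conj ρ Q hr'R hZ]
        _ = ρ (g * h⁻¹ * g⁻¹ * h⁻¹⁻¹) := by rw [← map_mul, e3]
    rw [← key, ← ha, ← hb]
    exact hconj
  -- `c * c = 1`
  have hcc : c * c = 1 := by
    have h1 := comm_scalar_mul ρ hc hc'
    have e3 : g * (h * h⁻¹) * g⁻¹ * (h * h⁻¹)⁻¹ = 1 := by group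
    rw [e3, map_one] at h1
    have h2 : (1 : F) • (1 : W →ₗ[F] W) = (c * c) • (1 : W →ₗ[F] W) := by
      rw [one_smul]; exact h1
    exact (nsl1_ciorth_scal_inj L.hW h2).symm
  -- `c ^ q = 1`
  have hcq : c ^ q = 1 := by
    have h1 := comm_scalar_pow ρ hc q
    have hhq : h ^ q ∈ relCenter Q (kerIn ρ Q) := L.hexp h hhQ
    have h2 : ρ g * ρ (h ^ q) = ρ (h ^ q) * ρ g := (lr_comm ρ Q hhq hgQ).symm
    have h3 : ρ (g * h ^ q * g⁻¹ * (h ^ q)⁻¹) = 1 := (rho_comm_iff_commutator ρ g (h ^ q)).1 h2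
    rw [h3] at h1
    have h4 : (1 : F) • (1 : W →ₗ[F] W) = (c ^ q) • (1 : W →ₗ[F] W) := by
      rw [one_smul]; exact h1
    exact (nsl1_ciorth_scal_inj L.hW h4).symm
  have hqodd : q % 2 = 1 := by
    rcases L.hq.eq_two_or_odd with h2 | h2
    · exact absurd h2 L.hq2
    · exact h2
  have hc1 : c = 1 := eq_one_of_sq_of_pow hqodd hcc hcq
  rw [hc1, one_smul] at hc
  exact (rho_comm_iff_commutator ρ g h).2 hc

end Cfsg.Agent.Helper8.SG2N
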