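import Mathlib
import Cfsg.Agent.Lib.SG2N.NSL1CIORTH
import Cfsg.Agent.Lib.SG2N.NSL1CISQ

/-! S3795 NO-STACKING block B1 (designer helper8), abstract local analysis: piece NSL1-CIRAD.
See Cfsg/Agent/Lib/SG2N/NSL1CIDefs.lean for the set-up and plans/S3795_nostack_plan.md. -/

set_option autoImplicit false
set_option linter.unusedSectionVars false
set_option linter.style.haveILetI false

namespace Cfsg.Agent.Helper8.SG2N

open Module Cfsg.Agent.Helper8.FrobLin Cfsg.Agent.Helper8.HHLin Cfsg.Agent.Helper23.SGF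

universe u v w

attribute [local instance] dualAct

variable {F : Type w} [Field F] [IsAlgClosed F] {H : Type u} [Group H] [Finite H]
  {W : Type v} [AddCommGroup W] [Module F W] [FiniteDimensional F W]
  {ρ : Representation F H W} {Q B : Subgroup H} [Q.Normal] {σ : H} {q : ℕ}

/-- a scalar operator equal to the identity on a non-zero space has scalar `1` -/
theorem nsl1cirad_scalar_eq_one (hW : 0 < finrank F W) {c : F}
    (h : c • (1 : W →ₗ[F] W) = 1) : c = 1 := by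
  obtain ⟨w, hw⟩ := Module.finrank_pos_iff_exists_ne_zero.mp hW
  have h1 := LinearMap.congr_fun h w
  rw [LinearMap.smul_apply, Module.End.one_apply] at h1
  have h2 : (c - 1) • w = 0 := by rw [sub_smul, one_smul, h1, sub_self]
  rcases smul_eq_zero.mp h2 with h3 | h3
  · exact sub_eq_zero.mp h3
  · exact absurd h3 hw

/-- PIECE NSL1-CIRAD: the radical of `Is` is `R`.  For `x ∈ Q`: `x * x = c * i` (`ci_sq`), `ρ [g, c] = 1`
(`ci_orth`), `ρ [g, i] = 1` (hypothesis), so `ρ [g, x * x] = 1` (`comm_scalar_mul`), i.e. the scalar of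
`[g, x]` has square one; its `q`-th power is one (`comm_scalar_pow`, `L.hexp`, `lr_comm`);
`eq_one_of_sq_of_pow`. -/
theorem ci_rad (L : LocConf ρ Q B σ q) {Cs Is : Subgroup H} (K : IsCI ρ Q σ Cs Is) :
    ∀ g ∈ Is, (∀ y ∈ Is, ρ (g * y * g⁻¹ * y⁻¹) = 1) → g ∈ relCenter Q (kerIn ρ Q) := by
  intro g hg hgI
  have hgQ : g ∈ Q := ((K.hI g).mp hg).1
  rw [mem_relCenter]
  refine ⟨hgQ, ?_⟩
  intro x hx
  rw [mem_kerIn]
  refine ⟨Q.mul_mem (Q.mul_mem (Q.mul_mem hgQ hx) (Q.inv_mem hgQ)) (Q.inv_mem hx), ?_⟩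
  obtain ⟨s, hs⟩ := L.hscal g hgQ x hx
  obtain ⟨c, hc, i, hi, hxx⟩ := ci_sq L K x hx
  -- `ρ [g, c] = 1`
  have h1 : ρ (g * c * g⁻¹ * c⁻¹) = (1 : F) • (1 : W →ₗ[F] W) := by
    rw [one_smul]
    exact (rho_comm_iff_commutator ρ g c).mp (ci_orth L K c hc g hg).symm
  have h2 : ρ (g * i * g⁻¹ * i⁻¹) = (1 : F) • (1 : W →ₗ[F] W) := by
    rw [one_smul]
    exact hgI i hi
  have h3 := comm_scalar_mul ρ h1 h2
  rw [← hxx, one_mul, one_smul] at h3
  have h4 := comm_scalar_mul ρ hs hs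
  rw [h3] at h4
  have hss : s * s = 1 := nsl1cirad_scalar_eq_one L.hW h4.symm
  -- `q`-th power
  have h5 := comm_scalar_pow ρ hs q
  have h6 : ρ (g * x ^ q * g⁻¹ * (x ^ q)⁻¹) = 1 :=
    (rho_comm_iff_commutator ρ g (x ^ q)).mp (lr_comm ρ Q (L.hexp x hx) hgQ).symm
  rw [h6] at h5
  have hsq : s ^ q = 1 := nsl1cirad_scalar_eq_one L.hW h5.symm
  have hq2 : q % 2 = 1 := by
    rcases L.hq.eq_two_or_odd with h7 | h7
    · exact absurd h7 L.hq2
    · exact h7
  have hs1 : s = 1 := eq_one_of_sq_of_pow hq2 hss hsq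
  rw [hs, hs1, one_smul]

end Cfsg.Agent.Helper8.SG2N
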