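import Mathlib
import Cfsg.Agent.Lib.SG2N.NSL1CIRAD
import Cfsg.Agent.Lib.SG2N.NSL1CIBASIC

/-! S3795 NO-STACKING block B1 (designer helper8), abstract local analysis: piece NSL1-CIRC.
See Cfsg/Agent/Lib/SG2N/NSL1CIDefs.lean for the set-up and plans/S3795_nostack_plan.md. -/

set_option autoImplicit false
set_option linter.unusedSectionVars false
set_option linter.style.haveILetI false

namespace Cfsg.Agent.Helper8.SG2N

open Module Cfsg.Agent.Helper8.FrobLin Cfsg.Agent.Helper8.HHLin Cfsg.Agent.Helper23.SGF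

universe u v w

attribute [local instance] dualAct

variable {F : Type w} [Field F] [IsAlgClosed F] {H : Type u} [Group H] [Finite H]
  {W : Type v} [AddCommGroup W] [Module F W] [FiniteDimensional F W]
  {ρ : Representation F H W} {Q B : Subgroup H} [Q.Normal] {σ : H} {q : ℕ}

/-- PIECE NSL1-CIRC: (`⊇`: `ci_basic`; `⊆`: `ci_rad`.) -/
theorem ci_relCenter (L : LocConf ρ Q B σ q) {Cs Is : Subgroup H} (K : IsCI ρ Q σ Cs Is)
    [Is.Normal] : relCenter Is (kerIn ρ Is) = relCenter Q (kerIn ρ Q) := by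
  obtain ⟨-, hRI, -, hIQ⟩ := ci_basic L K
  apply le_antisymm
  · intro m hm
    obtain ⟨hmI, hm2⟩ := mem_relCenter.1 hm
    exact ci_rad L K m hmI (fun y hy => (mem_kerIn ρ).1 (hm2 y hy) |>.2)
  · intro m hm
    obtain ⟨-, hm2⟩ := mem_relCenter.1 hm
    have hmI : m ∈ Is := hRI hm
    refine mem_relCenter.2 ⟨hmI, fun u hu => ?_⟩
    refine (mem_kerIn ρ).2 ⟨?_, ((mem_kerIn ρ).1 (hm2 u (hIQ hu))).2⟩
    exact Is.mul_mem (Is.mul_mem (Is.mul_mem hmI hu) (Is.inv_mem hmI)) (Is.inv_mem hu)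

end Cfsg.Agent.Helper8.SG2N
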