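import Mathlib
import Cfsg.Agent.Lib.SG2N.NSL1CIDefs

/-! S3795 NO-STACKING block B1 (designer helper8), abstract local analysis: piece NSL1-EXC.
See Cfsg/Agent/Lib/SG2N/NSL1CIDefs.lean for the set-up and plans/S3795_nostack_plan.md. -/

set_option autoImplicit false
set_option linter.unusedSectionVars false
set_option linter.style.haveILetI false

namespace Cfsg.Agent.Helper8.SG2N

open Module Cfsg.Agent.Helper8.FrobLin Cfsg.Agent.Helper8.HHLin Cfsg.Agent.Helper23.SGF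

universe u v w

attribute [local instance] dualAct

variable {F : Type w} [Field F] [IsAlgClosed F] {H : Type u} [Group H] [Finite H]
  {W : Type v} [AddCommGroup W] [Module F W] [FiniteDimensional F W]
  {ρ : Representation F H W} {Q B : Subgroup H} [Q.Normal] {σ : H} {q : ℕ}

/-- PIECE NSL1-EXC: the element `c`.  `|B'| = q + 1 = 2^j` (`B'` is a `2`-group), `j ≥ 2`, and `j ≥ 3` if
`q ≠ 3`; `k := if q = 3 then 1 else 2`; `b` a generator of `B'`, `c := b ^ (2 ^ (j - k - 1))`;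
`c ^ (2 ^ k) = b ^ (2 ^ (j - 1))` is an involution of the cyclic `2`-group `B`, hence equals `σ`
(`le_of_ne_bot_of_cyclic`). -/
theorem exists_c {H : Type*} [Group H] [Finite H] (B B' : Subgroup H) (σ : H) {q : ℕ}
    (hBc : IsCyclic ↥B) (hB2 : IsPGroup 2 ↥B) (hσB : σ ∈ B) (hσ2 : σ * σ = 1) (hσ1 : σ ≠ 1)
    (hB' : B' ≤ B) (hcard : Nat.card ↥B' = q + 1) (hq : q.Prime) (hq2 : q ≠ 2) :
    ∃ (k : ℕ) (c : H), (k = 1 ∨ k = 2) ∧ (k = 1 → q = 3) ∧ c ∈ B' ∧ c ^ (2 ^ k) = σ := by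
  classical
  -- `B'` is cyclic
  have hB'c : IsCyclic ↥B' := by
    haveI := hBc
    have h1 : IsCyclic ↥(B'.subgroupOf B) := inferInstance
    exact isCyclic_of_surjective (Subgroup.subgroupOfEquivOfLe hB').toMonoidHom
      (Subgroup.subgroupOfEquivOfLe hB').surjective
  obtain ⟨g, hg⟩ := hB'c.exists_generator
  have hord : orderOf g = q + 1 := by
    rw [orderOf_eq_card_of_forall_mem_zpowers hg, hcard]
  have hq3 : 3 ≤ q := by
    have := hq.two_le
    omega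
  obtain ⟨k, hk12, hk1, hkq⟩ : ∃ k : ℕ, (k = 1 ∨ k = 2) ∧ (k = 1 → q = 3) ∧ 2 ^ k < q + 1 := by
    by_cases h3 : q = 3
    · exact ⟨1, Or.inl rfl, fun _ => h3, by omega⟩
    · refine ⟨2, Or.inr rfl, fun h => by omega, ?_⟩
      have h4 : q ≠ 4 := by
        rintro rfl
        norm_num at hq
      omega
  have hne : ((g : H)) ^ (2 ^ k) ≠ 1 := by
    intro h1
    have h2 : g ^ (2 ^ k) = 1 := Subtype.ext (by rw [Subgroup.coe_pow, h1, Subgroup.coe_one])
    have h3 := orderOf_dvd_of_pow_eq_one h2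
    rw [hord] at h3
    have h4 := Nat.le_of_dvd (by positivity) h3
    omega
  set T := Subgroup.zpowers ((g : H) ^ (2 ^ k)) with hT
  have hTB' : T ≤ B' := by
    rw [hT, Subgroup.zpowers_le]
    exact B'.pow_mem g.2 _
  have hTne : T ≠ ⊥ := by
    intro h1
    apply hne
    have h2 : (g : H) ^ (2 ^ k) ∈ T := Subgroup.mem_zpowers _
    rw [h1, Subgroup.mem_bot] at h2
    exact h2
  have hX : Nat.card ↥(Subgroup.zpowers σ) = 2 := by
    rw [Nat.card_zpowers]
    exact orderOf_eq_prime (by rw [pow_two]; exact hσ2) hσ1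
  have hσT : σ ∈ T :=
    le_of_ne_bot_of_cyclic B (Subgroup.zpowers σ) T Nat.prime_two hBc hB2
      (by rw [Subgroup.zpowers_le]; exact hσB) hX (hTB'.trans hB') hTne (Subgroup.mem_zpowers σ)
  rw [hT, Subgroup.mem_zpowers_iff] at hσT
  obtain ⟨m, hm⟩ := hσT
  refine ⟨k, (g : H) ^ m, hk12, hk1, B'.zpow_mem g.2 m, ?_⟩
  have e1 : ((g : H) ^ m) ^ (2 ^ k) = (g : H) ^ (m * ((2 ^ k : ℕ) : ℤ)) := by
    rw [zpow_mul, zpow_natCast]
  have e2 : ((g : H) ^ (2 ^ k)) ^ m = (g : H) ^ (((2 ^ k : ℕ) : ℤ) * m) := by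
    rw [zpow_mul, zpow_natCast]
  rw [e1, ← hm, e2, mul_comm]

end Cfsg.Agent.Helper8.SG2N
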