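import Mathlib
import Cfsg.Agent.Lib.SG2N.NSL1CIEX
import Cfsg.Agent.Lib.SG2N.NSL1CIFPF
import Cfsg.Agent.Lib.SG2N.NSL1CIFIRST
import Cfsg.Agent.Lib.SG2N.NSL1CIIDX
import Cfsg.Agent.Lib.SG2N.NSL1CINORM
import Cfsg.Agent.Lib.SG2N.NSL1CIRC
import Cfsg.Agent.Lib.SG2N.NSL1EXC

/-! S3795 NO-STACKING block B1 (designer helper8), abstract local analysis: assembly `loc_main`.
See Cfsg/Agent/Lib/SG2N/NSL1CIDefs.lean for the set-up and plans/S3795_nostack_plan.md. -/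

set_option autoImplicit false
set_option linter.unusedSectionVars false
set_option linter.style.haveILetI false

namespace Cfsg.Agent.Helper8.SG2N

open Module Cfsg.Agent.Helper8.FrobLin Cfsg.Agent.Helper8.HHLin Cfsg.Agent.Helper23.SGF

universe u v w

attribute [local instance] dualAct

variable {F : Type w} [Field F] [IsAlgClosed F] {H : Type u} [Group H] [Finite H]
  {W : Type v} [AddCommGroup W] [Module F W] [FiniteDimensional F W]
  {ρ : Representation F H W} {Q B : Subgroup H} [Q.Normal] {σ : H} {q : ℕ}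

/-- **the abstract local analysis** (assembled from the pieces) -/
theorem loc_main (L : LocConf ρ Q B σ q) :
    (∀ g ∈ Q, σ * g * σ⁻¹ * g⁻¹ ∈ relCenter Q (kerIn ρ Q)) ∨
    ∃ (k : ℕ) (c : H) (C₁ : Subgroup H), (k = 1 ∨ k = 2) ∧ (k = 1 → q = 3) ∧ c ∈ B ∧
      c ^ (2 ^ k) = σ ∧ C₁ ≤ Q ∧ relCenter Q (kerIn ρ Q) ≤ C₁ ∧
      Nat.card ↥Q ≤ q ^ 2 * Nat.card ↥C₁ ∧ ∀ g ∈ C₁, ρ c * ρ g = ρ g * ρ c := by
  obtain ⟨Cs, Is, K⟩ := ci_exists L
  obtain ⟨hRC, hRI, hCQ, hIQ⟩ := ci_basic L K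
  by_cases hIR : Is ≤ relCenter Q (kerIn ρ Q)
  · left
    exact ci_first L K hIR
  · right
    haveI : Is.Normal := ⟨fun g hg h => ci_normal L K h g hg⟩
    have hRel := ci_relCenter L K
    have hne : ∃ g ∈ Is, g ∉ relCenter Is (kerIn ρ Is) := by
      rw [hRel]
      exact SetLike.not_le_iff_exists.mp hIR
    haveI : Fact q.Prime := ⟨L.hq⟩
    have hIsq : IsPGroup q ↥Is := by
      intro g
      obtain ⟨k, hk⟩ := L.hQ ⟨(g : H), hIQ g.2⟩
      refine ⟨k, ?_⟩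
      apply Subtype.ext
      have := congrArg Subtype.val hk
      simpa using this
    have hcharIs : (Nat.card ↥Is : F) ≠ 0 := by
      obtain ⟨l, hl⟩ := IsPGroup.exists_card_eq hIsq
      rw [hl]; push_cast; exact pow_ne_zero _ L.hqF
    obtain ⟨hcard, B', hB'B, hB'card, hT⟩ := hh_local_tight ρ Is B L.hW L.hBc L.hB2 hcharIs L.h2F
      L.hfix (fun g hg h hh => L.hscal g (hIQ hg) h (hIQ hh))
      (by rw [hRel]; exact ci_fpf L K) L.hq L.hq2 hIsq
      (by rw [hRel]; exact fun a ha => L.hexp a (hIQ ha)) hne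
    rw [hRel] at hcard
    obtain ⟨k, c, hk, hk3, hcB', hcσ⟩ :=
      exists_c B B' σ L.hBc L.hB2 L.hσB L.hσ2 L.hσ1 hB'B hB'card L.hq L.hq2
    refine ⟨k, c, Cs, hk, hk3, hB'B hcB', hcσ, hCQ, hRC, ?_, ?_⟩
    · have h1 := ci_index L K
      rw [hcard] at h1
      have hRpos : 0 < Nat.card ↥(relCenter Q (kerIn ρ Q)) := Nat.card_pos
      have h2 : Nat.card ↥Q * Nat.card ↥(relCenter Q (kerIn ρ Q)) ≤
          (q ^ 2 * Nat.card ↥Cs) * Nat.card ↥(relCenter Q (kerIn ρ Q)) := by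
        calc Nat.card ↥Q * Nat.card ↥(relCenter Q (kerIn ρ Q))
            ≤ q ^ 2 * Nat.card ↥(relCenter Q (kerIn ρ Q)) * Nat.card ↥Cs := h1
          _ = (q ^ 2 * Nat.card ↥Cs) * Nat.card ↥(relCenter Q (kerIn ρ Q)) := by ring
      exact Nat.le_of_mul_le_mul_right h2 hRpos
    · intro g hg
      exact hT (ρ g) (fun i hi => (ci_orth L K g hg i hi).symm) c hcB'

end Cfsg.Agent.Helper8.SG2N
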