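import Mathlib
import Cfsg.Agent.Lib.SG2N.NSDefs
import Cfsg.Agent.Lib.SG2N.NSL1Glob
import Cfsg.Agent.Lib.SG2N.NSL1Loc
import Cfsg.Agent.Lib.SG3.SGFKSTAB

/-! S3795 NO-STACKING block B1 (designer helper8): LEVEL ONE, main statement: restriction of `ρ` to
`H₁ = Q (A ∩ Stab χ)` acting on the weight space of `χ`, then `loc_main`. -/

set_option autoImplicit false
set_option linter.unusedSectionVars false
set_option linter.style.haveILetI false

namespace Cfsg.Agent.Helper8.SG2N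

open Module Cfsg.Agent.Helper8.FrobLin Cfsg.Agent.Helper8.HHLin Cfsg.Agent.Helper23.SGF

universe u v w

attribute [local instance] dualAct

variable {F : Type w} [Field F] [IsAlgClosed F] {Γ : Type u} [Group Γ] [Finite Γ]
  {V : Type v} [AddCommGroup V] [Module F V] [FiniteDimensional F V]
  {ρ : Representation F Γ V} {Q S A : Subgroup Γ} [Q.Normal] {σ : Γ} {q s : ℕ}

/-- **LEVEL ONE.** -/
theorem level1 (C : NSConf ρ Q S A σ q s) (χ : KW ρ Q) (hχ : KP ρ Q χ ≠ 0) :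
    L1Out ρ Q A σ q χ := by
  classical
  letI instZ : Fintype ↥(KZ ρ Q) := Fintype.ofFinite _
  haveI : Fact q.Prime := ⟨C.hq⟩
  haveI : Fact (Nat.Prime 2) := ⟨Nat.prime_two⟩
  -- characteristic conditions
  obtain ⟨l, hl⟩ := IsPGroup.exists_card_eq C.hQ
  obtain ⟨kA, hkA⟩ := IsPGroup.exists_card_eq C.hA
  have hcharQ : (Nat.card ↥Q : F) ≠ 0 := by
    rw [hl]; push_cast; exact pow_ne_zero _ C.hqF
  have hcharA : (Nat.card ↥A : F) ≠ 0 := by
    rw [hkA]; push_cast; exact pow_ne_zero _ C.h2F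
  have hchar_of_dvd : ∀ {a b : ℕ}, a ∣ b → (b : F) ≠ 0 → (a : F) ≠ 0 := by
    rintro a b ⟨c, rfl⟩ hb h0
    apply hb
    rw [Nat.cast_mul, h0, zero_mul]
  have hcharZ : (Nat.card ↥(KZ ρ Q) : F) ≠ 0 :=
    hchar_of_dvd (Subgroup.card_dvd_of_le (relCenter_le _ _)) hcharQ
  -- the group `H₁ = Q (A ∩ Stab χ)` and the weight space
  have hσχ : σ • χ = χ := sigma_smul C χ hχ
  set St : Subgroup Γ := MulAction.stabilizer Γ χ with hSt
  set Bχ : Subgroup Γ := A ⊓ St with hBχ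
  set H₁ : Subgroup Γ := Q ⊔ Bχ with hH₁
  have hQSt : Q ≤ St := fun g hg =>
    MulAction.mem_stabilizer_iff.mpr (central_smul Q (KN ρ Q) hg χ)
  have hH₁St : H₁ ≤ St := sup_le hQSt inf_le_right
  have hQH : Q ≤ H₁ := le_sup_left
  have hBH : Bχ ≤ H₁ := le_sup_right
  set W : Submodule F V := LinearMap.range (KP ρ Q χ) with hW
  have hinv : ∀ g : ↥H₁, W ≤ W.comap ((ρ.comp H₁.subtype) g) := by
    intro g
    exact range_wproj_le_comap ρ (KZ ρ Q) (KN ρ Q) χ (g : Γ)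
      (MulAction.mem_stabilizer_iff.mp (hH₁St g.2))
  set ρ₁ : Representation F ↥H₁ ↥W :=
    Representation.subrepresentation (ρ.comp H₁.subtype : Representation F ↥H₁ V) W hinv with hρ₁
  have hρ₁app : ∀ (g : ↥H₁) (w : ↥W), ((ρ₁ g w : ↥W) : V) = ρ (g : Γ) (w : V) := fun g w => rfl
  set Q₁ : Subgroup ↥H₁ := Q.subgroupOf H₁ with hQ₁
  set B₁ : Subgroup ↥H₁ := Bχ.subgroupOf H₁ with hB₁
  haveI hQ₁n : Q₁.Normal := Subgroup.normal_subgroupOf
  have hσBχ : σ ∈ Bχ := ⟨C.hσA, MulAction.mem_stabilizer_iff.mpr hσχ⟩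
  set σ₁ : ↥H₁ := ⟨σ, hBH hσBχ⟩ with hσ₁
  -- hypotheses of `loc_main`
  have hWpos : 0 < finrank F ↥W := by
    rw [Module.finrank_pos_iff_exists_ne_zero]
    by_contra hcon
    push Not at hcon
    apply hχ
    apply LinearMap.ext
    intro v
    have h1 := hcon ⟨KP ρ Q χ v, ⟨v, rfl⟩⟩
    exact congrArg Subtype.val h1
  have hcardQ₁ : Nat.card ↥Q₁ = Nat.card ↥Q :=
    Nat.card_congr (Subgroup.subgroupOfEquivOfLe hQH).toEquiv
  have hfix₁ : fixedBy ρ₁ B₁ = ⊥ := by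
    rw [eq_bot_iff]
    intro w hw
    rw [mem_fixedBy] at hw
    rw [Submodule.mem_bot]
    apply Subtype.ext
    have hwW : (w : V) ∈ LinearMap.range (wproj ρ (KZ ρ Q) (KN ρ Q) χ) := w.2
    refine stab_fixed_eq_zero ρ (KZ ρ Q) (KN ρ Q) A C.hfix hcharZ hcharA χ (w : V) hwW ?_
    intro a ha haχ
    have haB : a ∈ Bχ := ⟨ha, MulAction.mem_stabilizer_iff.mpr haχ⟩
    have h1 := hw ⟨a, hBH haB⟩ (Subgroup.mem_subgroupOf.mpr haB)
    exact congrArg Subtype.val h1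
  have hscal : ∀ g ∈ Q₁, ∀ h ∈ Q₁, ∃ c : F,
      ρ₁ (g * h * g⁻¹ * h⁻¹) = c • (1 : ↥W →ₗ[F] ↥W) := by
    intro g hg h hh
    have hgQ : (g : Γ) ∈ Q := Subgroup.mem_subgroupOf.mp hg
    have hhQ : (h : Γ) ∈ Q := Subgroup.mem_subgroupOf.mp hh
    have hz : (g : Γ) * (h : Γ) * (g : Γ)⁻¹ * (h : Γ)⁻¹ ∈ KZ ρ Q := C.hQZ _ hgQ _ hhQ
    refine ⟨((χ (QuotientGroup.mk ⟨_, hz⟩) : Fˣ) : F), ?_⟩
    apply LinearMap.ext
    intro w
    apply Subtype.ext
    obtain ⟨v, hv⟩ := w.2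
    have h1 := wproj_act ρ (KZ ρ Q) (KN ρ Q) χ ⟨_, hz⟩ v
    have hv' : wproj ρ (KZ ρ Q) (KN ρ Q) χ v = (w : V) := hv
    rw [hv'] at h1
    rw [hρ₁app]
    exact h1
  have htrans : ∀ g₁ : ↥H₁, g₁ ∈ relCenter Q₁ (kerIn ρ₁ Q₁) ↔ InRad ρ Q χ (g₁ : Γ) := by
    intro g₁
    rw [mem_relCenter]
    unfold InRad
    constructor
    · rintro ⟨hg, h⟩
      refine ⟨Subgroup.mem_subgroupOf.mp hg, fun u hu w hw => ?_⟩
      have hu1 : (⟨u, hQH hu⟩ : ↥H₁) ∈ Q₁ := Subgroup.mem_subgroupOf.mpr hu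
      have h2 := (mem_kerIn ρ₁).mp (h _ hu1)
      have h3 := congrArg (fun f : ↥W →ₗ[F] ↥W => ((f ⟨w, hw⟩ : ↥W) : V)) h2.2
      exact h3
    · rintro ⟨hg, h⟩
      have hg' : g₁ ∈ Q₁ := Subgroup.mem_subgroupOf.mpr hg
      refine ⟨hg', fun u hu => ?_⟩
      rw [mem_kerIn]
      refine ⟨Q₁.mul_mem (Q₁.mul_mem (Q₁.mul_mem hg' hu) (Q₁.inv_mem hg')) (Q₁.inv_mem hu), ?_⟩
      apply LinearMap.ext
      intro w
      apply Subtype.ext
      exact h (u : Γ) (Subgroup.mem_subgroupOf.mp hu) (w : V) w.2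
  have hL : LocConf ρ₁ Q₁ B₁ σ₁ q :=
    { htop := by
        rw [hQ₁, hB₁, ← Subgroup.subgroupOf_sup hQH hBH, ← hH₁]
        exact Subgroup.subgroupOf_self H₁
      hW := hWpos
      hq := C.hq
      hq2 := C.hq2
      hqF := C.hqF
      h2F := C.h2F
      hQ := by
        intro g
        obtain ⟨k, hk⟩ := C.hQ ⟨((g : ↥H₁) : Γ), Subgroup.mem_subgroupOf.mp g.2⟩
        refine ⟨k, ?_⟩
        apply Subtype.ext
        apply Subtype.ext
        have := congrArg Subtype.val hk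
        simpa using this
      hBc := by
        haveI := C.hAc
        haveI : IsCyclic ↥Bχ := by
          have e : ↥Bχ ≃* ↥(Bχ.subgroupOf A) := (Subgroup.subgroupOfEquivOfLe inf_le_left).symm
          exact isCyclic_of_surjective e.symm.toMonoidHom e.symm.surjective
        have e2 : ↥B₁ ≃* ↥Bχ := Subgroup.subgroupOfEquivOfLe hBH
        exact isCyclic_of_surjective e2.symm.toMonoidHom e2.symm.surjective
      hB2 := by
        intro g
        obtain ⟨k, hk⟩ := C.hA ⟨((g : ↥H₁) : Γ), (Subgroup.mem_subgroupOf.mp g.2).1⟩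
        refine ⟨k, ?_⟩
        apply Subtype.ext
        apply Subtype.ext
        have := congrArg Subtype.val hk
        simpa using this
      hσB := Subgroup.mem_subgroupOf.mpr hσBχ
      hσ2 := Subtype.ext C.hσ2
      hσ1 := fun h => C.hσ1 (congrArg Subtype.val h)
      hfix := hfix₁
      hscal := hscal
      hexp := by
        intro a ha
        rw [htrans]
        have haQ : (a : Γ) ∈ Q := Subgroup.mem_subgroupOf.mp ha
        have h1 : ((a ^ q : ↥H₁) : Γ) = (a : Γ) ^ q := by push_cast; rfl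
        rw [h1]
        exact mem_Rad.mp (kz_le_rad ρ Q χ (C.hQq _ haQ)) }
  rcases loc_main hL with h | ⟨k, c, C₁, hk, hk3, hcB, hcσ, hC₁Q, hRC₁, hcard, hcomm⟩
  · left
    intro g hg
    have h1 := h ⟨g, hQH hg⟩ (Subgroup.mem_subgroupOf.mpr hg)
    rw [htrans] at h1
    exact h1
  · right
    have hinj : Function.Injective H₁.subtype := H₁.subtype_injective
    have hcBχ : (c : Γ) ∈ Bχ := Subgroup.mem_subgroupOf.mp hcB
    refine ⟨k, (c : Γ), C₁.map H₁.subtype, hk, hk3, hcBχ.1, ?_,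
      MulAction.mem_stabilizer_iff.mp hcBχ.2, ?_, ?_, ?_, ?_⟩
    · have := congrArg Subtype.val hcσ
      simpa using this
    · rintro _ ⟨g, hg, rfl⟩
      exact Subgroup.mem_subgroupOf.mp (hC₁Q hg)
    · intro g hg
      have hgQ : g ∈ Q := (mem_Rad.mp hg).1
      refine ⟨⟨g, hQH hgQ⟩, hRC₁ ((htrans _).mpr (mem_Rad.mp hg)), rfl⟩
    · rw [Subgroup.card_map_of_injective hinj, ← hcardQ₁]
      exact hcard
    · rintro _ ⟨g, hg, rfl⟩
      have hgQ : (g : Γ) ∈ Q := Subgroup.mem_subgroupOf.mp (hC₁Q hg)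
      have hyQ : (c : Γ) * (g : Γ) * (c : Γ)⁻¹ * (g : Γ)⁻¹ ∈ Q :=
        Q.mul_mem (‹Q.Normal›.conj_mem _ hgQ _) (Q.inv_mem hgQ)
      apply inRad_of_triv ρ Q χ hyQ
      intro w hw
      have h1 := (rho_comm_iff_commutator ρ₁ c g).mp (hcomm g hg)
      have h2 := congrArg (fun f : ↥W →ₗ[F] ↥W => ((f ⟨w, hw⟩ : ↥W) : V)) h1
      exact h2

end Cfsg.Agent.Helper8.SG2N
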