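import Mathlib
import Cfsg.Agent.Lib.Helper8.HHLin14
import Cfsg.Agent.Lib.SG3.SGFKDefs

/-!
# S3795 block B2 (designer helper23): FEW-FIXED-POINTS Hall–Higman lemma `few_fix_comm`, definitions

`H` finite, `ρ : Representation F H U`, `S ≤ H` an `s`-group (`s` odd), `c ∈ H` normalising `S`,
`c^(2^(k+1)) = 1`, `rank (ρ c - 1) ≤ 2`.  Claim: `σ = c^(2^k)` commutes with `S` on `U`
(for `k = 1` provided `s ≠ 3`).  `FFStmt F s k N` = the statement at level `N = |S| + dim U`.
See plans/S3795_L2_plan.md.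
-/

set_option autoImplicit false
set_option linter.unusedSectionVars false

namespace Cfsg.Agent.Helper23.L2

open Module Cfsg.Agent.Helper8.FrobLin Cfsg.Agent.Helper8.HHLin

universe u v w

/-- `few_fix_comm` at level `N = |S| + dim U` -/
def FFStmt (F : Type w) [Field F] (s k N : ℕ) : Prop :=
  ∀ (H : Type u) [Group H] [Finite H] (U : Type v) [AddCommGroup U] [Module F U]
    [FiniteDimensional F U] (ρ : Representation F H U) (S : Subgroup H) (c : H),
    Nat.card ↥S + finrank F U = N →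
    IsPGroup s ↥S → (∀ g ∈ S, c * g * c⁻¹ ∈ S) → c ^ (2 ^ (k + 1)) = 1 →
    finrank F (LinearMap.range (ρ c - 1)) ≤ 2 →
    ∀ g ∈ S, ρ (c ^ (2 ^ k)) * ρ g = ρ g * ρ (c ^ (2 ^ k))

end Cfsg.Agent.Helper23.L2
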