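import Mathlib
import Cfsg.Agent.Lib.SG2N.L2Defs

/-! S3795 block B2 (designer helper23), piece L2-RANK3 (see plans/S3795_L2_plan.md). -/

set_option autoImplicit false
set_option linter.unusedSectionVars false

namespace Cfsg.Agent.Helper23.L2

open Module

/-- PURE LINEAR ALGEBRA.  `T` injective, `Q 0, Q 1, Q 2, Q 3` pairwise orthogonal idempotents with
`T ∘ Q i = Q (i+1) ∘ T` (`i < 3`) and `Q 0 ≠ 0`.  Then `rank (T - 1) ≥ 3`.
PROOF: pick `v` with `w₀ := Q 0 v ≠ 0`, `wᵢ := T^i w₀ ∈ range (Q i)` (`wᵢ₊₁ = T (Q i _) = Q (i+1) (T _)`), all `≠ 0`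
(`T` injective).  `uᵢ := (T - 1) wᵢ = wᵢ₊₁ - wᵢ` (`i = 0,1,2`) lie in `range (T - 1)` and are linearly
independent: from `a₀u₀ + a₁u₁ + a₂u₂ = 0` apply `Q 3` (`a₂ w₃ = 0`), then `Q 2`, then `Q 1`. -/
theorem rank_ge_three {F : Type*} [Field F] {U : Type*} [AddCommGroup U] [Module F U]
    [FiniteDimensional F U] (T T' : U →ₗ[F] U) (hT : T' * T = 1)
    (Q : ℕ → (U →ₗ[F] U))
    (horth : ∀ i j, i < 4 → j < 4 → ∀ v, Q i (Q j v) = if i = j then Q i v else 0)
    (hTQ : ∀ i, i < 3 → ∀ v, T (Q i v) = Q (i + 1) (T v))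
    (h0 : Q 0 ≠ 0) : 3 ≤ finrank F (LinearMap.range (T - 1)) := by
  classical
  -- `T` is injective
  have hinj : ∀ x, T x = 0 → x = 0 := by
    intro x hx
    have h1 := LinearMap.congr_fun hT x
    rw [Module.End.mul_apply, hx, map_zero, Module.End.one_apply] at h1
    exact h1.symm
  obtain ⟨v, hv⟩ : ∃ v, Q 0 v ≠ 0 := by
    by_contra hcon
    push_neg at hcon
    exact h0 (LinearMap.ext hcon)
  have hz : ∀ i j, i < 4 → j < 4 → i ≠ j → ∀ x, Q i (Q j x) = 0 := fun i j hi hj hne x => by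
    rw [horth i j hi hj x, if_neg hne]
  have hs : ∀ i, i < 4 → ∀ x, Q i (Q i x) = Q i x := fun i hi x => by
    rw [horth i i hi hi x, if_pos rfl]
  obtain ⟨w0, hw0⟩ : ∃ w, w = Q 0 v := ⟨_, rfl⟩
  obtain ⟨w1, hw1⟩ : ∃ w, w = Q 1 (T v) := ⟨_, rfl⟩
  obtain ⟨w2, hw2⟩ : ∃ w, w = Q 2 (T (T v)) := ⟨_, rfl⟩
  obtain ⟨w3, hw3⟩ : ∃ w, w = Q 3 (T (T (T v))) := ⟨_, rfl⟩
  have t01 : T w0 = w1 := by rw [hw0, hw1]; exact hTQ 0 (by norm_num) v
  have t12 : T w1 = w2 := by rw [hw1, hw2]; exact hTQ 1 (by norm_num) (T v)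
  have t23 : T w2 = w3 := by rw [hw2, hw3]; exact hTQ 2 (by norm_num) (T (T v))
  have n0 : w0 ≠ 0 := by rw [hw0]; exact hv
  have n1 : w1 ≠ 0 := fun h => n0 (hinj w0 (t01.trans h))
  have n2 : w2 ≠ 0 := fun h => n1 (hinj w1 (t12.trans h))
  have n3 : w3 ≠ 0 := fun h => n2 (hinj w2 (t23.trans h))
  -- the table of the `Q i wⱼ`
  have q30 : Q 3 w0 = 0 := by rw [hw0]; exact hz 3 0 (by norm_num) (by norm_num) (by norm_num) _
  have q31 : Q 3 w1 = 0 := by rw [hw1]; exact hz 3 1 (by norm_num) (by norm_num) (by norm_num) _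
  have q32 : Q 3 w2 = 0 := by rw [hw2]; exact hz 3 2 (by norm_num) (by norm_num) (by norm_num) _
  have q33 : Q 3 w3 = w3 := by rw [hw3]; exact hs 3 (by norm_num) _
  have q20 : Q 2 w0 = 0 := by rw [hw0]; exact hz 2 0 (by norm_num) (by norm_num) (by norm_num) _
  have q21 : Q 2 w1 = 0 := by rw [hw1]; exact hz 2 1 (by norm_num) (by norm_num) (by norm_num) _
  have q22 : Q 2 w2 = w2 := by rw [hw2]; exact hs 2 (by norm_num) _
  have q23 : Q 2 w3 = 0 := by rw [hw3]; exact hz 2 3 (by norm_num) (by norm_num) (by norm_num) _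
  have q10 : Q 1 w0 = 0 := by rw [hw0]; exact hz 1 0 (by norm_num) (by norm_num) (by norm_num) _
  have q11 : Q 1 w1 = w1 := by rw [hw1]; exact hs 1 (by norm_num) _
  have q12 : Q 1 w2 = 0 := by rw [hw2]; exact hz 1 2 (by norm_num) (by norm_num) (by norm_num) _
  have q13 : Q 1 w3 = 0 := by rw [hw3]; exact hz 1 3 (by norm_num) (by norm_num) (by norm_num) _
  -- three vectors of `range (T - 1)`
  have hsub : ∀ x, (T - 1) x = T x - x := fun x => by
    rw [LinearMap.sub_apply, Module.End.one_apply]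
  have m0 : w1 - w0 ∈ LinearMap.range (T - 1) := ⟨w0, by rw [hsub, t01]⟩
  have m1 : w2 - w1 ∈ LinearMap.range (T - 1) := ⟨w1, by rw [hsub, t12]⟩
  have m2 : w3 - w2 ∈ LinearMap.range (T - 1) := ⟨w2, by rw [hsub, t23]⟩
  let u' : Fin 3 → LinearMap.range (T - 1) := ![⟨w1 - w0, m0⟩, ⟨w2 - w1, m1⟩, ⟨w3 - w2, m2⟩]
  have hli : LinearIndependent F u' := by
    rw [Fintype.linearIndependent_iff]
    intro g hg
    rw [Fin.sum_univ_three] at hg
    have hg' : g 0 • (w1 - w0) + g 1 • (w2 - w1) + g 2 • (w3 - w2) = 0 := by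
      have h1 := congrArg (fun z : LinearMap.range (T - 1) => (z : U)) hg
      simpa [u'] using h1
    have e3 := congrArg (Q 3) hg'
    simp only [map_add, map_smul, map_sub, map_zero, q30, q31, q32, q33, sub_self, smul_zero,
      zero_add, sub_zero] at e3
    have g2 : g 2 = 0 := by
      rcases smul_eq_zero.mp e3 with h1 | h1
      · exact h1
      · exact absurd h1 n3
    have e2 := congrArg (Q 2) hg'
    simp only [map_add, map_smul, map_sub, map_zero, q20, q21, q22, q23, sub_self, smul_zero,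
      zero_add, sub_zero, g2, zero_smul, add_zero] at e2
    have g1 : g 1 = 0 := by
      rcases smul_eq_zero.mp e2 with h1 | h1
      · exact h1
      · exact absurd h1 n2
    have e1 := congrArg (Q 1) hg'
    simp only [map_add, map_smul, map_sub, map_zero, q10, q11, q12, q13, sub_self, smul_zero,
      zero_add, sub_zero, g2, g1, zero_smul, add_zero] at e1
    have g0 : g 0 = 0 := by
      rcases smul_eq_zero.mp e1 with h1 | h1
      · exact h1
      · exact absurd h1 n1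
    intro i
    fin_cases i
    · exact g0
    · exact g1
    · exact g2
  have h3 := hli.fintype_card_le_finrank
  simpa using h3

end Cfsg.Agent.Helper23.L2
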