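import Mathlib
import Cfsg.Agent.Lib.SG2N.L2RANK3

/-! S3795 block B2 (designer helper23), piece L2-CLAIMA (see plans/S3795_L2_plan.md). -/

set_option autoImplicit false
set_option linter.unusedSectionVars false

namespace Cfsg.Agent.Helper23.L2

open Module Cfsg.Agent.Helper8.FrobLin Cfsg.Agent.Helper8.HHLin

attribute [local instance] dualAct

/-- CLAIM A: if `rank (ρ c - 1) ≤ 2` and `c^8 = 1` then `c²` fixes every occurring weight `χ` of the
abelian section `M / N`.
PROOF: suppose `(c*c) • χ ≠ χ`.  Then `χ, c•χ, c²•χ, c³•χ` are pairwise distinct (`c•χ = χ ⇒ c²•χ = χ`;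
`c³•χ = χ ⇒ c⁹•χ = χ`, `c⁹ = c`; the other three pairs by cancelling `c`, `mul_smul`/`smul_left_cancel`).
Apply `rank_ge_three` (L2RANK3) with `T = ρ c`, `T' = ρ c⁻¹`, `Q i = wproj ρ M N (c^i • χ)`:
`horth` from `wproj_orth` + distinctness (if `c^i•χ = c^j•χ` with `i ≠ j < 4` contradiction),
`hTQ` = `wproj_equi ρ M N c (c^i • χ) v` + `pow_succ'`/`mul_smul`, `Q 0 = wproj χ ≠ 0` (`pow_zero, one_smul`). -/
theorem sq_smul_eq_of_rank {F : Type*} [Field F] [IsAlgClosed F] {G : Type*} [Group G] [Finite G]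
    {V : Type*} [AddCommGroup V] [Module F V] [FiniteDimensional F V] (ρ : Representation F G V)
    (M N : Subgroup G) [M.Normal] [N.Normal] [Fintype ↥M]
    (hcharM : (Nat.card ↥M : F) ≠ 0) (c : G) (hc8 : c ^ 8 = 1)
    (hrank : finrank F (LinearMap.range (ρ c - 1)) ≤ 2)
    (χ : (↥M ⧸ N.subgroupOf M) →* Fˣ) (hχ : wproj ρ M N χ ≠ 0) : (c * c) • χ = χ := by
  by_contra hne
  -- `c • χ ≠ χ`
  have h1 : c • χ ≠ χ := by
    intro h
    apply hne
    rw [mul_smul, h, h]
  -- no power `c^d`, `0 < d < 4`, fixes `χ`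
  have key : ∀ d : ℕ, 0 < d → d < 4 → c ^ d • χ ≠ χ := by
    intro d hd0 hd4 hd
    interval_cases d
    · rw [pow_one] at hd
      exact h1 hd
    · rw [pow_two] at hd
      exact hne hd
    · apply h1
      have h9 : c ^ 9 = c := by
        rw [show (9 : ℕ) = 8 + 1 from rfl, pow_add, hc8, one_mul, pow_one]
      have h39 : c ^ 9 = c ^ 3 * (c ^ 3 * c ^ 3) := by
        rw [← pow_add, ← pow_add]
      calc c • χ = c ^ 9 • χ := by rw [h9]
        _ = χ := by rw [h39, mul_smul, mul_smul, hd, hd, hd]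
  have dist : ∀ i j : ℕ, i < j → j < 4 → c ^ i • χ ≠ c ^ j • χ := by
    intro i j hij hj heq
    have hpow : c ^ j = c ^ i * c ^ (j - i) := by
      rw [← pow_add]
      congr 1
      omega
    rw [hpow, mul_smul] at heq
    exact key (j - i) (by omega) (by omega) (smul_left_cancel _ heq).symm
  have dist' : ∀ i j : ℕ, i < 4 → j < 4 → c ^ i • χ = c ^ j • χ → i = j := by
    intro i j hi hj heq
    rcases lt_trichotomy i j with h | h | h
    · exact absurd heq (dist i j h hj)
    · exact h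
    · exact absurd heq.symm (dist j i h hi)
  have hT : ρ c⁻¹ * ρ c = 1 := by
    rw [← map_mul, inv_mul_cancel, map_one]
  have h3 := rank_ge_three (F := F) (U := V) (ρ c) (ρ c⁻¹) hT
    (fun i => wproj ρ M N (c ^ i • χ))
    (by
      intro i j hi hj v
      show wproj ρ M N (c ^ i • χ) (wproj ρ M N (c ^ j • χ) v) =
        if i = j then wproj ρ M N (c ^ i • χ) v else 0
      rw [wproj_orth ρ M N hcharM]
      by_cases hij : i = j
      · subst hij
        rw [if_pos rfl, if_pos rfl]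
      · rw [if_neg hij, if_neg (fun hh => hij (dist' i j hi hj hh))])
    (by
      intro i _ v
      show ρ c (wproj ρ M N (c ^ i • χ) v) = wproj ρ M N (c ^ (i + 1) • χ) (ρ c v)
      rw [wproj_equi ρ M N c (c ^ i • χ) v, pow_succ', mul_smul])
    (by
      show wproj ρ M N (c ^ 0 • χ) ≠ 0
      rw [pow_zero, one_smul]
      exact hχ)
  omega

end Cfsg.Agent.Helper23.L2
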