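import Mathlib
import Cfsg.Agent.Lib.SG2N.L2Defs

/-! S3795 block B2 (designer helper23), piece L2-PAIR (see plans/S3795_L2_plan.md). -/

set_option autoImplicit false
set_option linter.unusedSectionVars false

namespace Cfsg.Agent.Helper23.L2

/-- if `c²` fixes `x` then the `⟨c⟩`-orbit of `x` is `{x, c • x}`.
PROOF: `a = c ^ n` (`Subgroup.mem_zpowers_iff`), `n = 2m` or `2m+1` (`Int.even_or_odd'`); `(c*c)^m • x = x`
(the stabiliser is a subgroup: `MulAction.mem_stabilizer_iff`, `zpow_mem`), `zpow_mul`, `zpow_add`, `zpow_one`, `mul_smul`. -/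
theorem zpowers_smul_pair {G : Type*} [Group G] {α : Type*} [MulAction G α] (c : G) (x : α)
    (h : (c * c) • x = x) : ∀ a ∈ Subgroup.zpowers c, a • x = x ∨ a • x = c • x := by
  intro a ha
  obtain ⟨n, rfl⟩ := Subgroup.mem_zpowers_iff.mp ha
  have hstab : c * c ∈ MulAction.stabilizer G x := MulAction.mem_stabilizer_iff.mpr h
  have hm : ∀ m : ℤ, (c ^ (2 * m)) • x = x := by
    intro m
    have h1 : c ^ (2 * m) = (c * c) ^ m := by
      rw [zpow_mul, zpow_two]
    rw [h1]
    exact MulAction.mem_stabilizer_iff.mp (Subgroup.zpow_mem _ hstab m)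
  rcases Int.even_or_odd' n with ⟨m, hm' | hm'⟩
  · left
    rw [hm']
    exact hm m
  · right
    rw [hm', add_comm, zpow_add, zpow_one, mul_smul, hm m]

/-- conjugation by powers of `c` preserves `S` if conjugation by `c` does (`S` finite).
PROOF: `c` lies in the normaliser: `c S c⁻¹ ⊆ S` and finiteness give equality; or: `a = c^n`, induction for `n ≥ 0`, and
`c⁻¹ = c ^ (orderOf c - 1)` (finite group) for negative exponents. -/
theorem zpowers_conj_mem {G : Type*} [Group G] [Finite G] (S : Subgroup G) (c : G)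
    (h : ∀ g ∈ S, c * g * c⁻¹ ∈ S) : ∀ a ∈ Subgroup.zpowers c, ∀ g ∈ S, a * g * a⁻¹ ∈ S := by
  have hnat : ∀ n : ℕ, ∀ g ∈ S, c ^ n * g * (c ^ n)⁻¹ ∈ S := by
    intro n
    induction n with
    | zero =>
      intro g hg
      simpa using hg
    | succ n ih =>
      intro g hg
      have h1 := h _ (ih g hg)
      have e : c * (c ^ n * g * (c ^ n)⁻¹) * c⁻¹ = c ^ (n + 1) * g * (c ^ (n + 1))⁻¹ := by
        rw [pow_succ']
        group
      rw [e] at h1
      exact h1
  intro a ha g hg
  rw [← mem_powers_iff_mem_zpowers] at ha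
  obtain ⟨n, rfl⟩ := (Submonoid.mem_powers_iff _ _).mp ha
  exact hnat n g hg

end Cfsg.Agent.Helper23.L2
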