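import Mathlib
import Cfsg.Agent.Lib.SG2N.L2Defs

/-! S3795 block B2 (designer helper23), piece L2-SCAL (see plans/S3795_L2_plan.md). -/

set_option autoImplicit false
set_option linter.unusedSectionVars false

namespace Cfsg.Agent.Helper23.L2

open Module Cfsg.Agent.Helper8.FrobLin Cfsg.Agent.Helper8.HHLin

attribute [local instance] dualAct

/-- if `χ₀` is the only occurring weight of the abelian section `M / N` (`N` acting trivially) then `M` acts on `V`
by the scalars `lam = χ₀ ∘ mk`.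
PROOF: `lam := χ₀.comp (QuotientGroup.mk' _)`.  `∑ χ, wproj χ = id` (as in `comm_of_smul_eq`, Lib/SG3/SGFKCC.lean, or
`key_core` `hsum`: `range_sum_wproj`, `htopN`, `permIdem_of_orth`, `sum_of_mem`), all `wproj χ = 0` for `χ ≠ χ₀`
(`Finset.sum_eq_single`), so `wproj χ₀ v = v`; then `wproj_act ρ M N χ₀ z v`. -/
theorem exists_scalar_of_single {F : Type*} [Field F] [IsAlgClosed F] {G : Type*} [Group G] [Finite G]
    {V : Type*} [AddCommGroup V] [Module F V] [FiniteDimensional F V] (ρ : Representation F G V)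
    (M N : Subgroup G) [M.Normal] [N.Normal] [Fintype ↥M] (hNM : N ≤ M)
    (hcomm : ∀ a ∈ M, ∀ b ∈ M, a * b * a⁻¹ * b⁻¹ ∈ N) (hcharM : (Nat.card ↥M : F) ≠ 0)
    (htopN : fixedBy ρ N = ⊤)
    (χ₀ : (↥M ⧸ N.subgroupOf M) →* Fˣ)
    (hall : ∀ χ : (↥M ⧸ N.subgroupOf M) →* Fˣ, wproj ρ M N χ ≠ 0 → χ = χ₀) :
    ∃ lam : ↥M →* Fˣ, ∀ (z : ↥M) (v : V), ρ (z : G) v = ((lam z : Fˣ) : F) • v := by
  classical
  let _ : Fintype ((↥M ⧸ N.subgroupOf M) →* Fˣ) := Fintype.ofFinite _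
  refine ⟨χ₀.comp (QuotientGroup.mk' (N.subgroupOf M)), ?_⟩
  intro z v
  have hr := range_sum_wproj ρ M N hNM hcomm hcharM
  rw [htopN] at hr
  have hv : v ∈ LinearMap.range (∑ χ : (↥M ⧸ N.subgroupOf M) →* Fˣ, wproj ρ M N χ) := by
    rw [hr]; trivial
  obtain ⟨u, rfl⟩ := hv
  have hs : (∑ χ : (↥M ⧸ N.subgroupOf M) →* Fˣ, wproj ρ M N χ) u = wproj ρ M N χ₀ u := by
    rw [LinearMap.sum_apply]
    apply Finset.sum_eq_single χ₀
    · intro χ _ hne
      have h0 : wproj ρ M N χ = 0 := by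
        by_contra h
        exact hne (hall χ h)
      rw [h0, LinearMap.zero_apply]
    · intro h
      exact absurd (Finset.mem_univ _) h
  rw [hs]
  exact wproj_act ρ M N χ₀ z u

end Cfsg.Agent.Helper23.L2
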