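import Mathlib
import Cfsg.Agent.Lib.SG2N.L2Defs

/-! S3795 block B2 (designer helper23), piece L2-SUBRANK, implemented by helper11 (see plans/S3795_L2_plan.md). -/

set_option autoImplicit false
set_option linter.unusedSectionVars false

namespace Cfsg.Agent.Helper23.L2

open Module

/-- `rank (ρ c - 1)` does not increase on a subrepresentation.
PROOF: `W.subtype` maps `range (ρ_W c - 1)` injectively into `range (ρ c - 1)`
(`((ρ_W c - 1) w : V) = (ρ c - 1) (w : V)`); `LinearMap.finrank_le_finrank_of_injective` on the
restricted/co-restricted subtype, or `Submodule.finrank_map_subtype_eq` + `Submodule.finrank_mono`. -/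
theorem subrep_rank_le {F : Type*} [Field F] {G : Type*} [Group G]
    {V : Type*} [AddCommGroup V] [Module F V] [FiniteDimensional F V] (ρ : Representation F G V)
    (W : Submodule F V) (hW : ∀ g : G, W ≤ W.comap (ρ g)) (c : G) :
    finrank F (LinearMap.range (ρ.subrepresentation W hW c - 1)) ≤
      finrank F (LinearMap.range (ρ c - 1)) := by
  have hle : (LinearMap.range (ρ.subrepresentation W hW c - 1)).map W.subtype ≤
      LinearMap.range (ρ c - 1) := by
    rintro _ ⟨_, ⟨w, rfl⟩, rfl⟩
    exact ⟨(w : V), rfl⟩
  rw [← Submodule.finrank_map_subtype_eq W (LinearMap.range (ρ.subrepresentation W hW c - 1))]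
  exact Submodule.finrank_mono hle

end Cfsg.Agent.Helper23.L2
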