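import Mathlib
import Cfsg.Agent.Lib.SG2N.L2Defs

/-! S3795 block B2 (designer helper23), piece L2-SWAPLA (see plans/S3795_L2_plan.md). -/

set_option autoImplicit false
set_option linter.unusedSectionVars false

namespace Cfsg.Agent.Helper23.L2

open Module

/-- one half of `swap_comm` -/
theorem l2swapla_key {F : Type*} [Field F] {U : Type*} [AddCommGroup U] [Module F U]
    [FiniteDimensional F U] (T T' P Pc B : U →ₗ[F] U) (hT : T' * T = 1)
    (hsum : P + Pc = 1) (h01 : P * Pc = 0) (h10 : Pc * P = 0)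
    (hTP0 : T * P = Pc * T) (hTP1 : T * Pc = P * T)
    (hrank : finrank F (LinearMap.range (T - 1)) ≤ 2)
    (hB0 : B * P = P * B) :
    (T * T) * B * P = B * (T * T) * P := by
  -- pointwise forms
  have tinj : ∀ v, T v = 0 → v = 0 := by
    intro v hv
    have := congrArg (fun f => f v) hT
    simp only [Module.End.mul_apply, Module.End.one_apply] at this
    rw [← this, hv, map_zero]
  have pp : ∀ v, P (P v) = P v := by
    intro v
    have h1 := congrArg (fun f => f (P v)) hsum
    have h2 := congrArg (fun f => f v) h10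
    simp only [LinearMap.add_apply, Module.End.mul_apply, Module.End.one_apply,
      LinearMap.zero_apply] at h1 h2
    rw [h2, add_zero] at h1
    exact h1
  have pcp : ∀ v, Pc (P v) = 0 := by
    intro v
    have h2 := congrArg (fun f => f v) h10
    simpa using h2
  have ppc : ∀ v, P (Pc v) = 0 := by
    intro v
    have h2 := congrArg (fun f => f v) h01
    simpa using h2
  have tp : ∀ v, T (P v) = Pc (T v) := by
    intro v
    have h2 := congrArg (fun f => f v) hTP0
    simpa using h2
  have tpc : ∀ v, T (Pc v) = P (T v) := by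
    intro v
    have h2 := congrArg (fun f => f v) hTP1
    simpa using h2
  have bp : ∀ v, B (P v) = P (B v) := by
    intro v
    have h2 := congrArg (fun f => f v) hB0
    simpa using h2
  have ttp : ∀ v, T (T (P v)) = P (T (T v)) := by
    intro v
    rw [tp, tpc]
  -- injectivity of T - 1 on W
  have hinj : ∀ w, P w = w → T w - w = 0 → w = 0 := by
    intro w hw h0
    have h1 : T w = w := sub_eq_zero.mp h0
    have h2 : P (T w) = 0 := by
      rw [← hw, tp, ppc]
    rw [h1, hw] at h2
    exact h2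
  -- the restricted map
  let φ : LinearMap.range P →ₗ[F] LinearMap.range (T - 1) :=
    { toFun := fun w => ⟨(T - 1) (w : U), ⟨_, rfl⟩⟩
      map_add' := by
        intro x y
        apply Subtype.ext
        simp only [Submodule.coe_add, map_add]
      map_smul' := by
        intro c x
        apply Subtype.ext
        simp only [Submodule.coe_smul, map_smul, RingHom.id_apply] }
  have hwP : ∀ w : LinearMap.range P, P (w : U) = w := by
    rintro ⟨_, v, rfl⟩
    exact pp v
  have hφinj : Function.Injective φ := by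
    rw [← LinearMap.ker_eq_bot, LinearMap.ker_eq_bot']
    intro w hw
    have h0 : (T - 1) (w : U) = 0 := congrArg Subtype.val hw
    simp only [LinearMap.sub_apply, Module.End.one_apply] at h0
    apply Subtype.ext
    exact hinj _ (hwP w) h0
  have hd : finrank F (LinearMap.range P) ≤ finrank F (LinearMap.range (T - 1)) :=
    LinearMap.finrank_le_finrank_of_injective hφinj
  -- reduce to the pointwise statement on W
  suffices hW : ∀ w, P w = w → T (T (B w)) = B (T (T w)) by
    ext v
    simp only [Module.End.mul_apply]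
    exact hW (P v) (pp v)
  have hd2 : finrank F (LinearMap.range P) ≤ 2 := hd.trans hrank
  interval_cases hdd : finrank F (LinearMap.range P)
  · -- d = 0
    intro w hw
    have hbot : LinearMap.range P = ⊥ := Submodule.finrank_eq_zero.mp hdd
    have hmem : w ∈ LinearMap.range P := ⟨w, hw⟩
    rw [hbot, Submodule.mem_bot] at hmem
    rw [hmem]; simp
  · -- d = 1
    obtain ⟨⟨w₀, hw₀⟩, hw₀0, hspan⟩ := (finrank_eq_one_iff' (K := F) (V := LinearMap.range P)).mp hdd
    have hw₀P : P w₀ = w₀ := hwP ⟨w₀, hw₀⟩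
    have hcoef : ∀ x : U, P x = x → ∃ c : F, x = c • w₀ := by
      intro x hx
      obtain ⟨c, hc⟩ := hspan ⟨x, ⟨x, hx⟩⟩
      exact ⟨c, (congrArg Subtype.val hc).symm⟩
    obtain ⟨τ, hτ⟩ := hcoef (T (T w₀)) (by rw [← ttp, hw₀P])
    obtain ⟨β, hβ⟩ := hcoef (B w₀) (by rw [← bp, hw₀P])
    intro w hw
    obtain ⟨c, rfl⟩ := hcoef w hw
    simp only [map_smul, hτ, hβ, smul_smul]
    congr 1
    ring
  · -- d = 2
    have hr2 : finrank F (LinearMap.range (T - 1)) = 2 := le_antisymm hrank (by omega)
    have hφsurj : Function.Surjective φ := by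
      have := LinearMap.injective_iff_surjective_of_finrank_eq_finrank (f := φ) (by rw [hdd, hr2])
      exact this.mp hφinj
    have hTT : ∀ w', P w' = w' → T (T w') = w' := by
      intro w' hw'
      obtain ⟨⟨w, hw⟩, hφw⟩ := hφsurj ⟨(T - 1) (T w'), ⟨_, rfl⟩⟩
      have hwP' : P w = w := hwP ⟨w, hw⟩
      have e : T w - w = T (T w') - T w' := by
        have h1 : (T - 1) w = (T - 1) (T w') := congrArg Subtype.val hφw
        simpa only [LinearMap.sub_apply, Module.End.one_apply] using h1
      -- apply Pc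
      have e1 : Pc (T w - w) = Pc (T (T w') - T w') := by rw [e]
      have hPcTw : Pc (T w) = T w := by rw [← tp, hwP']
      have hPcw : Pc w = 0 := by rw [← hwP', pcp]
      have hPcTTw' : Pc (T (T w')) = 0 := by
        rw [← hw', ttp, pcp]
      have hPcTw' : Pc (T w') = T w' := by rw [← tp, hw']
      rw [map_sub, map_sub, hPcTw, hPcw, hPcTTw', hPcTw', sub_zero, zero_sub] at e1
      have hww' : w = -w' := by
        have : T (w + w') = 0 := by rw [map_add, e1]; abel
        have := tinj _ this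
        exact eq_neg_of_add_eq_zero_left this
      -- apply P
      have e2 : P (T w - w) = P (T (T w') - T w') := by rw [e]
      have hPTw : P (T w) = 0 := by rw [← hwP', tp, ppc]
      have hPTTw' : P (T (T w')) = T (T w') := by rw [← ttp, hw']
      have hPTw' : P (T w') = 0 := by rw [← hw', tp, ppc]
      rw [map_sub, map_sub, hPTw, hwP', hPTTw', hPTw', sub_zero, zero_sub, hww', neg_neg] at e2
      exact e2.symm
    intro w hw
    have hBw : P (B w) = B w := by rw [← bp, hw]
    rw [hTT _ hBw, hTT _ hw]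

/-- PURE LINEAR ALGEBRA.  `U = W₀ ⊕ W₁` (`Wᵢ = range Pᵢ`), the invertible `T` swaps `W₀, W₁`,
`rank (T - 1) ≤ 2`, `B` preserves `W₀` and `W₁`.  Then `T²` commutes with `B`.
PROOF: (a) `T * T' = 1` too (`LinearMap.mul_eq_one_comm`), so `P₁ = T * P₀ * T'`, `finrank W₁ = finrank W₀ =: d`.
(b) `w ↦ (T - 1) w` is injective on `W₀` (`P₀ (T w - w) = -w` for `w ∈ W₀` since `P₀ T P₀ = P₀ P₁ T = 0`), so `d ≤ 2`.
(c) `d = 0`: `P₀ = 0 = P₁`, `1 = 0` in `End U`, everything is equal.
(d) `d = 1`: `T*T` and `B` commute with `P₀` and `P₁`; an operator `X` commuting with `Pᵢ` (range of dim 1) satisfies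
`X * Pᵢ = a • Pᵢ` for a scalar `a`; so `T*T*B*Pᵢ = B*T*T*Pᵢ` for `i = 0, 1`; add up (`P₀ + P₁ = 1`).
(e) `d = 2`: `W₀ → range (T - 1)` is then bijective, so for `w' ∈ W₀` there is `w ∈ W₀` with
`(T - 1) (T w') = (T - 1) w`; apply `P₁`: `-T w' = T w`, so `w = -w'`; apply `P₀`: `T² w' = w'`.  So `T² = 1` on `W₀`,
hence on `W₁ = T W₀`, hence `T * T = 1`. -/
theorem swap_comm {F : Type*} [Field F] {U : Type*} [AddCommGroup U] [Module F U]
    [FiniteDimensional F U] (T T' P₀ P₁ B : U →ₗ[F] U) (hT : T' * T = 1)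
    (hsum : P₀ + P₁ = 1) (h01 : P₀ * P₁ = 0) (h10 : P₁ * P₀ = 0)
    (hTP0 : T * P₀ = P₁ * T) (hTP1 : T * P₁ = P₀ * T)
    (hrank : finrank F (LinearMap.range (T - 1)) ≤ 2)
    (hB0 : B * P₀ = P₀ * B) (hB1 : B * P₁ = P₁ * B) :
    (T * T) * B = B * (T * T) := by
  have k0 := l2swapla_key T T' P₀ P₁ B hT hsum h01 h10 hTP0 hTP1 hrank hB0
  have k1 := l2swapla_key T T' P₁ P₀ B hT (by rw [add_comm]; exact hsum) h10 h01 hTP1 hTP0 hrank hB1
  calc (T * T) * B = (T * T) * B * (P₀ + P₁) := by rw [hsum, mul_one]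
    _ = (T * T) * B * P₀ + (T * T) * B * P₁ := by rw [mul_add]
    _ = B * (T * T) * P₀ + B * (T * T) * P₁ := by rw [k0, k1]
    _ = B * (T * T) * (P₀ + P₁) := by rw [mul_add]
    _ = B * (T * T) := by rw [hsum, mul_one]

end Cfsg.Agent.Helper23.L2
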