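import Mathlib
import Cfsg.Agent.Lib.SG2N.L2SWAPLA

/-! S3795 block B2 (designer helper23), piece L2-SWAP (see plans/S3795_L2_plan.md). -/

set_option autoImplicit false
set_option linter.unusedSectionVars false

namespace Cfsg.Agent.Helper23.L2

open Module Cfsg.Agent.Helper8.FrobLin Cfsg.Agent.Helper8.HHLin

attribute [local instance] dualAct

/-- the occurring weights of `M / N` are `χ₀ ≠ c • χ₀`, swapped by `c`, and `rank (ρ c - 1) ≤ 2`; then
`ρ (c*c)` commutes with `ρ g` for every `g` fixing all weights.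
PROOF: `swap_comm` (L2SWAPLA) with `T = ρ c`, `T' = ρ c⁻¹`, `P₀ = wproj χ₀`, `P₁ = wproj (c • χ₀)`, `B = ρ g`:
`P₀ + P₁ = 1` because `∑ χ, wproj χ = id` (`range_sum_wproj` + `htopN` + `permIdem_of_orth`/`sum_of_mem` exactly as in
`comm_of_smul_eq`, Lib/SG3/SGFKCC.lean, or `key_core` `hsum`) and all other `wproj χ` vanish (`hall`);
`h01, h10` = `wproj_orth` + `hmove`; `hTP0` = `wproj_equi c χ₀`; `hTP1` = `wproj_equi c (c•χ₀)` + `← mul_smul` + `h2`;
`hB0, hB1` = `wproj_equi g _` + `hg`. -/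
theorem comm_of_swap {F : Type*} [Field F] [IsAlgClosed F] {G : Type*} [Group G] [Finite G]
    {V : Type*} [AddCommGroup V] [Module F V] [FiniteDimensional F V] (ρ : Representation F G V)
    (M N : Subgroup G) [M.Normal] [N.Normal] [Fintype ↥M] (hNM : N ≤ M)
    (hcomm : ∀ a ∈ M, ∀ b ∈ M, a * b * a⁻¹ * b⁻¹ ∈ N) (hcharM : (Nat.card ↥M : F) ≠ 0)
    (htopN : fixedBy ρ N = ⊤) (c : G)
    (hrank : finrank F (LinearMap.range (ρ c - 1)) ≤ 2)
    (χ₀ : (↥M ⧸ N.subgroupOf M) →* Fˣ) (hmove : c • χ₀ ≠ χ₀) (h2 : (c * c) • χ₀ = χ₀)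
    (hall : ∀ χ : (↥M ⧸ N.subgroupOf M) →* Fˣ, wproj ρ M N χ ≠ 0 → χ = χ₀ ∨ χ = c • χ₀)
    (g : G) (hg : ∀ χ : (↥M ⧸ N.subgroupOf M) →* Fˣ, g • χ = χ) :
    ρ (c * c) * ρ g = ρ g * ρ (c * c) := by
  classical
  let _ : Fintype ((↥M ⧸ N.subgroupOf M) →* Fˣ) := Fintype.ofFinite _
  have horth : ∀ (χ χ' : (↥M ⧸ N.subgroupOf M) →* Fˣ) (v : V),
      wproj ρ M N χ (wproj ρ M N χ' v) = if χ = χ' then wproj ρ M N χ v else 0 :=
    wproj_orth ρ M N hcharM
  have h01 : wproj ρ M N χ₀ * wproj ρ M N (c • χ₀) = 0 := by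
    apply LinearMap.ext
    intro v
    rw [Module.End.mul_apply, horth, if_neg (Ne.symm hmove)]
    rfl
  have h10 : wproj ρ M N (c • χ₀) * wproj ρ M N χ₀ = 0 := by
    apply LinearMap.ext
    intro v
    rw [Module.End.mul_apply, horth, if_neg hmove]
    rfl
  have h00 : wproj ρ M N χ₀ * wproj ρ M N χ₀ = wproj ρ M N χ₀ := by
    apply LinearMap.ext
    intro v
    rw [Module.End.mul_apply, horth, if_pos rfl]
  have h11 : wproj ρ M N (c • χ₀) * wproj ρ M N (c • χ₀) = wproj ρ M N (c • χ₀) := by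
    apply LinearMap.ext
    intro v
    rw [Module.End.mul_apply, horth, if_pos rfl]
  have hsumeq : ∑ χ : (↥M ⧸ N.subgroupOf M) →* Fˣ, wproj ρ M N χ
      = wproj ρ M N χ₀ + wproj ρ M N (c • χ₀) := by
    apply Finset.sum_eq_add χ₀ (c • χ₀) (Ne.symm hmove)
    · intro χ _ hχ
      by_contra hne
      rcases hall χ hne with h1 | h1
      · exact hχ.1 h1
      · exact hχ.2 h1
    · intro h
      exact absurd (Finset.mem_univ _) h
    · intro h
      exact absurd (Finset.mem_univ _) h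
  have hr := range_sum_wproj ρ M N hNM hcomm hcharM
  rw [htopN, hsumeq] at hr
  have hidem : (wproj ρ M N χ₀ + wproj ρ M N (c • χ₀)) * (wproj ρ M N χ₀ + wproj ρ M N (c • χ₀))
      = wproj ρ M N χ₀ + wproj ρ M N (c • χ₀) := by
    rw [mul_add, add_mul, add_mul, h00, h01, h10, h11, add_zero, zero_add]
  have hsum : wproj ρ M N χ₀ + wproj ρ M N (c • χ₀) = 1 := by
    apply LinearMap.ext
    intro v
    have hv : v ∈ LinearMap.range (wproj ρ M N χ₀ + wproj ρ M N (c • χ₀)) := by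
      rw [hr]; trivial
    obtain ⟨u, rfl⟩ := hv
    rw [← Module.End.mul_apply, hidem]
    rfl
  have hTP0 : ρ c * wproj ρ M N χ₀ = wproj ρ M N (c • χ₀) * ρ c := by
    apply LinearMap.ext
    intro v
    exact wproj_equi ρ M N c χ₀ v
  have hTP1 : ρ c * wproj ρ M N (c • χ₀) = wproj ρ M N χ₀ * ρ c := by
    apply LinearMap.ext
    intro v
    have := wproj_equi ρ M N c (c • χ₀) v
    rw [← mul_smul, h2] at this
    exact this
  have hB0 : ρ g * wproj ρ M N χ₀ = wproj ρ M N χ₀ * ρ g := by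
    apply LinearMap.ext
    intro v
    have := wproj_equi ρ M N g χ₀ v
    rw [hg] at this
    exact this
  have hB1 : ρ g * wproj ρ M N (c • χ₀) = wproj ρ M N (c • χ₀) * ρ g := by
    apply LinearMap.ext
    intro v
    have := wproj_equi ρ M N g (c • χ₀) v
    rw [hg] at this
    exact this
  have hT : ρ c⁻¹ * ρ c = 1 := by rw [← map_mul, inv_mul_cancel, map_one]
  have key := swap_comm (ρ c) (ρ c⁻¹) (wproj ρ M N χ₀) (wproj ρ M N (c • χ₀)) (ρ g) hT hsum h01 h10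
    hTP0 hTP1 hrank hB0 hB1
  rw [map_mul]
  exact key

end Cfsg.Agent.Helper23.L2
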