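import Mathlib
import Cfsg.Agent.Lib.SG2N.L2Defs

/-! S3795 block B2 (designer helper23), piece L2-ENDE (see plans/S3795_L2_plan.md). -/

set_option autoImplicit false
set_option linter.unusedSectionVars false

namespace Cfsg.Agent.Helper23.L2

open Module Cfsg.Agent.Helper8.FrobLin Cfsg.Agent.Helper8.HHLin

attribute [local instance] dualAct

/-- the commutant of `E = ⟨c⟩` is large when `rank (ρ c - 1) ≤ 2`: `dim End_E(V) ≥ m² + r` with
`m = dim C_V(c)`, `r = dim V - m ≤ 2`.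
PROOF: copy the set-up of helper8's `abelian_commutant_bound` (Lib/Helper8/HHLin3.lean) with `E := zpowers c`
(abelian): eigen-projections `P χ = wproj ρ' ⊤ ⊥ χ`, `∑ finrank (range (P χ)) = finrank V`
(`finrank_range_sum_of_orth` + `range_sum_wproj`), `∑ (finrank range (P χ))² ≤ finrank (fixedBy (linHom ρ ρ) E)`
(`sum_sq_le_finrank_of_idem`).  `m := finrank (range (P 1))`, `range (P 1) = fixedBy ρ' ⊤` (`range_wproj_one`)
`= ker (ρ c - 1)` (every element of `E` is a power of `c`), so `m + finrank (range (ρ c - 1)) = finrank V`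
(`LinearMap.finrank_range_add_finrank_ker`), `r := finrank V - m ≤ 2`; `∑_{χ ≠ 1} a_χ² ≥ ∑_{χ ≠ 1} a_χ = r`. -/
theorem endE_ge {F : Type*} [Field F] [IsAlgClosed F] {G : Type*} [Group G] [Finite G]
    {V : Type*} [AddCommGroup V] [Module F V] [FiniteDimensional F V] (ρ : Representation F G V)
    (c : G) (hchar : (Nat.card ↥(Subgroup.zpowers c) : F) ≠ 0)
    (hrank : finrank F (LinearMap.range (ρ c - 1)) ≤ 2) :
    ∃ m r : ℕ, m + r = finrank F V ∧ r ≤ 2 ∧
      m ^ 2 + r ≤ finrank F (fixedBy (Representation.linHom ρ ρ) (Subgroup.zpowers c)) := by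
  classical
  set E : Subgroup G := Subgroup.zpowers c with hE
  have hab : ∀ a ∈ E, ∀ b ∈ E, a * b = b * a := by
    intro a ha b hb
    obtain ⟨i, rfl⟩ := Subgroup.mem_zpowers_iff.mp ha
    obtain ⟨j, rfl⟩ := Subgroup.mem_zpowers_iff.mp hb
    rw [← zpow_add, ← zpow_add, add_comm]
  set ρ' : Representation F ↥E V := ρ.comp E.subtype with hρ'
  set M : Subgroup ↥E := ⊤ with hM
  set N : Subgroup ↥E := ⊥ with hN
  letI : Fintype ↥M := Fintype.ofFinite _
  letI : Fintype ((↥M ⧸ N.subgroupOf M) →* Fˣ) := Fintype.ofFinite _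
  have hcardM : Nat.card ↥M = Nat.card ↥E := by rw [hM, Subgroup.card_top]
  have hcharM : (Nat.card ↥M : F) ≠ 0 := by rw [hcardM]; exact hchar
  have hNM : N ≤ M := bot_le
  have hcommE : ∀ a b : ↥E, a * b = b * a := by
    intro a b
    apply Subtype.ext
    exact hab a a.2 b b.2
  have hcomm : ∀ a ∈ M, ∀ b ∈ M, a * b * a⁻¹ * b⁻¹ ∈ N := by
    intro a _ b _
    rw [hN, Subgroup.mem_bot, hcommE a b]
    group
  set P : ((↥M ⧸ N.subgroupOf M) →* Fˣ) → (V →ₗ[F] V) := fun χ => wproj ρ' M N χ with hP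
  have horth : ∀ χ χ' : (↥M ⧸ N.subgroupOf M) →* Fˣ, ∀ v : V,
      P χ (P χ' v) = if χ = χ' then P χ v else 0 := fun χ χ' v => wproj_orth ρ' M N hcharM χ χ' v
  -- the projections commute with `E`
  have hPcomm : ∀ (χ : (↥M ⧸ N.subgroupOf M) →* Fˣ) (x : ↥E) (v : V),
      P χ (ρ (x : G) v) = ρ (x : G) (P χ v) := by
    intro χ x v
    have h1 := wproj_equi ρ' M N x χ v
    rw [smul_eq_of_comm M N (fun m _ => hcommE x m) χ] at h1
    exact h1.symm
  have hPact : ∀ (χ : (↥M ⧸ N.subgroupOf M) →* Fˣ) (x : ↥E) (v : V),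
      ρ (x : G) (P χ v) = ((χ (QuotientGroup.mk (⟨x, Subgroup.mem_top x⟩ : ↥M)) : Fˣ) : F) • P χ v :=
    fun χ x v => wproj_act ρ' M N χ ⟨x, Subgroup.mem_top x⟩ v
  set S : Submodule F (V →ₗ[F] V) := fixedBy (Representation.linHom ρ ρ) E with hS
  have hSmem : ∀ χ T, P χ ∘ₗ T ∘ₗ P χ ∈ S := by
    intro χ T
    rw [hS, mem_fixedBy]
    intro x hx
    rw [Representation.linHom_apply]
    apply LinearMap.ext
    intro v
    show ρ x (P χ (T (P χ (ρ x⁻¹ v)))) = P χ (T (P χ v))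
    have h1 := hPcomm χ ⟨x⁻¹, E.inv_mem hx⟩ v
    have h2 := hPact χ ⟨x⁻¹, E.inv_mem hx⟩ v
    have h3 := hPact χ ⟨x, hx⟩ (T (P χ v))
    simp only at h1 h2 h3
    rw [h1, h2, map_smul, map_smul, map_smul, h3, smul_smul, ← Units.val_mul, ← map_mul,
      ← QuotientGroup.mk_mul]
    have h4 : (⟨⟨x⁻¹, E.inv_mem hx⟩, Subgroup.mem_top _⟩ : ↥M) * ⟨⟨x, hx⟩, Subgroup.mem_top _⟩ = 1 := by
      apply Subtype.ext
      apply Subtype.ext
      show x⁻¹ * x = 1
      exact inv_mul_cancel x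
    rw [h4, QuotientGroup.mk_one, map_one, Units.val_one, one_smul]
  have h1 := sum_sq_le_finrank_of_idem P horth S hSmem
  have h2 := finrank_range_sum_of_orth P horth
  have hrS : LinearMap.range (∑ χ, P χ) = ⊤ := by
    rw [range_sum_wproj ρ' M N hNM hcomm hcharM, eq_top_iff]
    intro v _
    rw [mem_fixedBy]
    intro x hx
    rw [hN, Subgroup.mem_bot] at hx
    rw [hx, map_one]; rfl
  rw [hrS, finrank_top] at h2
  set a : ((↥M ⧸ N.subgroupOf M) →* Fˣ) → ℕ := fun χ => finrank F (LinearMap.range (P χ)) with ha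
  -- `range (P 1) = ker (ρ c - 1)`
  have hr1 : LinearMap.range (P 1) = LinearMap.ker (ρ c - 1) := by
    rw [hP]
    show LinearMap.range (wproj ρ' M N 1) = _
    rw [range_wproj_one ρ' M N hcharM]
    ext v
    rw [mem_fixedBy, LinearMap.mem_ker, LinearMap.sub_apply, Module.End.one_apply, sub_eq_zero]
    constructor
    · intro hv
      exact hv ⟨c, Subgroup.mem_zpowers c⟩ (Subgroup.mem_top _)
    · intro hv x _
      show ρ (x : G) v = v
      obtain ⟨i, hi⟩ := Subgroup.mem_zpowers_iff.mp x.2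
      rw [← hi]
      have hfix : ∀ y : G, ρ y v = v → ρ y⁻¹ v = v := by
        intro y hy
        calc ρ y⁻¹ v = ρ y⁻¹ (ρ y v) := by rw [hy]
          _ = (ρ y⁻¹ * ρ y) v := rfl
          _ = v := by rw [← map_mul, inv_mul_cancel, map_one]; rfl
      have hpow : ∀ n : ℕ, ρ (c ^ n) v = v := by
        intro n
        induction n with
        | zero => rw [pow_zero, map_one]; rfl
        | succ n ih =>
          rw [pow_succ, map_mul]
          show ρ (c ^ n) (ρ c v) = v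
          rw [hv, ih]
      rcases Int.eq_nat_or_neg i with ⟨n, rfl | rfl⟩
      · rw [zpow_natCast]; exact hpow n
      · rw [zpow_neg, zpow_natCast]; exact hfix _ (hpow n)
  have hm : a 1 + finrank F (LinearMap.range (ρ c - 1)) = finrank F V := by
    have := LinearMap.finrank_range_add_finrank_ker (ρ c - 1)
    show finrank F (LinearMap.range (P 1)) + _ = _
    rw [hr1]; omega
  have hsum : a 1 + ∑ χ ∈ Finset.univ.erase (1 : (↥M ⧸ N.subgroupOf M) →* Fˣ), a χ = finrank F V := by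
    rw [h2, ← Finset.add_sum_erase Finset.univ a (Finset.mem_univ 1)]
  have hsq : a 1 ^ 2 + ∑ χ ∈ Finset.univ.erase (1 : (↥M ⧸ N.subgroupOf M) →* Fˣ), a χ ^ 2 =
      ∑ χ, a χ ^ 2 :=
    Finset.add_sum_erase Finset.univ (fun χ => a χ ^ 2) (Finset.mem_univ 1)
  have hle : ∑ χ ∈ Finset.univ.erase (1 : (↥M ⧸ N.subgroupOf M) →* Fˣ), a χ ≤
      ∑ χ ∈ Finset.univ.erase (1 : (↥M ⧸ N.subgroupOf M) →* Fˣ), a χ ^ 2 :=
    Finset.sum_le_sum (fun χ _ => Nat.le_self_pow (by norm_num) _)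
  refine ⟨a 1, ∑ χ ∈ Finset.univ.erase (1 : (↥M ⧸ N.subgroupOf M) →* Fˣ), a χ, hsum, ?_, ?_⟩
  · omega
  · have h1' : ∑ χ, a χ ^ 2 ≤ finrank F S := h1
    omega

end Cfsg.Agent.Helper23.L2
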