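import Mathlib
import Cfsg.Agent.Lib.SG2N.L2Defs

/-! S3795 block B2 (designer helper23), piece L2-STEP6 (see plans/S3795_L2_plan.md). -/

set_option autoImplicit false
set_option linter.unusedSectionVars false
set_option linter.style.haveILetI false

namespace Cfsg.Agent.Helper23.L2

open Module Cfsg.Agent.Helper8.FrobLin Cfsg.Agent.Helper8.HHLin

attribute [local instance] dualAct

/-- step (6) of helper8's `hh_bound` as a separate statement: `|M| · dim End_M(V) ≤ |N| · (dim V)²`.
PROOF: COPY the block `have hm : ... := by ...` (step (6)) of `hh_bound` in Lib/Helper8/HHLin5.lean verbatim (together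
with the preliminary `hρA`, `hinv`, `hinv'`, `hρA_apply`, `hAN` of that proof which it uses). -/
theorem hh_step6 {F : Type*} [Field F] [IsAlgClosed F] {G : Type*} [Group G] [Finite G]
    {V : Type*} [AddCommGroup V] [Module F V] [FiniteDimensional F V]
    (ρ : Representation F G V) (M N : Subgroup G) [M.Normal] [N.Normal] (hNM : N ≤ M)
    (hcomm : ∀ a ∈ M, ∀ b ∈ M, a * b * a⁻¹ * b⁻¹ ∈ N)
    (lam : ↥N →* Fˣ) (hlam : ∀ (z : ↥N) (v : V), ρ (z : G) v = ((lam z : Fˣ) : F) • v)
    (hnd : ∀ g ∈ M, (∀ y ∈ M, ρ (y * g * y⁻¹ * g⁻¹) = 1) → g ∈ N)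
    (hcharM : (Nat.card ↥M : F) ≠ 0) (hV : 0 < finrank F V) :
    fixedBy (Representation.linHom ρ ρ) N = ⊤ ∧
    Nat.card ↥M * finrank F (fixedBy (Representation.linHom ρ ρ) M) ≤
      Nat.card ↥N * (finrank F V * finrank F V) := by
  classical
  set ρA : Representation F G (V →ₗ[F] V) := Representation.linHom ρ ρ with hρA
  have hinv : ∀ g : G, ρ g * ρ g⁻¹ = 1 := fun g => by rw [← map_mul, mul_inv_cancel, map_one]
  have hinv' : ∀ g : G, ρ g⁻¹ * ρ g = 1 := fun g => by rw [← map_mul, inv_mul_cancel, map_one]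
  have hρA_apply : ∀ (g : G) (T : V →ₗ[F] V), ρA g T = ρ g * T * ρ g⁻¹ := by
    intro g T
    rw [hρA, Representation.linHom_apply]
    rfl
  -- (1) `N` acts trivially on `End V`
  have hAN : fixedBy ρA N = ⊤ := by
    rw [eq_top_iff]
    intro T _
    rw [mem_fixedBy]
    intro z hz
    rw [hρA_apply]
    have h2 := rho_scalar ρ N lam hlam ⟨z, hz⟩
    have h3 := rho_scalar ρ N lam hlam ⟨z⁻¹, N.inv_mem hz⟩
    simp only at h2 h3
    have h4 : lam ⟨z⁻¹, N.inv_mem hz⟩ = (lam ⟨z, hz⟩)⁻¹ := by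
      rw [← map_inv]; rfl
    rw [h2, h3, h4, smul_mul_assoc, one_mul, mul_smul_comm, mul_one, smul_smul, ← Units.val_mul,
      inv_mul_cancel, Units.val_one, one_smul]
  have hm : Nat.card ↥M * finrank F (fixedBy ρA M) ≤
      Nat.card ↥N * (finrank F V * finrank F V) := by
    letI : Fintype ↥M := Fintype.ofFinite _
    letI : Fintype ((↥M ⧸ N.subgroupOf M) →* Fˣ) := Fintype.ofFinite _
    set P : ((↥M ⧸ N.subgroupOf M) →* Fˣ) → ((V →ₗ[F] V) →ₗ[F] (V →ₗ[F] V)) :=
      fun χ => wproj ρA M N χ with hP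
    have horth : ∀ χ χ' : (↥M ⧸ N.subgroupOf M) →* Fˣ, ∀ T : V →ₗ[F] V,
        P χ (P χ' T) = if χ = χ' then P χ T else 0 :=
      fun χ χ' T => wproj_orth ρA M N hcharM χ χ' T
    have hsum := finrank_range_sum_of_orth P horth
    rw [range_sum_wproj ρA M N hNM hcomm hcharM, hAN, finrank_top,
      Module.finrank_linearMap] at hsum
    set Θ : ↥M →* ((↥M ⧸ N.subgroupOf M) →* Fˣ) := qcharHom ρ M N hcomm lam hlam hV with hΘ
    have hge : ∀ g : ↥M, finrank F (fixedBy ρA M) ≤ finrank F (LinearMap.range (P (Θ g))) := by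
      intro g
      have hmem : ∀ T : ↥(fixedBy ρA M),
          (LinearMap.mulLeft F (ρ (g : G))).domRestrict (fixedBy ρA M) T ∈
            LinearMap.range (P (Θ g)) := by
        intro T
        show ρ (g : G) * (T : V →ₗ[F] V) ∈ LinearMap.range (wproj ρA M N (Θ g))
        rw [mem_range_wproj ρA M N hcharM]
        intro m
        have hT := (mem_fixedBy ρA M _).mp T.2 m m.2
        rw [hρA_apply] at hT
        rw [hρA_apply, hΘ, qcharHom_apply, qchar_mk]
        have h1 : ρ (m : G) * (ρ (g : G) * (T : V →ₗ[F] V)) * ρ (m : G)⁻¹ =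
            (ρ (m : G) * ρ (g : G) * ρ (m : G)⁻¹) * (ρ (m : G) * (T : V →ₗ[F] V) * ρ (m : G)⁻¹) := by
          have : ρ (m : G) * ρ (g : G) * ρ (m : G)⁻¹ * (ρ (m : G) * (T : V →ₗ[F] V) * ρ (m : G)⁻¹)
              = ρ (m : G) * ρ (g : G) * (ρ (m : G)⁻¹ * ρ (m : G)) * (T : V →ₗ[F] V) * ρ (m : G)⁻¹ := by
            simp only [mul_assoc]
          rw [this, hinv', mul_one]
          simp only [mul_assoc]
        rw [h1, hT, ← map_mul, ← map_mul, rho_conj ρ M N hcomm lam hlam m g, smul_mul_assoc]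
      let Φ : ↥(fixedBy ρA M) →ₗ[F] ↥(LinearMap.range (P (Θ g))) :=
        LinearMap.codRestrict _ ((LinearMap.mulLeft F (ρ (g : G))).domRestrict (fixedBy ρA M)) hmem
      have hinj : Function.Injective Φ := by
        intro T T' h
        have h1 : ρ (g : G) * (T : V →ₗ[F] V) = ρ (g : G) * (T' : V →ₗ[F] V) :=
          congrArg Subtype.val h
        apply Subtype.ext
        calc (T : V →ₗ[F] V) = ρ (g : G)⁻¹ * (ρ (g : G) * (T : V →ₗ[F] V)) := by
              rw [← mul_assoc, hinv', one_mul]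
          _ = ρ (g : G)⁻¹ * (ρ (g : G) * (T' : V →ₗ[F] V)) := by rw [h1]
          _ = (T' : V →ₗ[F] V) := by rw [← mul_assoc, hinv', one_mul]
      exact LinearMap.finrank_le_finrank_of_injective hinj
    have hker : Θ.ker ≤ N.subgroupOf M := by
      intro g hg
      rw [MonoidHom.mem_ker] at hg
      rw [Subgroup.mem_subgroupOf]
      apply hnd (g : G) g.2
      intro y hy
      have h1 : kp M N hcomm lam ⟨y, hy⟩ g = 1 := by
        have := DFunLike.congr_fun hg (QuotientGroup.mk (⟨y, hy⟩ : ↥M))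
        rw [hΘ, qcharHom_apply, qchar_mk, MonoidHom.one_apply] at this
        exact this
      have h2 := rho_conj ρ M N hcomm lam hlam ⟨y, hy⟩ g
      rw [h1, Units.val_one, one_smul] at h2
      rw [map_mul, h2, hinv]
    -- counting
    have hcard1 : Nat.card ↥M = Nat.card ↥Θ.range * Nat.card ↥Θ.ker := by
      rw [Subgroup.card_eq_card_quotient_mul_card_subgroup Θ.ker,
        Nat.card_congr (QuotientGroup.quotientKerEquivRange Θ).toEquiv]
    have hcard2 : Nat.card ↥Θ.ker ≤ Nat.card ↥N := by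
      have := Subgroup.card_le_of_le hker
      rwa [Nat.card_congr (Subgroup.subgroupOfEquivOfLe hNM).toEquiv] at this
    set R : Finset ((↥M ⧸ N.subgroupOf M) →* Fˣ) :=
      Finset.univ.filter (fun χ => χ ∈ Θ.range) with hR
    have hRcard : R.card = Nat.card ↥Θ.range := by
      rw [hR, ← Fintype.card_subtype, ← Nat.card_eq_fintype_card]
    have hsumR : R.card * finrank F (fixedBy ρA M) ≤
        ∑ χ ∈ R, finrank F (LinearMap.range (P χ)) := by
      rw [← smul_eq_mul]
      apply Finset.card_nsmul_le_sum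
      intro χ hχ
      rw [hR, Finset.mem_filter] at hχ
      obtain ⟨g, rfl⟩ := hχ.2
      exact hge g
    have hsumle : ∑ χ ∈ R, finrank F (LinearMap.range (P χ)) ≤ finrank F V * finrank F V := by
      rw [hsum]
      exact Finset.sum_le_sum_of_subset (Finset.subset_univ _)
    calc Nat.card ↥M * finrank F (fixedBy ρA M)
        = Nat.card ↥Θ.ker * (R.card * finrank F (fixedBy ρA M)) := by
          rw [hcard1, hRcard]; ring
      _ ≤ Nat.card ↥N * (finrank F V * finrank F V) :=
          Nat.mul_le_mul hcard2 (hsumR.trans hsumle)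
  exact ⟨hAN, hm⟩

end Cfsg.Agent.Helper23.L2
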