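import Mathlib
import Cfsg.Agent.Lib.SG2N.L2Defs

/-! S3795 block B2 (designer helper23), piece L2-TARITH (see plans/S3795_L2_plan.md). -/

set_option autoImplicit false
set_option linter.unusedSectionVars false

namespace Cfsg.Agent.Helper23.L2

/-- the final arithmetic.  `e = |E|`, `|S/Z| = t²`, `D = dim U`, `x = dim End_S(U)`, `y = dim End_E(U)`,
`c0 = dim End_{SE}(U)`, `m = dim C_U(c)`, `r = D - m`.
PROOF: `e*y ≤ D² + (e-1)*x` and `t²x ≤ D²` give `e t² (m² + r) ≤ D² (t² + e - 1)`.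
`e = 8, t ≥ 3`: `t² + 7 ≤ 16 t² / 9`, so `9 (m² + r) ≤ 2 D²`; `r = 0`: `9D² ≤ 2D²`; `r = 1`: `7D² - 18D + 18 ≤ 0`; `r = 2`:
`7D² - 36D + 54 ≤ 0`: all impossible (negative discriminants).  `e = 4, t ≥ 5`: `t² + 3 ≤ 28 t²/25`, so
`25 (m² + r) ≤ 7 D²`; `r = 1`: `18D² - 50D + 50 ≤ 0`; `r = 2`: `18D² - 100D + 150 ≤ 0`: impossible.
(Case split `r = 0, 1, 2` with `interval_cases r`, substitute `D = m + r`, then `nlinarith` with the products of the
hypotheses; it may help to first derive `9 * x ≤ D*D` resp. `25 * x ≤ D*D` from `ht`.) -/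
theorem tight_arith (e t D x y c0 m r : ℕ) (hD : 1 ≤ D) (hx : 1 ≤ x)
    (hcore : D * D + e * c0 = x + e * y) (hc0 : c0 ≤ x) (ht : t ^ 2 * x ≤ D * D)
    (hy : m ^ 2 + r ≤ y) (hmr : m + r = D) (hr : r ≤ 2)
    (het : (e = 8 ∧ 3 ≤ t) ∨ (e = 4 ∧ 5 ≤ t)) : False := by
  rcases het with ⟨rfl, ht3⟩ | ⟨rfl, ht5⟩
  · have h9 : 9 * x ≤ D * D := by
      have h0 : 9 ≤ t ^ 2 := by nlinarith
      calc 9 * x ≤ t ^ 2 * x := Nat.mul_le_mul_right x h0
        _ ≤ D * D := ht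
    have h2 : 9 * (m ^ 2 + r) ≤ 2 * (D * D) := by
      have h3 : 8 * (m ^ 2 + r) ≤ 8 * y := Nat.mul_le_mul_left 8 hy
      linarith
    subst hmr
    interval_cases r
    · nlinarith
    · nlinarith
    · nlinarith
  · have h25 : 25 * x ≤ D * D := by
      have h0 : 25 ≤ t ^ 2 := by nlinarith
      calc 25 * x ≤ t ^ 2 * x := Nat.mul_le_mul_right x h0
        _ ≤ D * D := ht
    have h2 : 25 * (m ^ 2 + r) ≤ 7 * (D * D) := by
      have h3 : 4 * (m ^ 2 + r) ≤ 4 * y := Nat.mul_le_mul_left 4 hy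
      linarith
    subst hmr
    interval_cases r
    · nlinarith
    · nlinarith
    · nlinarith

end Cfsg.Agent.Helper23.L2
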