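import Mathlib
import Cfsg.Agent.Lib.SG2N.L2ENDE
import Cfsg.Agent.Lib.SG2N.L2STEP6
import Cfsg.Agent.Lib.SG2N.L2TARITH

/-! S3795 block B2 (designer helper23): `ff_tight`, the minimal configuration is contradictory
(assembly of `core_rel`, `hh_square`, L2-STEP6, L2-ENDE, L2-TARITH). -/

set_option autoImplicit false
set_option linter.unusedSectionVars false
set_option linter.style.haveILetI false

namespace Cfsg.Agent.Helper23.L2

open Module Cfsg.Agent.Helper8.FrobLin Cfsg.Agent.Helper8.HHLin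

universe u v w

attribute [local instance] dualAct

theorem ff_tight {F : Type w} [Field F] [IsAlgClosed F] {H : Type u} [Group H] [Finite H]
    {U : Type v} [AddCommGroup U] [Module F U] [FiniteDimensional F U]
    (ρ : Representation F H U) (S Z : Subgroup H) [S.Normal] [Z.Normal] (c : H) {s k : ℕ}
    (hs : s.Prime) (hs2 : s ≠ 2) (hsF : (s : F) ≠ 0) (h2F : (2 : F) ≠ 0)
    (hS : IsPGroup s ↥S) (hk : k = 1 ∨ k = 2) (hc : c ^ (2 ^ (k + 1)) = 1)
    (hσ : c ^ (2 ^ k) ≠ 1) (hexc : k = 1 → s ≠ 3)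
    (hrank : finrank F (LinearMap.range (ρ c - 1)) ≤ 2)
    (hZS : Z < S) (hcomm : ∀ a ∈ S, ∀ b ∈ S, a * b * a⁻¹ * b⁻¹ ∈ Z)
    (lam : ↥Z →* Fˣ) (hlam : ∀ (z : ↥Z) (v : U), ρ (z : H) v = ((lam z : Fˣ) : F) • v)
    (hnd : ∀ g ∈ S, (∀ y ∈ S, ρ (y * g * y⁻¹ * g⁻¹) = 1) → g ∈ Z)
    (hfpf : ∀ e ∈ Subgroup.zpowers c, e ≠ 1 → ∀ m ∈ S, e * m * e⁻¹ * m⁻¹ ∈ Z → m ∈ Z)
    (hU : 0 < finrank F U) : False := by
  classical
  haveI : Fact s.Prime := ⟨hs⟩
  haveI : Fact (Nat.Prime 2) := ⟨Nat.prime_two⟩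
  set E : Subgroup H := Subgroup.zpowers c with hE
  have hord : orderOf c = 2 ^ (k + 1) := orderOf_eq_prime_pow hσ hc
  have hcardE : Nat.card ↥E = 2 ^ (k + 1) := by rw [hE, Nat.card_zpowers, hord]
  have hcharE : (Nat.card ↥E : F) ≠ 0 := by
    rw [hcardE]; push_cast; exact pow_ne_zero _ h2F
  obtain ⟨a, ha⟩ := hS.exists_card_eq
  have hcharS : (Nat.card ↥S : F) ≠ 0 := by
    rw [ha]; push_cast; exact pow_ne_zero _ hsF
  obtain ⟨hAN, hm⟩ := hh_step6 ρ S Z hZS.le hcomm lam hlam hnd hcharS hU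
  have core := core_rel (Representation.linHom ρ ρ) S Z E hZS.le hcomm hfpf hcharS
  rw [hAN, top_inf_eq, finrank_top, Module.finrank_linearMap] at core
  obtain ⟨t, ht⟩ := hh_square ρ S Z hcomm lam hlam hU hZS.le hnd hcharS
  obtain ⟨m, r, hmr, hr, hy⟩ := endE_ge ρ c hcharE hrank
  -- `t ≥ s`
  have hZpos : 0 < Nat.card ↥Z := Nat.card_pos
  have hlt : Nat.card ↥Z < Nat.card ↥S := by
    by_contra hcon
    exact absurd (Subgroup.eq_of_le_of_card_ge hZS.le (not_lt.mp hcon)) hZS.ne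
  have ht1 : 1 < t := by
    by_contra hcon
    have : t ≤ 1 := not_lt.mp hcon
    have h2 : t ^ 2 ≤ 1 := by
      calc t ^ 2 ≤ 1 ^ 2 := Nat.pow_le_pow_left this 2
        _ = 1 := one_pow 2
    have h3 : Nat.card ↥S ≤ 1 * Nat.card ↥Z := by
      rw [ht]; exact Nat.mul_le_mul_right _ h2
    omega
  have hst : s ∣ t := by
    have h1 : t ^ 2 ∣ s ^ a := by rw [← ha, ht]; exact Dvd.intro _ rfl
    have h2 : t ∣ s ^ a := (dvd_pow_self t two_ne_zero).trans h1
    obtain ⟨b, _, hb⟩ := (Nat.dvd_prime_pow hs).mp h2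
    rcases Nat.eq_zero_or_pos b with hb0 | hbpos
    · rw [hb0, pow_zero] at hb; omega
    · rw [hb]; exact dvd_pow_self s hbpos.ne'
  have hts : s ≤ t := Nat.le_of_dvd (by omega) hst
  have hs3 : 3 ≤ s := by
    have := hs.two_le
    omega
  have hs5 : k = 1 → 5 ≤ s := by
    intro hk1
    have h3 := hexc hk1
    by_contra hcon
    have h4 : s = 4 := by omega
    rw [h4] at hs
    exact absurd hs (by norm_num)
  -- the step-6 bound in terms of `t`
  have hx1 : 1 ≤ finrank F (fixedBy (Representation.linHom ρ ρ) S) := by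
    rw [Submodule.one_le_finrank_iff]
    intro hbot
    have h1 : (1 : U →ₗ[F] U) ∈ fixedBy (Representation.linHom ρ ρ) S := by
      rw [mem_fixedBy]
      intro g _
      rw [Representation.linHom_apply]
      apply LinearMap.ext
      intro v
      show ρ g ((1 : U →ₗ[F] U) (ρ g⁻¹ v)) = (1 : U →ₗ[F] U) v
      rw [Module.End.one_apply, Module.End.one_apply]
      have := rho_inv_rho ρ g⁻¹ v
      rwa [inv_inv] at this
    rw [hbot, Submodule.mem_bot] at h1
    haveI : Nontrivial U := Module.finrank_pos_iff.mp hU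
    obtain ⟨v, hv⟩ := exists_ne (0 : U)
    apply hv
    have := LinearMap.congr_fun h1 v
    exact this
  have htx : t ^ 2 * finrank F (fixedBy (Representation.linHom ρ ρ) S) ≤
      finrank F U * finrank F U := by
    rw [ht] at hm
    have h1 : Nat.card ↥Z * (t ^ 2 * finrank F (fixedBy (Representation.linHom ρ ρ) S)) ≤
        Nat.card ↥Z * (finrank F U * finrank F U) := by
      calc Nat.card ↥Z * (t ^ 2 * finrank F (fixedBy (Representation.linHom ρ ρ) S))
          = t ^ 2 * Nat.card ↥Z * finrank F (fixedBy (Representation.linHom ρ ρ) S) := by ring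
        _ ≤ _ := hm
    exact Nat.le_of_mul_le_mul_left h1 hZpos
  have hc0 : finrank F ↥(fixedBy (Representation.linHom ρ ρ) S ⊓
      fixedBy (Representation.linHom ρ ρ) E) ≤
      finrank F (fixedBy (Representation.linHom ρ ρ) S) := Submodule.finrank_mono inf_le_left
  refine tight_arith (Nat.card ↥E) t (finrank F U)
    (finrank F (fixedBy (Representation.linHom ρ ρ) S))
    (finrank F (fixedBy (Representation.linHom ρ ρ) E))
    (finrank F ↥(fixedBy (Representation.linHom ρ ρ) S ⊓ fixedBy (Representation.linHom ρ ρ) E))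
    m r hU hx1 core hc0 htx hy hmr hr ?_
  rcases hk with hk1 | hk2
  · right
    refine ⟨by rw [hcardE, hk1]; norm_num, ?_⟩
    have := hs5 hk1
    omega
  · left
    refine ⟨by rw [hcardE, hk2]; norm_num, ?_⟩
    omega

end Cfsg.Agent.Helper23.L2
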