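import Mathlib
import Cfsg.Agent.Lib.SG2N.L2Defs
import Cfsg.Agent.Lib.SG2N.L2CLAIMA
import Cfsg.Agent.Lib.SG2N.L2SWAP
import Cfsg.Agent.Lib.SG2N.L2PAIR
import Cfsg.Agent.Lib.SG2N.L2SUBRANK
import Cfsg.Agent.Lib.SG2N.L2SCAL
import Cfsg.Agent.Lib.SG2N.L2TIGHT
import Cfsg.Agent.Lib.SG3.SGFKAINV
import Cfsg.Agent.Lib.SG3.SGFKORB
import Cfsg.Agent.Lib.SG3.SGFKCC
import Cfsg.Agent.Lib.SG3.SGFKFPFA

/-!
# S3795 block B2 (designer helper23): `few_fix_comm`, inductive step (assembly; adapted from `key_core`)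
-/

set_option autoImplicit false
set_option linter.unusedSectionVars false
set_option linter.style.haveILetI false

namespace Cfsg.Agent.Helper23.L2

open Module Cfsg.Agent.Helper8.FrobLin Cfsg.Agent.Helper8.HHLin Cfsg.Agent.Helper23.SGF
open scoped commutatorElement

universe u v w

section Core

variable {F : Type w} [Field F] [IsAlgClosed F] {s k : ℕ}

attribute [local instance] dualAct

theorem ff_sub (N : ℕ) (IH : ∀ m < N, FFStmt.{u, v, w} F s k m)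
    (H : Type u) [Group H] [Finite H] (U : Type v) [AddCommGroup U] [Module F U]
    [FiniteDimensional F U] (ρ : Representation F H U) (S : Subgroup H) (c : H)
    (hn : Nat.card ↥S + finrank F U = N)
    (hS : IsPGroup s ↥S) (hcS : ∀ g ∈ S, c * g * c⁻¹ ∈ S) (hc : c ^ (2 ^ (k + 1)) = 1)
    (hrank : finrank F (LinearMap.range (ρ c - 1)) ≤ 2)
    (W : Submodule F U) (hW : ∀ g : H, W ≤ W.comap (ρ g)) (hlt : finrank F W < finrank F U) :
    ∀ g ∈ S, ∀ w ∈ W, ρ (c ^ (2 ^ k)) (ρ g w) = ρ g (ρ (c ^ (2 ^ k)) w) := by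
  set τ := ρ.subrepresentation W hW with hτ
  have h1 : finrank F (LinearMap.range (τ c - 1)) ≤ 2 :=
    (subrep_rank_le ρ W hW c).trans hrank
  have key := IH (Nat.card ↥S + finrank F W) (by omega) H W τ S c rfl hS hcS hc h1
  intro g hg w hw
  have h3 := key g hg
  have h4 := congrArg (fun T : W →ₗ[F] W => ((T ⟨w, hw⟩ : W) : U)) h3
  exact h4

theorem ff_core (hs : s.Prime) (hs2 : s ≠ 2) (hsF : (s : F) ≠ 0) (h2F : (2 : F) ≠ 0)
    (hk : k = 1 ∨ k = 2) (hexc : k = 1 → s ≠ 3)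
    (N : ℕ) (IH : ∀ m < N, FFStmt.{u, v, w} F s k m)
    (H : Type u) [Group H] [Finite H] (U : Type v) [AddCommGroup U] [Module F U]
    [FiniteDimensional F U] (ρ : Representation F H U) (S : Subgroup H) (c : H)
    (hn : Nat.card ↥S + finrank F U = N)
    (hS : IsPGroup s ↥S) (hcS : ∀ g ∈ S, c * g * c⁻¹ ∈ S) (hc : c ^ (2 ^ (k + 1)) = 1)
    (hrank : finrank F (LinearMap.range (ρ c - 1)) ≤ 2)
    (htop : S ⊔ Subgroup.zpowers c = ⊤) :
    ∀ g ∈ S, ρ (c ^ (2 ^ k)) * ρ g = ρ g * ρ (c ^ (2 ^ k)) := by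
  classical
  haveI : Fact s.Prime := ⟨hs⟩
  haveI : Fact (Nat.Prime 2) := ⟨Nat.prime_two⟩
  rcases Nat.eq_zero_or_pos (finrank F U) with hV0 | hVpos
  · haveI : Subsingleton U := Module.finrank_zero_iff.mp hV0
    intro g _
    apply LinearMap.ext
    intro v
    exact Subsingleton.elim _ _
  set σ : H := c ^ (2 ^ k) with hσdef
  by_cases hσ1 : σ = 1
  · intro g _
    rw [hσ1, map_one, one_mul, mul_one]
  set A : Subgroup H := Subgroup.zpowers c with hAdef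
  set X : Subgroup H := Subgroup.zpowers σ with hXdef
  have hcA : c ∈ A := Subgroup.mem_zpowers c
  have hσA : σ ∈ A := Subgroup.pow_mem A hcA _
  have hσX : σ ∈ X := Subgroup.mem_zpowers σ
  have hXA : X ≤ A := by
    rw [hXdef, Subgroup.zpowers_le]; exact hσA
  have hσσ : σ ^ 2 = 1 := by
    rw [hσdef, ← pow_mul, ← pow_succ]; exact hc
  have hX : Nat.card ↥X = 2 := by
    rw [hXdef, Nat.card_zpowers]
    exact orderOf_eq_prime hσσ hσ1
  have hAc : IsCyclic ↥A := by rw [hAdef]; infer_instance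
  have hA : IsPGroup 2 ↥A := by
    intro a
    obtain ⟨n, hn'⟩ := Subgroup.mem_zpowers_iff.mp a.2
    refine ⟨k + 1, ?_⟩
    apply Subtype.ext
    rw [Subgroup.coe_pow, ← hn', ← zpow_natCast, ← zpow_mul, mul_comm, zpow_mul, zpow_natCast, hc,
      one_zpow]
    rfl
  have hAQ : ∀ a ∈ A, ∀ g ∈ S, a * g * a⁻¹ ∈ S := zpowers_conj_mem S c hcS
  have hc8 : c ^ 8 = 1 := by
    rcases hk with h | h
    · rw [h] at hc
      have : c ^ 8 = (c ^ (2 ^ (1 + 1))) ^ 2 := by rw [← pow_mul]; norm_num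
      rw [this, hc, one_pow]
    · rw [h] at hc
      exact hc
  -- `σ` as a power of `c * c`
  have hσcc : σ = (c * c) ^ (2 ^ (k - 1)) := by
    rw [hσdef, ← pow_two, ← pow_mul, ← pow_succ']
    congr 2
    rcases hk with h | h <;> rw [h]
  haveI hQn : S.Normal := normal_of_sup_eq_top S S A htop
    (fun a ha g hg => S.mul_mem (S.mul_mem ha hg) (S.inv_mem ha)) hAQ
  have hXQ : ∀ x ∈ X, ∀ g ∈ S, x * g * x⁻¹ ∈ S := fun x hx g hg => hAQ x (hXA hx) g hg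
  have hAab : ∀ a ∈ A, ∀ b ∈ A, a * b = b * a := by
    intro a ha b hb
    haveI := hAc
    have := (IsCyclic.isMulCommutative (α := ↥A)).is_comm.comm ⟨a, ha⟩ ⟨b, hb⟩
    exact congrArg Subtype.val this
  have hT2 : ∀ g ∈ S,
      ρ σ * ρ (σ * g * σ⁻¹ * g⁻¹) = ρ (σ * g * σ⁻¹ * g⁻¹) * ρ σ → ρ σ * ρ g = ρ g * ρ σ :=
    fun g hg h => comm_of_comm_commutator ρ S X hs Nat.prime_two hs2 hS hX hXQ hg hσX h
  -- (A) reduce to `[X, S] = S`
  have hQ1le : ⁅X, S⁆ ≤ S := commutator_le_of_conj X S hXQ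
  by_cases hQ1 : ⁅X, S⁆ = S
  swap
  · have hlt : Nat.card ↥⁅X, S⁆ < Nat.card ↥S := by
      by_contra hcon
      exact hQ1 (Subgroup.eq_of_le_of_card_ge hQ1le (not_lt.mp hcon))
    have key := IH (Nat.card ↥⁅X, S⁆ + finrank F U) (by omega) H U ρ ⁅X, S⁆ c rfl
      (hS.to_le hQ1le) (conj_mem_commutator_of_abelian A X S hAab hXA hAQ c hcA) hc hrank
    intro g hg
    apply hT2 g hg
    have hcm : σ * g * σ⁻¹ * g⁻¹ ∈ ⁅X, S⁆ := by
      rw [← commutatorElement_def]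
      exact Subgroup.commutator_mem_commutator hσX hg
    exact key _ hcm
  -- (B) the kernel and the relative centre
  set N₀ : Subgroup H := kerIn ρ S with hN₀
  have hN₀Q : N₀ ≤ S := kerIn_le ρ S
  haveI hN₀n : N₀.Normal := kerIn_normal ρ S
  rcases eq_or_lt_of_le hN₀Q with heq | hlt
  · intro g hg
    have hg' : g ∈ N₀ := by rw [heq]; exact hg
    rw [hN₀, mem_kerIn] at hg'
    rw [hg'.2, mul_one, one_mul]
  have hnil : Group.IsNilpotent ↥S := hS.isNilpotent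
  set Z : Subgroup H := relCenter S N₀ with hZ
  haveI hZn : Z.Normal := relCenter_normal S N₀
  have hN₀Z : N₀ < Z := lt_relCenter hnil hlt
  have hZQ : Z ≤ S := relCenter_le S N₀
  have hZcomm : ∀ a ∈ Z, ∀ b ∈ Z, a * b * a⁻¹ * b⁻¹ ∈ N₀ := relCenter_comm S N₀
  obtain ⟨a, ha⟩ := hS.exists_card_eq
  have hcharQ : (Nat.card ↥S : F) ≠ 0 := by
    rw [ha]; push_cast; exact pow_ne_zero _ hsF
  have hcharZ : (Nat.card ↥Z : F) ≠ 0 := by
    intro h0
    apply hcharQ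
    obtain ⟨k', hk'⟩ := Subgroup.card_dvd_of_le hZQ
    rw [hk']; push_cast; rw [h0, zero_mul]
  letI : Fintype ↥Z := Fintype.ofFinite _
  letI : Fintype ((↥Z ⧸ N₀.subgroupOf Z) →* Fˣ) := Fintype.ofFinite _
  set P : ((↥Z ⧸ N₀.subgroupOf Z) →* Fˣ) → (U →ₗ[F] U) := fun χ => wproj ρ Z N₀ χ with hP
  have hrS : LinearMap.range (∑ χ, P χ) = ⊤ := by
    rw [range_sum_wproj ρ Z N₀ hN₀Z.le hZcomm hcharZ, hN₀, fixedBy_kerIn]
  have horth : ∀ χ χ' v, P χ (P χ' v) = if χ = χ' then P χ v else 0 :=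
    fun χ χ' v => wproj_orth ρ Z N₀ hcharZ χ χ' v
  have hsum : ∀ v, (∑ χ, P χ) v = v := by
    intro v
    letI := trivAct ((↥Z ⧸ N₀.subgroupOf Z) →* Fˣ)
    exact (permIdem_of_orth P horth).sum_of_mem (by rw [hrS]; trivial)
  -- CLAIM A
  have hccχ : ∀ χ, P χ ≠ 0 → (c * c) • χ = χ := fun χ hχ =>
    sq_smul_eq_of_rank ρ Z N₀ hcharZ c hc8 hrank χ hχ
  have hσχ : ∀ χ, P χ ≠ 0 → σ • χ = χ := by
    intro χ hχ
    have h1 : (c * c) ∈ MulAction.stabilizer H χ := MulAction.mem_stabilizer_iff.mpr (hccχ χ hχ)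
    have h2 : σ ∈ MulAction.stabilizer H χ := by
      rw [hσcc]; exact Subgroup.pow_mem _ h1 _
    exact MulAction.mem_stabilizer_iff.mp h2
  have hQχ : ∀ g ∈ S, ∀ χ : (↥Z ⧸ N₀.subgroupOf Z) →* Fˣ, g • χ = χ :=
    fun g hg χ => central_smul S N₀ hg χ
  have hΓA : ∀ (g : H) (χ : (↥Z ⧸ N₀.subgroupOf Z) →* Fˣ), ∃ a ∈ A, g • χ = a • χ := by
    intro g χ
    have hg : g ∈ ((S ⊔ A : Subgroup H) : Set H) := by rw [htop]; trivial
    rw [Subgroup.normal_mul] at hg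
    obtain ⟨u, hu, a, ha, rfl⟩ := hg
    refine ⟨a, ha, ?_⟩
    rw [mul_smul, hQχ u hu]
  -- (B1) a single orbit of weights
  by_cases hdich : ∃ χ₀, ∀ χ, P χ ≠ 0 → ∃ a ∈ A, χ = a • χ₀
  swap
  · push Not at hdich
    have hW : ∀ χ, ∀ g ∈ S, ∀ w ∈ LinearMap.range (P χ),
        ρ σ (ρ g w) = ρ g (ρ σ w) := by
      intro χ
      obtain ⟨W, hWinv, hle, hWtop⟩ := orbit_sub ρ Z N₀ A hΓA hcharZ χ
      have hne : W ≠ ⊤ := by
        intro h
        obtain ⟨χ', hχ', hno⟩ := hdich χ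
        obtain ⟨a, ha, hh⟩ := hWtop h χ' hχ'
        exact hno a ha hh
      have hltW : finrank F W < finrank F U := by
        by_contra hcon
        exact hne (Submodule.eq_top_of_finrank_eq
          (le_antisymm (Submodule.finrank_le _) (not_lt.mp hcon)))
      intro g hg w hw
      exact ff_sub N IH H U ρ S c hn hS hcS hc hrank W hWinv hltW g hg w (hle hw)
    intro g hg
    apply LinearMap.ext
    intro v
    show ρ σ (ρ g v) = ρ g (ρ σ v)
    conv_lhs => rw [← hsum v]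
    conv_rhs => rw [← hsum v]
    rw [LinearMap.sum_apply, map_sum, map_sum, map_sum, map_sum]
    apply Finset.sum_congr rfl
    intro χ _
    exact hW χ g hg _ (LinearMap.mem_range_self _ _)
  -- an occurring weight
  obtain ⟨χ₁, hχ₁⟩ : ∃ χ, P χ ≠ 0 := by
    by_contra hcon
    push Not at hcon
    have h0 : (∑ χ, P χ) = 0 := Finset.sum_eq_zero (fun χ _ => hcon χ)
    haveI : Nontrivial U := Module.finrank_pos_iff.mp hVpos
    obtain ⟨v, hv⟩ := exists_ne (0 : U)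
    apply hv
    rw [← hsum v, h0]
    rfl
  -- all occurring weights are `χ₁` or `c • χ₁`
  have hpair : ∀ χ, P χ ≠ 0 → χ = χ₁ ∨ χ = c • χ₁ := by
    intro χ hχ
    obtain ⟨χ₀, hχ₀⟩ := hdich
    obtain ⟨a, ha, hχa⟩ := hχ₀ χ hχ
    obtain ⟨a₁, ha₁, hχa₁⟩ := hχ₀ χ₁ hχ₁
    have h1 : χ = (a * a₁⁻¹) • χ₁ := by
      rw [hχa₁, ← mul_smul, inv_mul_cancel_right]
      exact hχa
    have h2 := zpowers_smul_pair c χ₁ (hccχ χ₁ hχ₁) (a * a₁⁻¹) (A.mul_mem ha (A.inv_mem ha₁))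
    rw [← h1] at h2
    exact h2
  -- (B2) the swapped case
  by_cases hmove : c • χ₁ = χ₁
  swap
  · intro g hg
    have h1 := comm_of_swap ρ Z N₀ hN₀Z.le hZcomm hcharZ (fixedBy_kerIn ρ S) c hrank χ₁ hmove
      (hccχ χ₁ hχ₁) hpair g (hQχ g hg)
    rw [hσcc, map_pow]
    exact ((Commute.pow_left (show Commute (ρ (c * c)) (ρ g) from h1) _)).eq
  have hone : ∀ χ, P χ ≠ 0 → χ = χ₁ := by
    intro χ hχ
    rcases hpair χ hχ with h | h
    · exact h
    · rw [h, hmove]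
  -- (C)
  by_cases hZQeq : Z = S
  · intro g hg
    exact comm_of_smul_eq ρ Z N₀ hN₀Z.le hZcomm hcharZ (fixedBy_kerIn ρ S) σ
      (fun χ hχ => hσχ χ hχ) g (by rw [hZQeq]; exact hg)
  have hZltQ : Z < S := lt_of_le_of_ne hZQ hZQeq
  have hprop : ∀ Q₀ : Subgroup H, Q₀.Normal → Q₀ ≤ S → Q₀ ≠ S → Q₀ ≤ Z := by
    intro Q₀ hQ₀n hQ₀Q hQ₀ne
    have hlt' : Nat.card ↥Q₀ < Nat.card ↥S := by
      by_contra hcon
      exact hQ₀ne (Subgroup.eq_of_le_of_card_ge hQ₀Q (not_lt.mp hcon))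
    have key := IH (Nat.card ↥Q₀ + finrank F U) (by omega) H U ρ Q₀ c rfl
      (hS.to_le hQ₀Q) (fun g hg => hQ₀n.conj_mem g hg c) hc hrank
    intro g₀ hg₀
    rw [hZ, mem_relCenter]
    refine ⟨hQ₀Q hg₀, ?_⟩
    have hcent : S ≤ (Subgroup.centralizer {rhoU ρ g₀}).comap (rhoU ρ) := by
      rw [← hQ1, Subgroup.commutator_le]
      intro x hx g hg
      rw [Subgroup.mem_comap, Subgroup.mem_centralizer_iff]
      intro y hy
      rw [Set.mem_singleton_iff] at hy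
      rw [hy, commutatorElement_def, map_mul, map_mul, map_mul, map_inv, map_inv]
      -- `x ∈ X = {1, σ}`
      have hxσ : ∀ g' ∈ Q₀, ρ x * ρ g' = ρ g' * ρ x := by
        intro g' hg'
        obtain ⟨n, hn'⟩ := Subgroup.mem_zpowers_iff.mp hx
        have h1 : Commute (ρ σ) (ρ g') := key g' hg'
        have h2 : Commute (rhoU ρ σ) (rhoU ρ g') := (rho_comm_iff ρ σ g').mp h1
        have h3 : Commute (rhoU ρ x) (rhoU ρ g') := by
          rw [← hn', map_zpow]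
          exact h2.zpow_left n
        exact (rho_comm_iff ρ x g').mpr h3
      apply three_sub
      · exact (rho_comm_iff ρ x g₀).mp (hxσ g₀ hg₀)
      · have hh : g⁻¹ * g₀ * g ∈ Q₀ := by
          have := hQ₀n.conj_mem g₀ hg₀ g⁻¹
          rwa [inv_inv] at this
        have := (rho_comm_iff ρ x (g⁻¹ * g₀ * g)).mp (hxσ _ hh)
        rw [map_mul, map_mul, map_inv] at this
        exact this
    intro u hu
    rw [hN₀, mem_kerIn]
    refine ⟨S.mul_mem (S.mul_mem (S.mul_mem (hQ₀Q hg₀) hu) (S.inv_mem (hQ₀Q hg₀)))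
      (S.inv_mem hu), ?_⟩
    rw [← rho_comm_iff_commutator, rho_comm_iff]
    have := hcent hu
    rw [Subgroup.mem_comap, Subgroup.mem_centralizer_iff] at this
    exact this _ rfl
  have hQZcomm : ∀ a ∈ S, ∀ b ∈ S, a * b * a⁻¹ * b⁻¹ ∈ Z := by
    have hRC : relCenter S Z = S := by
      by_contra hne
      have hle := hprop (relCenter S Z) inferInstance (relCenter_le S Z) hne
      have hlt2 : Z < relCenter S Z := lt_relCenter hnil hZltQ
      exact absurd (lt_of_lt_of_le hlt2 hle) (lt_irrefl _)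
    intro a ha b hb
    have : a ∈ relCenter S Z := by rw [hRC]; exact ha
    exact (mem_relCenter.mp this).2 b hb
  have hXp : (Nat.card ↥X).Prime := by rw [hX]; exact Nat.prime_two
  let Pg : Subgroup H :=
    { carrier := {g | g ∈ S ∧ ∀ x ∈ X, x * g * x⁻¹ * g⁻¹ ∈ Z}
      one_mem' := ⟨S.one_mem, fun x _ => by
        have e : x * 1 * x⁻¹ * (1 : H)⁻¹ = 1 := by group
        rw [e]; exact Z.one_mem⟩
      mul_mem' := by
        rintro a b ⟨haQ, ha⟩ ⟨hbQ, hb⟩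
        refine ⟨S.mul_mem haQ hbQ, fun x hx => ?_⟩
        have e : x * (a * b) * x⁻¹ * (a * b)⁻¹ =
            (x * a * x⁻¹ * a⁻¹) * (a * (x * b * x⁻¹ * b⁻¹) * a⁻¹) := by group
        rw [e]
        exact Z.mul_mem (ha x hx) (hZn.conj_mem _ (hb x hx) a)
      inv_mem' := by
        rintro a ⟨haQ, ha⟩
        refine ⟨S.inv_mem haQ, fun x hx => ?_⟩
        have e : x * a⁻¹ * x⁻¹ * a⁻¹⁻¹ = a⁻¹ * (x * a * x⁻¹ * a⁻¹)⁻¹ * a⁻¹⁻¹ := by group
        rw [e]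
        exact hZn.conj_mem _ (Z.inv_mem (ha x hx)) a⁻¹ }
  have hPgmem : ∀ g, g ∈ Pg ↔ g ∈ S ∧ ∀ x ∈ X, x * g * x⁻¹ * g⁻¹ ∈ Z := fun g => Iff.rfl
  haveI hPgn : Pg.Normal := by
    apply normal_of_sup_eq_top Pg S A htop
    · intro a ha g hg
      rw [hPgmem] at hg ⊢
      refine ⟨S.mul_mem (S.mul_mem ha hg.1) (S.inv_mem ha), fun x hx => ?_⟩
      have e : x * (a * g * a⁻¹) * x⁻¹ * (a * g * a⁻¹)⁻¹ =
          (x * (a * g * a⁻¹ * g⁻¹) * x⁻¹) * (x * g * x⁻¹ * g⁻¹) * (a * g * a⁻¹ * g⁻¹)⁻¹ := by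
        group
      rw [e]
      have hz := hQZcomm a ha g hg.1
      exact Z.mul_mem (Z.mul_mem (hZn.conj_mem _ hz x) (hg.2 x hx)) (Z.inv_mem hz)
    · intro y hy g hg
      rw [hPgmem] at hg ⊢
      refine ⟨hAQ y hy g hg.1, fun x hx => ?_⟩
      have hxy : x * y = y * x := hAab x (hXA hx) y hy
      have e : x * (y * g * y⁻¹) * x⁻¹ * (y * g * y⁻¹)⁻¹ =
          y * (x * g * x⁻¹ * g⁻¹) * y⁻¹ := by
        have e1 : x * (y * g * y⁻¹) * x⁻¹ = y * (x * g * x⁻¹) * y⁻¹ := by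
          have hxy' : x⁻¹ * y⁻¹ = y⁻¹ * x⁻¹ := by
            rw [← mul_inv_rev, ← mul_inv_rev, hxy]
          calc x * (y * g * y⁻¹) * x⁻¹ = (x * y) * g * (y⁻¹ * x⁻¹) := by group
            _ = (y * x) * g * (x⁻¹ * y⁻¹) := by rw [hxy, hxy']
            _ = y * (x * g * x⁻¹) * y⁻¹ := by group
        rw [e1]; group
      rw [e]
      exact hZn.conj_mem _ (hg.2 x hx) y
  have hPgQ : Pg ≤ S := fun g hg => hg.1
  by_cases hPgeq : Pg = S
  · exfalso
    have hle : S ≤ Z := by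
      rw [← hQ1, Subgroup.commutator_le]
      intro x hx g hg
      have hgP : g ∈ Pg := by rw [hPgeq]; exact hg
      have := hgP.2 x hx
      rw [commutatorElement_def]
      exact this
    exact absurd (lt_of_lt_of_le hZltQ hle) (lt_irrefl _)
  have hPgZ : Pg ≤ Z := hprop Pg hPgn hPgQ hPgeq
  exfalso
  have hfpfX : ∀ e ∈ X, e ≠ 1 → ∀ m ∈ S, e * m * e⁻¹ * m⁻¹ ∈ Z → m ∈ Z := by
    intro e he he1 m hm hem
    apply hPgZ
    refine ⟨hm, ?_⟩
    let S' : Subgroup H :=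
      { carrier := {x | x * m * x⁻¹ * m⁻¹ ∈ Z}
        one_mem' := by
          show (1 : H) * m * (1 : H)⁻¹ * m⁻¹ ∈ Z
          have e : (1 : H) * m * (1 : H)⁻¹ * m⁻¹ = 1 := by group
          rw [e]; exact Z.one_mem
        mul_mem' := by
          intro a b ha hb
          show a * b * m * (a * b)⁻¹ * m⁻¹ ∈ Z
          have e : a * b * m * (a * b)⁻¹ * m⁻¹ =
              a * (b * m * b⁻¹ * m⁻¹) * a⁻¹ * (a * m * a⁻¹ * m⁻¹) := by group
          rw [e]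
          exact Z.mul_mem (hZn.conj_mem _ hb a) ha
        inv_mem' := by
          intro a ha
          show a⁻¹ * m * a⁻¹⁻¹ * m⁻¹ ∈ Z
          have e : a⁻¹ * m * a⁻¹⁻¹ * m⁻¹ = a⁻¹ * (a * m * a⁻¹ * m⁻¹)⁻¹ * a⁻¹⁻¹ := by group
          rw [e]
          exact hZn.conj_mem _ (Z.inv_mem ha) a⁻¹ }
    haveI : Fact (Nat.card ↥X).Prime := ⟨hXp⟩
    intro x hx
    rcases (S'.subgroupOf X).eq_bot_or_eq_top_of_prime_card with h | h
    · exfalso
      have hmem : (⟨e, he⟩ : ↥X) ∈ S'.subgroupOf X := hem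
      rw [h, Subgroup.mem_bot] at hmem
      exact he1 (congrArg Subtype.val hmem)
    · have hmem : (⟨x, hx⟩ : ↥X) ∈ S'.subgroupOf X := by rw [h]; trivial
      exact hmem
  have hfpfA := fpf_of_fpf_X A X S Z Nat.prime_two hAc hA hXA hX hfpfX
  -- `Z` acts by scalars
  obtain ⟨lam, hlam⟩ := exists_scalar_of_single ρ Z N₀ hN₀Z.le hZcomm hcharZ (fixedBy_kerIn ρ S)
    χ₁ hone
  have hnd : ∀ g ∈ S, (∀ y ∈ S, ρ (y * g * y⁻¹ * g⁻¹) = 1) → g ∈ Z := by
    intro g hg hy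
    rw [hZ, mem_relCenter]
    refine ⟨hg, ?_⟩
    intro u hu
    rw [hN₀, mem_kerIn]
    refine ⟨S.mul_mem (S.mul_mem (S.mul_mem hg hu) (S.inv_mem hg)) (S.inv_mem hu), ?_⟩
    have e : g * u * g⁻¹ * u⁻¹ = (u * g * u⁻¹ * g⁻¹)⁻¹ := by group
    have h1 := hy u hu
    rw [e]
    calc ρ (u * g * u⁻¹ * g⁻¹)⁻¹ = ρ (u * g * u⁻¹ * g⁻¹)⁻¹ * ρ (u * g * u⁻¹ * g⁻¹) := by
          rw [h1, mul_one]
      _ = 1 := by rw [← map_mul, inv_mul_cancel, map_one]
  exact ff_tight ρ S Z c hs hs2 hsF h2F hS hk hc hσ1 hexc hrank hZltQ hQZcomm lam hlam hnd hfpfA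
    hVpos

end Core

end Cfsg.Agent.Helper23.L2
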