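import Mathlib
import Cfsg.Agent.Lib.SG2N.L2Defs
import Cfsg.Agent.Lib.SG2N.L2Core

/-!
# S3795 block B2 (designer helper23): the FEW-FIXED-POINTS Hall–Higman lemma `few_fix_comm`

Assembly: strong induction on `|S| + dim U`, reduction to `S ⊔ ⟨c⟩ = ⊤`, then `ff_core`.
-/

set_option autoImplicit false
set_option linter.unusedSectionVars false
set_option linter.style.haveILetI false

namespace Cfsg.Agent.Helper23.L2

open Module Cfsg.Agent.Helper8.FrobLin

universe u v w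

theorem ff_all {F : Type w} [Field F] [IsAlgClosed F] {s k : ℕ} (hs : s.Prime) (hs2 : s ≠ 2)
    (hsF : (s : F) ≠ 0) (h2F : (2 : F) ≠ 0) (hk : k = 1 ∨ k = 2) (hexc : k = 1 → s ≠ 3) :
    ∀ N, FFStmt.{u, v, w} F s k N := by
  intro N
  induction N using Nat.strong_induction_on with
  | _ N IH =>
    intro H _ _ U _ _ _ ρ S c hn hS hcS hc hrank
    set H₀ : Subgroup H := S ⊔ Subgroup.zpowers c with hH₀
    have hSH : S ≤ H₀ := le_sup_left
    have hAH : Subgroup.zpowers c ≤ H₀ := le_sup_right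
    have hcH : c ∈ H₀ := hAH (Subgroup.mem_zpowers c)
    set ρ' : Representation F ↥H₀ U := ρ.comp H₀.subtype with hρ'
    have hρ'a : ∀ h : ↥H₀, ρ' h = ρ (h : H) := fun h => rfl
    set c' : ↥H₀ := ⟨c, hcH⟩ with hc'
    have hzp : Subgroup.zpowers c' = (Subgroup.zpowers c).subgroupOf H₀ := by
      ext x
      rw [Subgroup.mem_subgroupOf, Subgroup.mem_zpowers_iff, Subgroup.mem_zpowers_iff]
      constructor
      · rintro ⟨n, rfl⟩
        exact ⟨n, by rw [Subgroup.coe_zpow]⟩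
      · rintro ⟨n, hn'⟩
        refine ⟨n, ?_⟩
        apply Subtype.ext
        rw [Subgroup.coe_zpow]
        exact hn'
    have htop : S.subgroupOf H₀ ⊔ Subgroup.zpowers c' = ⊤ := by
      rw [hzp, ← Subgroup.subgroupOf_sup hSH hAH, Subgroup.subgroupOf_self]
    have hcQ : Nat.card ↥(S.subgroupOf H₀) = Nat.card ↥S :=
      Nat.card_congr (Subgroup.subgroupOfEquivOfLe hSH).toEquiv
    have h1 : ∀ g ∈ S.subgroupOf H₀, c' * g * c'⁻¹ ∈ S.subgroupOf H₀ := by
      intro g hg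
      rw [Subgroup.mem_subgroupOf] at hg ⊢
      exact hcS _ hg
    have h2 : IsPGroup s ↥(S.subgroupOf H₀) := hS.comap_subtype
    have h3 : c' ^ (2 ^ (k + 1)) = 1 := by
      apply Subtype.ext
      rw [Subgroup.coe_pow]
      exact hc
    have key := ff_core hs hs2 hsF h2F hk hexc N IH ↥H₀ U ρ' (S.subgroupOf H₀) c'
      (by rw [hcQ]; exact hn) h2 h1 h3 hrank htop
    intro g hg
    exact key ⟨g, hSH hg⟩ hg

end Cfsg.Agent.Helper23.L2

namespace Cfsg.Agent.Helper8.SG2N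

open Module

universe u v w

/-- **FEW-FIXED-POINTS Hall–Higman lemma** (block B2 of S3795). -/
theorem few_fix_comm {F : Type w} [Field F] [IsAlgClosed F] {H : Type u} [Group H] [Finite H]
    {U : Type v} [AddCommGroup U] [Module F U] [FiniteDimensional F U]
    (rho : Representation F H U) {s : ℕ} (hs : s.Prime) (hs2 : s ≠ 2) (hsF : (s : F) ≠ 0)
    (h2F : (2 : F) ≠ 0) (S : Subgroup H) (hS : IsPGroup s ↥S) (c : H)
    (hcS : ∀ g ∈ S, c * g * c⁻¹ ∈ S) (k : ℕ) (hk : k = 1 ∨ k = 2)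
    (hc : c ^ (2 ^ (k + 1)) = 1)
    (hrank : finrank F (LinearMap.range (rho c - 1)) ≤ 2) (hexc : k = 1 → s ≠ 3) :
    ∀ g ∈ S, rho (c ^ (2 ^ k)) * rho g = rho g * rho (c ^ (2 ^ k)) :=
  Cfsg.Agent.Helper23.L2.ff_all hs hs2 hsF h2F hk hexc _ H U rho S c rfl hS hcS hc hrank

end Cfsg.Agent.Helper8.SG2N
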