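import Mathlib
import Cfsg.Agent.Lib.SG2N.NSDefs
import Cfsg.Agent.Lib.SG2N.NSL1Glob
import Cfsg.Agent.Lib.SG2N.L2Main
import Cfsg.Agent.Lib.Helper8.SecRep11

/-! S3795 NO-STACKING block B5 (designer helper8): LEVEL TWO applied to the section `Q / Rad χ`
(uses `few_fix_comm` of block B2 and helper8's `secLin`). -/

set_option autoImplicit false
set_option linter.unusedSectionVars false
set_option linter.style.haveILetI false

namespace Cfsg.Agent.Helper8.SG2N

open Module Cfsg.Agent.Helper8.FrobLin Cfsg.Agent.Helper8.HHLin Cfsg.Agent.Helper23.SGF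
  Cfsg.Agent.Helper8.SecRep TensorProduct

universe u v w

attribute [local instance] dualAct

variable {F : Type w} [Field F] [IsAlgClosed F] {Γ : Type u} [Group Γ] [Finite Γ]
  {V : Type v} [AddCommGroup V] [Module F V] [FiniteDimensional F V]
  {ρ : Representation F Γ V} {Q S A : Subgroup Γ} [Q.Normal] {σ : Γ} {q s : ℕ}

/-- PIECE NSL2-SEC: `Q / Rad χ` is an elementary abelian `q`-section. (`le`: `InRad` contains `g ∈ Q`;
`normal`: `sgf_krad_conj` with `sgf_krad_smul`; `comm`: `C.hQZ` + `kz_le_rad`; `pow`: `C.hQq` +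
`kz_le_rad`.) -/
theorem isSec_rad (C : NSConf ρ Q S A σ q s) (χ : KW ρ Q) : IsSec Q (Rad ρ Q χ) q := by
  refine ⟨fun g hg => (mem_Rad.mp hg).1, ?_, ?_, ?_⟩
  · intro x hx n hn
    exact mem_Rad.mpr (sgf_krad_conj χ x (sgf_krad_smul χ hx) n (mem_Rad.mp hn))
  · intro x hx y hy
    exact kz_le_rad ρ Q χ (C.hQZ x hx y hy)
  · intro x hx
    exact kz_le_rad ρ Q χ (C.hQq x hx)

/-- PIECE NSL2-NN: the stabiliser of `χ` normalises `Q` and `Rad χ` (`sgf_krad_conj` for `a` and `a⁻¹`;
`Subgroup.mem_normalizer_iff`). -/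
theorem stab_le_nn (ρ : Representation F Γ V) (Q : Subgroup Γ) [Q.Normal] (χ : KW ρ Q) :
    MulAction.stabilizer Γ χ ≤ nn Q (Rad ρ Q χ) := by
  have hQn : Q.Normal := inferInstance
  intro a ha
  have haχ : a • χ = χ := MulAction.mem_stabilizer_iff.mp ha
  have hai : a⁻¹ • χ = χ := inv_smul_eq_iff.mpr haχ.symm
  rw [mem_nn]
  constructor
  · rw [Subgroup.mem_normalizer_iff]
    intro x
    constructor
    · intro hx
      exact hQn.conj_mem x hx a
    · intro hx
      have := hQn.conj_mem _ hx a⁻¹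
      have e : a⁻¹ * (a * x * a⁻¹) * a⁻¹⁻¹ = x := by group
      rwa [e] at this
  · rw [Subgroup.mem_normalizer_iff]
    intro x
    constructor
    · intro hx
      exact mem_Rad.mpr (sgf_krad_conj χ a haχ x (mem_Rad.mp hx))
    · intro hx
      have := sgf_krad_conj χ a⁻¹ hai _ (mem_Rad.mp hx)
      have e : a⁻¹ * (a * x * a⁻¹) * a⁻¹⁻¹ = x := by group
      rw [e] at this
      exact mem_Rad.mpr this

/-- **LEVEL TWO on the section `Q / Rad χ`.** -/
theorem level2 (C : NSConf ρ Q S A σ q s) (χ : KW ρ Q) (hχ : KP ρ Q χ ≠ 0)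
    (h1 : L1Out ρ Q A σ q χ) :
    ∀ g ∈ S, ∀ x ∈ Q, InRad ρ Q χ
      ((g * σ * g⁻¹ * σ⁻¹) * x * (g * σ * g⁻¹ * σ⁻¹)⁻¹ * x⁻¹) := by
  classical
  haveI : Fact q.Prime := ⟨C.hq⟩
  have hsec := isSec_rad C χ
  set T : Subgroup Γ := MulAction.stabilizer Γ χ with hT
  have hTnn : T ≤ nn Q (Rad ρ Q χ) := stab_le_nn ρ Q χ
  have hσT : σ ∈ T := MulAction.mem_stabilizer_iff.mpr (sigma_smul C χ hχ)
  have hST : S ≤ T := fun g hg => MulAction.mem_stabilizer_iff.mpr (s_smul C χ hχ g hg)
  set τ : Representation (LK q) ↥T (LK q ⊗[ZMod q] SecW hsec) := secLin hsec T hTnn with hτ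
  set σ' : ↥T := ⟨σ, hσT⟩ with hσ'
  -- the key commutation
  have key : ∀ g : ↥T, (g : Γ) ∈ S → τ σ' * τ g = τ g * τ σ' := by
    rcases h1 with h | ⟨k, c, C₁, hk, hk3, hcA, hcσ, hcχ, hC₁Q, hRC₁, hcard, hcomm⟩
    · -- `σ` acts trivially on the section
      have h2 : τ σ' = 1 := by
        rw [hτ, secLin_eq_one_iff]
        intro a ha
        exact mem_Rad.mpr (h a ha)
      intro g _
      rw [h2, one_mul, mul_one]
    · have hcT : c ∈ T := MulAction.mem_stabilizer_iff.mpr hcχ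
      set c' : ↥T := ⟨c, hcT⟩ with hc'
      have hcpow : c' ^ (2 ^ k) = σ' := by
        apply Subtype.ext
        have : ((c' ^ (2 ^ k) : ↥T) : Γ) = c ^ (2 ^ k) := by push_cast; rfl
        rw [this, hcσ]
      have hsq : (s : LK q) ≠ 0 := by
        intro h0
        have h3 := (CharP.cast_eq_zero_iff (LK q) q s).mp h0
        exact C.hqs ((Nat.prime_dvd_prime_iff_eq C.hq C.hs).mp h3)
      have h2q : (2 : LK q) ≠ 0 := by
        intro h0
        have h3 : ((2 : ℕ) : LK q) = 0 := by exact_mod_cast h0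
        have h4 := (CharP.cast_eq_zero_iff (LK q) q 2).mp h3
        exact C.hq2 ((Nat.prime_dvd_prime_iff_eq C.hq Nat.prime_two).mp h4)
      have hS' : IsPGroup s ↥(S.subgroupOf T) := by
        intro g
        obtain ⟨n, hn⟩ := C.hS ⟨((g : ↥T) : Γ), Subgroup.mem_subgroupOf.mp g.2⟩
        refine ⟨n, ?_⟩
        apply Subtype.ext
        apply Subtype.ext
        have := congrArg Subtype.val hn
        simpa using this
      have hcS' : ∀ g ∈ S.subgroupOf T, c' * g * c'⁻¹ ∈ S.subgroupOf T := by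
        intro g hg
        rw [Subgroup.mem_subgroupOf] at hg ⊢
        exact C.hAS c hcA _ hg
      have hc1 : c' ^ (2 ^ (k + 1)) = 1 := by
        rw [pow_succ, pow_mul, hcpow]
        apply Subtype.ext
        show σ ^ 2 = 1
        rw [sq]; exact C.hσ2
      have hrank : finrank (LK q) (LinearMap.range (τ c' - 1)) ≤ 2 := by
        refine finrank_range_secLin_sub_one_le hsec T hTnn c' C₁ hC₁Q hcard ?_
        intro g hg
        exact mem_Rad.mpr (hcomm g hg)
      have hexc : k = 1 → s ≠ 3 := by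
        intro hk1 hs3
        exact C.hqs ((hk3 hk1).trans hs3.symm)
      have hff := few_fix_comm τ C.hs C.hs2 hsq h2q (S.subgroupOf T) hS' c' hcS' k hk hc1 hrank hexc
      intro g hg
      have := hff g (Subgroup.mem_subgroupOf.mpr hg)
      rw [hcpow] at this
      exact this
  intro g hg x hx
  have hgT : g ∈ T := hST hg
  set g' : ↥T := ⟨g, hgT⟩ with hg'
  have h2 : τ (g' * σ' * g'⁻¹ * σ'⁻¹) = 1 := by
    have hk := key g' hg
    rw [map_mul, map_mul, map_mul, ← hk, mul_assoc (τ σ'), ← map_mul, mul_inv_cancel, map_one,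
      mul_one, ← map_mul, mul_inv_cancel, map_one]
  rw [hτ, secLin_eq_one_iff] at h2
  exact mem_Rad.mp (h2 x hx)

end Cfsg.Agent.Helper8.SG2N
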