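import Mathlib
import Cfsg.Agent.Lib.SG2N.NSL1Main
import Cfsg.Agent.Lib.SG2N.NSL2App

/-! S3795 NO-STACKING block (designer helper8): levels one and two combined = interface for block B4. -/

set_option autoImplicit false
set_option linter.unusedSectionVars false
set_option linter.style.haveILetI false

namespace Cfsg.Agent.Helper8.SG2N

open Module Cfsg.Agent.Helper8.FrobLin Cfsg.Agent.Helper8.HHLin Cfsg.Agent.Helper23.SGF

universe u v w

attribute [local instance] dualAct

variable {F : Type w} [Field F] [IsAlgClosed F] {Γ : Type u} [Group Γ] [Finite Γ]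
  {V : Type v} [AddCommGroup V] [Module F V] [FiniteDimensional F V]
  {ρ : Representation F Γ V} {Q S A : Subgroup Γ} [Q.Normal] {σ : Γ} {q s : ℕ}

/-- in the structured configuration, `[S, σ]` centralises `Q / Rad χ` for every occurring weight `χ` -/
theorem level12 (C : NSConf ρ Q S A σ q s) (χ : KW ρ Q) (hχ : KP ρ Q χ ≠ 0) :
    ∀ g ∈ S, ∀ x ∈ Q, InRad ρ Q χ
      ((g * σ * g⁻¹ * σ⁻¹) * x * (g * σ * g⁻¹ * σ⁻¹)⁻¹ * x⁻¹) :=
  level2 C χ hχ (level1 C χ hχ)

end Cfsg.Agent.Helper8.SG2N
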