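import Mathlib
import Cfsg.Agent.Lib.SG2N.NSDefs

/-!
# S3795 NO-STACKING, block B4 (reductions + assembly; designer helper27): definitions

`cOn ρ X Y` = the elements of `X` centralising `Y` on `V`;  `sgen S σ` = the commutators `g σ g⁻¹ σ⁻¹`, `g ∈ S`;
`S2 ρ Q S σ = ⟨sgen S σ⟩ ⊔ cOn ρ S Q`;  `fgen Q q` = commutators and `q`-th powers of `Q`;
`Q1 ρ Q q = ⟨fgen Q q⟩ ⊔ (Q ∩ ker ρ)` (a Frattini-type subgroup).  See `plans/S3795_nostack_plan.md`, section B4.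
-/

set_option autoImplicit false
set_option linter.unusedSectionVars false

namespace Cfsg.Agent.Helper8.SG2N

open Module Cfsg.Agent.Helper8.FrobLin Cfsg.Agent.Helper8.HHLin

universe u v w

variable {F : Type w} [Field F] {Γ : Type u} [Group Γ] {V : Type v} [AddCommGroup V] [Module F V]

/-- the elements of `X` centralising `Y` on `V` -/
def cOn (ρ : Representation F Γ V) (X Y : Subgroup Γ) : Subgroup Γ where
  carrier := {x | x ∈ X ∧ ∀ u ∈ Y, ρ x * ρ u = ρ u * ρ x}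
  one_mem' := ⟨X.one_mem, fun u _ => by rw [map_one, one_mul, mul_one]⟩
  mul_mem' := by
    rintro a b ⟨ha, ha'⟩ ⟨hb, hb'⟩
    refine ⟨X.mul_mem ha hb, fun u hu => ?_⟩
    rw [map_mul, mul_assoc, hb' u hu, ← mul_assoc, ha' u hu, mul_assoc]
  inv_mem' := by
    rintro a ⟨ha, ha'⟩
    refine ⟨X.inv_mem ha, fun u hu => ?_⟩
    have h1 : ρ a⁻¹ * ρ a = 1 := by rw [← map_mul, inv_mul_cancel, map_one]
    have h2 : ρ a * ρ a⁻¹ = 1 := by rw [← map_mul, mul_inv_cancel, map_one]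
    calc ρ a⁻¹ * ρ u = ρ a⁻¹ * ρ u * (ρ a * ρ a⁻¹) := by rw [h2, mul_one]
      _ = ρ a⁻¹ * (ρ u * ρ a) * ρ a⁻¹ := by simp only [mul_assoc]
      _ = ρ a⁻¹ * (ρ a * ρ u) * ρ a⁻¹ := by rw [ha' u hu]
      _ = (ρ a⁻¹ * ρ a) * ρ u * ρ a⁻¹ := by simp only [mul_assoc]
      _ = ρ u * ρ a⁻¹ := by rw [h1, one_mul]

theorem mem_cOn {ρ : Representation F Γ V} {X Y : Subgroup Γ} {x : Γ} :
    x ∈ cOn ρ X Y ↔ x ∈ X ∧ ∀ u ∈ Y, ρ x * ρ u = ρ u * ρ x := Iff.rfl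

theorem cOn_le (ρ : Representation F Γ V) (X Y : Subgroup Γ) : cOn ρ X Y ≤ X := fun _ h => h.1

/-- the commutators `g σ g⁻¹ σ⁻¹`, `g ∈ S` -/
def sgen (S : Subgroup Γ) (σ : Γ) : Set Γ := {x | ∃ g ∈ S, x = g * σ * g⁻¹ * σ⁻¹}

/-- `⟨[g,σ] : g ∈ S⟩ ⊔ C_S(Q on V)` -/
def S2 (ρ : Representation F Γ V) (Q S : Subgroup Γ) (σ : Γ) : Subgroup Γ :=
  Subgroup.closure (sgen S σ) ⊔ cOn ρ S Q

/-- commutators and `q`-th powers of `Q` -/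
def fgen (Q : Subgroup Γ) (q : ℕ) : Set Γ :=
  {x | (∃ a ∈ Q, ∃ b ∈ Q, x = a * b * a⁻¹ * b⁻¹) ∨ ∃ a ∈ Q, x = a ^ q}

/-- the Frattini-type subgroup `⟨[Q,Q], Q^q⟩ (Q ∩ ker ρ)` -/
def Q1 (ρ : Representation F Γ V) (Q : Subgroup Γ) (q : ℕ) : Subgroup Γ :=
  Subgroup.closure (fgen Q q) ⊔ kerIn ρ Q

end Cfsg.Agent.Helper8.SG2N
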