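import Mathlib
import Cfsg.Agent.Lib.SG2N.NSRDefs

/-! S3795 NO-STACKING block B4 (designer helper27), piece NSR-CON: basic facts on `cOn`.  Proved by helper27. -/

set_option autoImplicit false
set_option linter.unusedSectionVars false
set_option linter.style.haveILetI false

namespace Cfsg.Agent.Helper8.SG2N

open Module Cfsg.Agent.Helper8.FrobLin Cfsg.Agent.Helper8.HHLin Cfsg.Agent.Helper23.SGF

universe u v w

variable {F : Type w} [Field F] {Γ : Type u} [Group Γ] {V : Type v} [AddCommGroup V] [Module F V]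

theorem cOn_anti (ρ : Representation F Γ V) (X : Subgroup Γ) {Y Y' : Subgroup Γ} (h : Y' ≤ Y) :
    cOn ρ X Y ≤ cOn ρ X Y' := by
  intro x hx
  exact ⟨hx.1, fun u hu => hx.2 u (h hu)⟩

/-- `cOn ρ X Y` is normalised by every element normalising `X` and `Y` -/
theorem cOn_conj_mem (ρ : Representation F Γ V) (X Y : Subgroup Γ) (a : Γ)
    (hX : ∀ x ∈ X, a * x * a⁻¹ ∈ X) (hY : ∀ y ∈ Y, a⁻¹ * y * a ∈ Y) :
    ∀ x ∈ cOn ρ X Y, a * x * a⁻¹ ∈ cOn ρ X Y := by
  intro x hx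
  refine ⟨hX x hx.1, fun u hu => ?_⟩
  obtain ⟨y, hy⟩ : ∃ y, y = a⁻¹ * u * a := ⟨_, rfl⟩
  have h1 : ρ x * ρ y = ρ y * ρ x := by rw [hy]; exact hx.2 _ (hY u hu)
  have e1 : u = a * y * a⁻¹ := by rw [hy]; group
  have e2 : a * x * a⁻¹ * (a * y * a⁻¹) = a * (x * y) * a⁻¹ := by group
  have e3 : a * y * a⁻¹ * (a * x * a⁻¹) = a * (y * x) * a⁻¹ := by group
  rw [e1, ← map_mul, ← map_mul, e2, e3, map_mul, map_mul, map_mul ρ x y, h1, map_mul, map_mul,
    map_mul ρ y x]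

end Cfsg.Agent.Helper8.SG2N
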