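import Mathlib
import Cfsg.Agent.Lib.SG2N.NSRDefs
import Cfsg.Agent.Lib.SG2N.NSRCON

/-! S3795 NO-STACKING block B4 (designer helper27), piece NSR-S2: basic facts on `S2 ρ Q S σ`.  Proved by helper27. -/

set_option autoImplicit false
set_option linter.unusedSectionVars false
set_option linter.style.haveILetI false

namespace Cfsg.Agent.Helper8.SG2N

open Module Cfsg.Agent.Helper8.FrobLin Cfsg.Agent.Helper8.HHLin Cfsg.Agent.Helper23.SGF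

universe u v w

variable {F : Type w} [Field F] {Γ : Type u} [Group Γ] {V : Type v} [AddCommGroup V] [Module F V]

theorem S2_le (ρ : Representation F Γ V) (Q S : Subgroup Γ) (σ : Γ)
    (hσS : ∀ g ∈ S, σ * g * σ⁻¹ ∈ S) : S2 ρ Q S σ ≤ S := by
  unfold S2
  refine sup_le ?_ (cOn_le ρ S Q)
  rw [Subgroup.closure_le]
  rintro x ⟨g, hg, rfl⟩
  have h1 := hσS g⁻¹ (S.inv_mem hg)
  have e : g * σ * g⁻¹ * σ⁻¹ = g * (σ * g⁻¹ * σ⁻¹) := by group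
  rw [SetLike.mem_coe, e]
  exact S.mul_mem hg h1

theorem sgen_mem_S2 (ρ : Representation F Γ V) (Q S : Subgroup Γ) (σ : Γ) :
    ∀ g ∈ S, g * σ * g⁻¹ * σ⁻¹ ∈ S2 ρ Q S σ := by
  intro g hg
  exact (le_sup_left : Subgroup.closure (sgen S σ) ≤ S2 ρ Q S σ)
    (Subgroup.subset_closure ⟨g, hg, rfl⟩)

theorem cOn_le_S2 (ρ : Representation F Γ V) (Q S : Subgroup Γ) (σ : Γ) :
    cOn ρ S Q ≤ S2 ρ Q S σ := le_sup_right

/-- `S2` lies in every subgroup containing the generators `[g,σ]` and `cOn ρ S Q` -/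
theorem S2_le_of (ρ : Representation F Γ V) (Q S : Subgroup Γ) (σ : Γ) (T : Subgroup Γ)
    (h1 : ∀ g ∈ S, g * σ * g⁻¹ * σ⁻¹ ∈ T) (h2 : cOn ρ S Q ≤ T) : S2 ρ Q S σ ≤ T := by
  unfold S2
  refine sup_le ?_ h2
  rw [Subgroup.closure_le]
  rintro x ⟨g, hg, rfl⟩
  exact h1 g hg

/-- `S2` is `A`-invariant (`A` commutes with `σ` and normalises `S` and `Q`) -/
theorem S2_conj_mem (ρ : Representation F Γ V) (Q S A : Subgroup Γ) (σ : Γ)
    (hAσ : ∀ a ∈ A, a * σ = σ * a) (hAS : ∀ a ∈ A, ∀ g ∈ S, a * g * a⁻¹ ∈ S)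
    (hAQ : ∀ a ∈ A, ∀ x ∈ Q, a * x * a⁻¹ ∈ Q) :
    ∀ a ∈ A, ∀ y ∈ S2 ρ Q S σ, a * y * a⁻¹ ∈ S2 ρ Q S σ := by
  intro a ha
  have key : S2 ρ Q S σ ≤ (S2 ρ Q S σ).comap (MulAut.conj a).toMonoidHom := by
    apply S2_le_of
    · intro g hg
      rw [Subgroup.mem_comap]
      show a * (g * σ * g⁻¹ * σ⁻¹) * a⁻¹ ∈ S2 ρ Q S σ
      have h1 : a * σ * a⁻¹ = σ := by rw [hAσ a ha]; group
      have e : a * (g * σ * g⁻¹ * σ⁻¹) * a⁻¹ =
          (a * g * a⁻¹) * (a * σ * a⁻¹) * (a * g * a⁻¹)⁻¹ * (a * σ * a⁻¹)⁻¹ := by group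
      rw [e, h1]
      exact sgen_mem_S2 ρ Q S σ _ (hAS a ha g hg)
    · intro x hx
      rw [Subgroup.mem_comap]
      show a * x * a⁻¹ ∈ S2 ρ Q S σ
      apply cOn_le_S2 ρ Q S σ
      refine cOn_conj_mem ρ S Q a (hAS a ha) (fun y hy => ?_) x hx
      have := hAQ a⁻¹ (A.inv_mem ha) y hy
      rwa [inv_inv] at this
  intro y hy
  exact key hy

end Cfsg.Agent.Helper8.SG2N
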