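import Mathlib

/-! S3795 NO-STACKING block B4 (designer helper27), piece NSR-SIG: two pure group identities.  Proved by helper27.
See plans/S3795_nostack_plan.md (B4, R1). -/

set_option autoImplicit false

namespace Cfsg.Agent.Helper8.SG2N

/-- for an involution `σ`, the commutator of `x = [g,σ]` with `σ` is `x²` (`σ` inverts `x`) -/
theorem comm_comm_sigma {H : Type*} [Group H] (g σ : H) (hσ : σ * σ = 1) :
    (g * σ * g⁻¹ * σ⁻¹) * σ * (g * σ * g⁻¹ * σ⁻¹)⁻¹ * σ⁻¹ =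
      (g * σ * g⁻¹ * σ⁻¹) * (g * σ * g⁻¹ * σ⁻¹) := by
  have h1 : σ⁻¹ = σ := inv_eq_of_mul_eq_one_left hσ
  have h2 : (g * σ * g⁻¹ * σ⁻¹) * σ * (g * σ * g⁻¹ * σ⁻¹)⁻¹ * σ⁻¹ =
      g * σ * g⁻¹ * (σ * g * σ⁻¹ * g⁻¹ * σ⁻¹) := by group
  have h3 : (g * σ * g⁻¹ * σ⁻¹) * (g * σ * g⁻¹ * σ⁻¹) =
      g * σ * g⁻¹ * (σ⁻¹ * g * σ * g⁻¹ * σ⁻¹) := by group
  rw [h2, h3, h1]

/-- an element of odd order whose square lies in a subgroup lies in it -/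
theorem mem_of_sq_mem {H : Type*} [Group H] (T : Subgroup H) (x : H) (m : ℕ) (hm : Odd m)
    (hx : x ^ m = 1) (h2 : x * x ∈ T) : x ∈ T := by
  obtain ⟨k, hk⟩ := hm
  have h3 : (x * x) ^ (k + 1) ∈ T := T.pow_mem h2 _
  have h4 : (x * x) ^ (k + 1) = x := by
    rw [← pow_two, ← pow_mul]
    have : 2 * (k + 1) = m + 1 := by omega
    rw [this, pow_succ, hx, one_mul]
  rwa [h4] at h3

end Cfsg.Agent.Helper8.SG2N
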