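import Mathlib
import Cfsg.Agent.Lib.SG2N.NSRDefs
import Cfsg.Agent.Lib.SG2N.NSRSIG
import Cfsg.Agent.Lib.SG2N.NSRCON
import Cfsg.Agent.Lib.SG2N.NSRS2

/-! S3795 NO-STACKING block B4 (designer helper27), piece NSR-R1: reduction to `S2 ρ Q S σ = S`.  Proved by helper27.
See plans/S3795_nostack_plan.md (B4, R1). -/

set_option autoImplicit false
set_option linter.unusedSectionVars false
set_option linter.style.haveILetI false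

namespace Cfsg.Agent.Helper8.SG2N

open Module Cfsg.Agent.Helper8.FrobLin Cfsg.Agent.Helper8.HHLin Cfsg.Agent.Helper23.SGF

universe u v w

/-- (R1) if `S₂ := S2 ρ Q S σ ≠ S` then the conclusion holds.
PROOF.  `S₂ ≤ S` (`S2_le`, `σ ∈ A` normalises `S`), so `|S₂| < |S|`; apply `IH` to `(Q, S₂, A, σ)`
(`S₂` is `A`-invariant by `S2_conj_mem`; `A` is abelian as it is cyclic).  For `g ∈ S` put `x := g σ g⁻¹ σ⁻¹ ∈ S₂`
(`sgen_mem_S2`); the induction gives that `ρ (x σ x⁻¹ σ⁻¹)` commutes with `ρ u` (`u ∈ Q`), and `x σ x⁻¹ σ⁻¹ = x * x`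
(`comm_comm_sigma`), so `x * x ∈ cOn ρ S Q`; `x ∈ S` has odd order (`x ^ |S| = 1`, `|S|` a power of the odd prime `s`),
so `x ∈ cOn ρ S Q` (`mem_of_sq_mem`). -/
theorem step_R1 {F : Type w} [Field F] {q s N : ℕ} (hs : s.Prime) (hs2 : s ≠ 2)
    (IH : ∀ N' < N, NSStmt.{u, v, w} F q s N')
    (Γ : Type u) [Group Γ] [Finite Γ] (V : Type v) [AddCommGroup V] [Module F V]
    [FiniteDimensional F V] (ρ : Representation F Γ V) (Q S A : Subgroup Γ) (σ : Γ)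
    (hN : Nat.card ↥Q + Nat.card ↥S + finrank F V = N)
    (hQ : IsPGroup q ↥Q) (hS : IsPGroup s ↥S) (hAc : IsCyclic ↥A) (hA : IsPGroup 2 ↥A)
    (hSQ : ∀ g ∈ S, ∀ x ∈ Q, g * x * g⁻¹ ∈ Q) (hAQ : ∀ a ∈ A, ∀ x ∈ Q, a * x * a⁻¹ ∈ Q)
    (hAS : ∀ a ∈ A, ∀ g ∈ S, a * g * a⁻¹ ∈ S)
    (hfix : fixedBy ρ A = ⊥) (hfpf : ∀ x ∈ Q, (∀ a ∈ A, a * x = x * a) → x = 1)
    (hσA : σ ∈ A) (hσ2 : σ * σ = 1) (hne : S2 ρ Q S σ ≠ S) :
    ∀ g ∈ S, ∀ x ∈ Q, ρ (g * σ * g⁻¹ * σ⁻¹) * ρ x = ρ x * ρ (g * σ * g⁻¹ * σ⁻¹) := by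
  classical
  haveI : Fact s.Prime := ⟨hs⟩
  have hAab : ∀ a ∈ A, ∀ b ∈ A, a * b = b * a := by
    intro a ha b hb
    haveI := hAc
    have := (IsCyclic.isMulCommutative (α := ↥A)).is_comm.comm ⟨a, ha⟩ ⟨b, hb⟩
    exact congrArg Subtype.val this
  have hσS : ∀ g ∈ S, σ * g * σ⁻¹ ∈ S := hAS σ hσA
  have hle : S2 ρ Q S σ ≤ S := S2_le ρ Q S σ hσS
  have hlt : Nat.card ↥(S2 ρ Q S σ) < Nat.card ↥S := by
    by_contra hcon
    exact hne (Subgroup.eq_of_le_of_card_ge hle (not_lt.mp hcon))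
  have hinv := S2_conj_mem ρ Q S A σ (fun a ha => hAab a ha σ hσA) hAS hAQ
  have key := IH (Nat.card ↥Q + Nat.card ↥(S2 ρ Q S σ) + finrank F V) (by omega) Γ V ρ Q
    (S2 ρ Q S σ) A σ rfl hQ (hS.to_le hle) hAc hA (fun g hg x hx => hSQ g (hle hg) x hx) hAQ hinv
    hfix hfpf hσA hσ2
  obtain ⟨a, ha⟩ := hS.exists_card_eq
  have hodd : Odd (s ^ a) := Odd.pow (hs.odd_of_ne_two hs2)
  intro g hg
  obtain ⟨x, hx⟩ : ∃ x, x = g * σ * g⁻¹ * σ⁻¹ := ⟨_, rfl⟩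
  rw [← hx]
  have hxS2 : x ∈ S2 ρ Q S σ := by rw [hx]; exact sgen_mem_S2 ρ Q S σ g hg
  have hxS : x ∈ S := hle hxS2
  have hxpow : x ^ (s ^ a) = 1 := by
    have h1 : (⟨x, hxS⟩ : ↥S) ^ Nat.card ↥S = 1 := pow_card_eq_one'
    rw [ha] at h1
    have := congrArg Subtype.val h1
    simpa using this
  have hcc : x * σ * x⁻¹ * σ⁻¹ = x * x := by
    rw [hx]; exact comm_comm_sigma g σ hσ2
  have h2 : x * x ∈ cOn ρ S Q := by
    rw [mem_cOn]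
    refine ⟨S.mul_mem hxS hxS, fun u hu => ?_⟩
    have := key x hxS2 u hu
    rw [hcc] at this
    exact this
  have h3 := mem_of_sq_mem (cOn ρ S Q) x (s ^ a) hodd hxpow h2
  exact (mem_cOn.mp h3).2

end Cfsg.Agent.Helper8.SG2N
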