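import Mathlib
import Cfsg.Agent.Lib.SG2N.NSRDefs
import Cfsg.Agent.Lib.SG2N.NSRCON
import Cfsg.Agent.Lib.SG2N.NSRS2

/-! S3795 NO-STACKING block B4 (designer helper27), piece NSR-R2: proper invariant subgroups of `Q`.  Proved by helper26.
See plans/S3795_nostack_plan.md (B4, R2). -/

set_option autoImplicit false
set_option linter.unusedSectionVars false
set_option linter.style.haveILetI false

namespace Cfsg.Agent.Helper8.SG2N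

open Module Cfsg.Agent.Helper8.FrobLin Cfsg.Agent.Helper8.HHLin Cfsg.Agent.Helper23.SGF

universe u v w

/-- (R2) if `S2 ρ Q S σ = S` then `S` centralises on `V` every proper subgroup `Q'` of `Q` normalised by `S` and `A`.
PROOF.  `|Q'| < |Q|`; apply `IH` to `(Q', S, A, σ)`: every `g σ g⁻¹ σ⁻¹` (`g ∈ S`; it lies in `S` as `σ ∈ A` normalises `S`)
lies in `T' := cOn ρ S Q'`; also `cOn ρ S Q ≤ T'` (`cOn_anti`); hence `S = S2 ρ Q S σ ≤ T'` (`S2_le_of`). -/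
theorem step_R2 {F : Type w} [Field F] {q s N : ℕ}
    (IH : ∀ N' < N, NSStmt.{u, v, w} F q s N')
    (Γ : Type u) [Group Γ] [Finite Γ] (V : Type v) [AddCommGroup V] [Module F V]
    [FiniteDimensional F V] (ρ : Representation F Γ V) (Q S A : Subgroup Γ) (σ : Γ)
    (hN : Nat.card ↥Q + Nat.card ↥S + finrank F V = N)
    (hQ : IsPGroup q ↥Q) (hS : IsPGroup s ↥S) (hAc : IsCyclic ↥A) (hA : IsPGroup 2 ↥A)
    (hAS : ∀ a ∈ A, ∀ g ∈ S, a * g * a⁻¹ ∈ S)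
    (hfix : fixedBy ρ A = ⊥) (hfpf : ∀ x ∈ Q, (∀ a ∈ A, a * x = x * a) → x = 1)
    (hσA : σ ∈ A) (hσ2 : σ * σ = 1) (heq : S2 ρ Q S σ = S)
    (Q' : Subgroup Γ) (hle : Q' ≤ Q) (hne : Q' ≠ Q)
    (hSQ' : ∀ g ∈ S, ∀ x ∈ Q', g * x * g⁻¹ ∈ Q') (hAQ' : ∀ a ∈ A, ∀ x ∈ Q', a * x * a⁻¹ ∈ Q') :
    ∀ g ∈ S, ∀ x ∈ Q', ρ g * ρ x = ρ x * ρ g := by
  have hlt : Nat.card ↥Q' < Nat.card ↥Q := by
    by_contra hcon
    exact hne (Subgroup.eq_of_le_of_card_ge hle (Nat.le_of_not_lt hcon))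
  have hN' : Nat.card ↥Q' + Nat.card ↥S + finrank F V < N := by
    rw [← hN]; omega
  have hstmt := IH _ hN' Γ V ρ Q' S A σ rfl (hQ.to_le hle) hS hAc hA hSQ' hAQ' hAS hfix
    (fun x hx hc => hfpf x (hle hx) hc) hσA hσ2
  have hgen : ∀ g ∈ S, g * σ * g⁻¹ * σ⁻¹ ∈ cOn ρ S Q' := by
    intro g hg
    refine mem_cOn.2 ⟨?_, fun x hx => hstmt g hg x hx⟩
    have h1 : σ * g⁻¹ * σ⁻¹ ∈ S := hAS σ hσA g⁻¹ (S.inv_mem hg)
    have e : g * σ * g⁻¹ * σ⁻¹ = g * (σ * g⁻¹ * σ⁻¹) := by group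
    rw [e]
    exact S.mul_mem hg h1
  have hle2 : S2 ρ Q S σ ≤ cOn ρ S Q' :=
    S2_le_of ρ Q S σ _ hgen (cOn_anti ρ S hle)
  rw [heq] at hle2
  intro g hg x hx
  exact (mem_cOn.1 (hle2 hg)).2 x hx

end Cfsg.Agent.Helper8.SG2N
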