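import Mathlib
import Cfsg.Agent.Lib.SG2N.NSRDefs

/-! S3795 NO-STACKING block B4 (designer helper27), piece NSR-R3.  See plans/S3795_nostack_plan.md (B4, R3). -/

set_option autoImplicit false
set_option linter.unusedSectionVars false
set_option linter.style.haveILetI false

namespace Cfsg.Agent.Helper8.SG2N

open Module Cfsg.Agent.Helper8.FrobLin Cfsg.Agent.Helper8.HHLin Cfsg.Agent.Helper23.SGF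

universe u v w

/-- (R3) if `σ` centralises `Q` on `V` and `S` normalises `Q` then every `g σ g⁻¹ σ⁻¹` centralises `Q` on `V`.
PROOF.  `ρ (g σ g⁻¹ σ⁻¹) = ρ g * ρ σ * ρ g⁻¹ * ρ σ⁻¹`; `ρ σ⁻¹` commutes with `ρ x`; `ρ g⁻¹ * ρ x = ρ (g⁻¹ x g) * ρ g⁻¹` with
`g⁻¹ x g ∈ Q` (apply `hSQ` to `g⁻¹ ∈ S`), which commutes with `ρ σ`; `ρ g * ρ (g⁻¹ x g) = ρ x * ρ g`. -/
theorem step_R3 {F : Type w} [Field F] {Γ : Type u} [Group Γ] {V : Type v} [AddCommGroup V]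
    [Module F V] (ρ : Representation F Γ V) (Q S : Subgroup Γ) (σ : Γ)
    (hSQ : ∀ g ∈ S, ∀ x ∈ Q, g * x * g⁻¹ ∈ Q)
    (hσ : ∀ x ∈ Q, ρ σ * ρ x = ρ x * ρ σ) :
    ∀ g ∈ S, ∀ x ∈ Q, ρ (g * σ * g⁻¹ * σ⁻¹) * ρ x = ρ x * ρ (g * σ * g⁻¹ * σ⁻¹) := by
  intro g hg x hx
  have hy : g⁻¹ * x * g ∈ Q := by
    have := hSQ g⁻¹ (S.inv_mem hg) x hx
    rwa [inv_inv] at this
  have hDX : ρ σ⁻¹ * ρ x = ρ x * ρ σ⁻¹ := by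
    have h1 : ρ σ⁻¹ * (ρ σ * ρ x) * ρ σ⁻¹ = ρ σ⁻¹ * (ρ x * ρ σ) * ρ σ⁻¹ := by rw [hσ x hx]
    have e1 : ρ σ⁻¹ * ρ σ = 1 := by rw [← map_mul, inv_mul_cancel, map_one]
    have e2 : ρ σ * ρ σ⁻¹ = 1 := by rw [← map_mul, mul_inv_cancel, map_one]
    calc ρ σ⁻¹ * ρ x = ρ σ⁻¹ * (ρ x * ρ σ) * ρ σ⁻¹ := by
          rw [mul_assoc, mul_assoc, e2, mul_one]
      _ = ρ σ⁻¹ * (ρ σ * ρ x) * ρ σ⁻¹ := h1.symm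
      _ = ρ x * ρ σ⁻¹ := by rw [← mul_assoc, e1, one_mul]
  have hCX : ρ g⁻¹ * ρ x = ρ (g⁻¹ * x * g) * ρ g⁻¹ := by
    rw [← map_mul, ← map_mul]
    congr 1
    group
  have hBY : ρ σ * ρ (g⁻¹ * x * g) = ρ (g⁻¹ * x * g) * ρ σ := hσ _ hy
  have hAY : ρ g * ρ (g⁻¹ * x * g) = ρ x * ρ g := by
    rw [← map_mul, ← map_mul]
    congr 1
    group
  rw [map_mul, map_mul, map_mul]
  calc ρ g * ρ σ * ρ g⁻¹ * ρ σ⁻¹ * ρ x = ρ g * ρ σ * ρ g⁻¹ * (ρ σ⁻¹ * ρ x) := by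
        simp only [mul_assoc]
    _ = ρ g * ρ σ * ρ g⁻¹ * (ρ x * ρ σ⁻¹) := by rw [hDX]
    _ = ρ g * ρ σ * (ρ g⁻¹ * ρ x) * ρ σ⁻¹ := by simp only [mul_assoc]
    _ = ρ g * ρ σ * (ρ (g⁻¹ * x * g) * ρ g⁻¹) * ρ σ⁻¹ := by rw [hCX]
    _ = ρ g * (ρ σ * ρ (g⁻¹ * x * g)) * ρ g⁻¹ * ρ σ⁻¹ := by simp only [mul_assoc]
    _ = ρ g * (ρ (g⁻¹ * x * g) * ρ σ) * ρ g⁻¹ * ρ σ⁻¹ := by rw [hBY]
    _ = (ρ g * ρ (g⁻¹ * x * g)) * ρ σ * ρ g⁻¹ * ρ σ⁻¹ := by simp only [mul_assoc]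
    _ = (ρ x * ρ g) * ρ σ * ρ g⁻¹ * ρ σ⁻¹ := by rw [hAY]
    _ = ρ x * (ρ g * ρ σ * ρ g⁻¹ * ρ σ⁻¹) := by simp only [mul_assoc]

end Cfsg.Agent.Helper8.SG2N
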