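import Mathlib
import Cfsg.Agent.Lib.SG2N.NSRDefs
import Cfsg.Agent.Lib.SG3.SGFKXFIX
import Cfsg.Agent.Lib.SG3.SGFKCC

/-! S3795 NO-STACKING block B4 (designer helper27), piece NSR-R4.  STUB.  See plans/S3795_nostack_plan.md (B4, R4). -/

set_option autoImplicit false
set_option linter.unusedSectionVars false
set_option linter.style.haveILetI false

namespace Cfsg.Agent.Helper8.SG2N

open Module Cfsg.Agent.Helper8.FrobLin Cfsg.Agent.Helper8.HHLin Cfsg.Agent.Helper23.SGF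

universe u v w

attribute [local instance] dualAct

/-- (R4) the involution `σ ∈ A` centralises `KZ ρ Q` on `V`.
PROOF (as in `key_core`, Lib/SG3/SGFKCore.lean, steps (B), (C)): `X := Subgroup.zpowers σ` has `Nat.card = 2` (`σ ≠ 1`, `σ * σ = 1`) and `X ≤ A`;
`Z := KZ ρ Q`, `N₀ := KN ρ Q = kerIn ρ Q`, `(Nat.card Z : F) ≠ 0` (divides `|Q| = q ^ a`); every weight `χ` with `wproj ρ Z N₀ χ ≠ 0` is fixed by `σ`
(`smul_eq_of_wproj_ne_zero ρ Z N₀ A X Nat.prime_two hAc hA hXA hX hfix hcharZ h2F χ hχ`), so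
`comm_of_smul_eq ρ Z N₀ (le_relCenter (kerIn_le ρ Q)) (relCenter_comm Q N₀) hcharZ (fixedBy_kerIn ρ Q) σ ...` applies. -/
theorem sigma_comm_KZ {F : Type w} [Field F] [IsAlgClosed F] {Γ : Type u} [Group Γ] [Finite Γ]
    {V : Type v} [AddCommGroup V] [Module F V] [FiniteDimensional F V]
    (ρ : Representation F Γ V) (Q A : Subgroup Γ) [Q.Normal] (σ : Γ) {q : ℕ} (hq : q.Prime)
    (hqF : (q : F) ≠ 0) (h2F : (2 : F) ≠ 0) (hQ : IsPGroup q ↥Q) (hAc : IsCyclic ↥A)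
    (hA : IsPGroup 2 ↥A) (hfix : fixedBy ρ A = ⊥) (hσA : σ ∈ A) (hσ2 : σ * σ = 1) (hσ1 : σ ≠ 1) :
    ∀ z ∈ KZ ρ Q, ρ σ * ρ z = ρ z * ρ σ := by
  classical
  -- `X = ⟨σ⟩` of order 2
  set X : Subgroup Γ := Subgroup.zpowers σ with hXdef
  have hXA : X ≤ A := by
    rw [hXdef, Subgroup.zpowers_le]; exact hσA
  have hord : orderOf σ = 2 := by
    apply orderOf_eq_prime
    · rw [pow_two]; exact hσ2
    · exact hσ1
  have hX : Nat.card ↥X = 2 := by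
    rw [hXdef, Nat.card_zpowers, hord]
  set N₀ : Subgroup Γ := kerIn ρ Q with hN₀
  set Z : Subgroup Γ := relCenter Q N₀ with hZ
  have hZQ : Z ≤ Q := relCenter_le Q N₀
  haveI : Fact q.Prime := ⟨hq⟩
  obtain ⟨a, ha⟩ := hQ.exists_card_eq
  have hcharQ : (Nat.card ↥Q : F) ≠ 0 := by
    rw [ha]; push_cast; exact pow_ne_zero _ hqF
  have hcharZ : (Nat.card ↥Z : F) ≠ 0 := by
    intro h0
    apply hcharQ
    obtain ⟨k, hk⟩ := Subgroup.card_dvd_of_le hZQ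
    rw [hk]; push_cast; rw [h0, zero_mul]
  letI : Fintype ↥Z := Fintype.ofFinite _
  have hXχ : ∀ χ : (↥Z ⧸ N₀.subgroupOf Z) →* Fˣ, wproj ρ Z N₀ χ ≠ 0 → σ • χ = χ :=
    fun χ hχ =>
      smul_eq_of_wproj_ne_zero ρ Z N₀ A X Nat.prime_two hAc hA hXA hX hfix hcharZ
        (by exact_mod_cast h2F) χ hχ σ (Subgroup.mem_zpowers σ)
  exact comm_of_smul_eq ρ Z N₀ (le_relCenter (kerIn_le ρ Q)) (relCenter_comm Q N₀) hcharZ
    (fixedBy_kerIn ρ Q) σ hXχ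

end Cfsg.Agent.Helper8.SG2N
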