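import Mathlib
import Cfsg.Agent.Lib.SG2N.NSRDefs

/-! S3795 NO-STACKING block B4 (designer helper27), piece NSR-FR1: basic facts on `Q1 ρ Q q`.  Proved by helper26. -/

set_option autoImplicit false
set_option linter.unusedSectionVars false
set_option linter.style.haveILetI false

namespace Cfsg.Agent.Helper8.SG2N

open Module Cfsg.Agent.Helper8.FrobLin Cfsg.Agent.Helper8.HHLin Cfsg.Agent.Helper23.SGF

universe u v w

variable {F : Type w} [Field F] {Γ : Type u} [Group Γ] {V : Type v} [AddCommGroup V] [Module F V]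

theorem nsrfr1_fgen_subset (Q : Subgroup Γ) (q : ℕ) : fgen Q q ⊆ (Q : Set Γ) := by
  rintro x (⟨a, ha, b, hb, rfl⟩ | ⟨a, ha, rfl⟩)
  · exact Q.mul_mem (Q.mul_mem (Q.mul_mem ha hb) (Q.inv_mem ha)) (Q.inv_mem hb)
  · exact Q.pow_mem ha q

theorem Q1_le (ρ : Representation F Γ V) (Q : Subgroup Γ) (q : ℕ) : Q1 ρ Q q ≤ Q := by
  unfold Q1
  refine sup_le ?_ (kerIn_le ρ Q)
  rw [Subgroup.closure_le]
  exact nsrfr1_fgen_subset Q q

theorem comm_mem_Q1 (ρ : Representation F Γ V) (Q : Subgroup Γ) (q : ℕ) :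
    ∀ a ∈ Q, ∀ b ∈ Q, a * b * a⁻¹ * b⁻¹ ∈ Q1 ρ Q q := by
  intro a ha b hb
  unfold Q1
  exact Subgroup.mem_sup_left (Subgroup.subset_closure (Or.inl ⟨a, ha, b, hb, rfl⟩))

theorem pow_mem_Q1 (ρ : Representation F Γ V) (Q : Subgroup Γ) (q : ℕ) :
    ∀ a ∈ Q, a ^ q ∈ Q1 ρ Q q := by
  intro a ha
  unfold Q1
  exact Subgroup.mem_sup_left (Subgroup.subset_closure (Or.inr ⟨a, ha, rfl⟩))

theorem kerIn_le_Q1 (ρ : Representation F Γ V) (Q : Subgroup Γ) (q : ℕ) :
    kerIn ρ Q ≤ Q1 ρ Q q := by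
  unfold Q1
  exact le_sup_right

/-- the closure of a conjugation-stable set is normal -/
theorem nsrfr1_closure_normal (T : Set Γ) (hT : ∀ g : Γ, ∀ x ∈ T, g * x * g⁻¹ ∈ T) :
    (Subgroup.closure T).Normal := by
  refine ⟨fun n hn g => ?_⟩
  induction hn using Subgroup.closure_induction with
  | mem x hx => exact Subgroup.subset_closure (hT g x hx)
  | one => simp
  | mul x y _ _ hx hy =>
    have e : g * (x * y) * g⁻¹ = (g * x * g⁻¹) * (g * y * g⁻¹) := by group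
    rw [e]
    exact Subgroup.mul_mem _ hx hy
  | inv x _ hx =>
    have e : g * x⁻¹ * g⁻¹ = (g * x * g⁻¹)⁻¹ := by group
    rw [e]
    exact Subgroup.inv_mem _ hx

/-- `Q1` is normal when `Q` is (conjugation permutes `fgen Q q`: use `Subgroup.closure_induction` or
`Subgroup.Normal` of a closure of a conjugation-stable set; `kerIn ρ Q` is normal by `kerIn_normal`;
`Subgroup.sup_normal`) -/
theorem Q1_normal (ρ : Representation F Γ V) (Q : Subgroup Γ) [Q.Normal] (q : ℕ) :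
    (Q1 ρ Q q).Normal := by
  have hQn : ∀ g : Γ, ∀ a ∈ Q, g * a * g⁻¹ ∈ Q := fun g a ha =>
    (inferInstance : Q.Normal).conj_mem a ha g
  haveI h1 : (Subgroup.closure (fgen Q q)).Normal := by
    apply nsrfr1_closure_normal
    rintro g x (⟨a, ha, b, hb, rfl⟩ | ⟨a, ha, rfl⟩)
    · left
      refine ⟨g * a * g⁻¹, hQn g a ha, g * b * g⁻¹, hQn g b hb, ?_⟩
      group
    · right
      refine ⟨g * a * g⁻¹, hQn g a ha, ?_⟩
      rw [conj_pow]
  haveI h2 : (kerIn ρ Q).Normal := kerIn_normal ρ Q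
  unfold Q1
  infer_instance

end Cfsg.Agent.Helper8.SG2N
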