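import Mathlib
import Cfsg.Agent.Lib.SG2N.NSRDefs
import Cfsg.Agent.Lib.SG2N.NSRFR1
import Cfsg.Agent.Lib.Helper21.PGroupFrattini

/-! S3795 NO-STACKING block B4 (designer helper27), piece NSR-FR2: `Q1 ρ Q q` is a proper subgroup.  Proved by helper27. -/

set_option autoImplicit false
set_option linter.unusedSectionVars false
set_option linter.style.haveILetI false

namespace Cfsg.Agent.Helper8.SG2N

open Module Cfsg.Agent.Helper8.FrobLin Cfsg.Agent.Helper8.HHLin Cfsg.Agent.Helper23.SGF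

universe u v w

/-- if `Q` is a `q`-group not contained in the kernel of `ρ` then `Q1 ρ Q q = ⟨[Q,Q], Q^q⟩ (Q ∩ ker ρ) ≠ Q`.
PROOF.  Work in `↥Q`: `K := (kerIn ρ Q).subgroupOf Q ≠ ⊤`, so there is a coatom `M ≥ K` of `Subgroup ↥Q` (finite lattice:
`(eq_top_or_exists_le_coatom K)`); `M` is normal of index `q` (`Cfsg.Agent.Helper21.coatom_normal_of_isPGroup`,
`coatom_index_of_isPGroup`, they need `Fact q.Prime`), so `↥Q ⧸ M` is cyclic of order `q`: commutators and `q`-th powers of `↥Q` lie in `M`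
(compare `commutator_mem_frattini_of_isPGroup`, `pow_mem_frattini_of_isPGroup` in the same file; `Subgroup.pow_index_mem`).
Hence `fgen Q q ⊆ M.map Q.subtype` and `kerIn ρ Q ≤ M.map Q.subtype`, so `Q1 ρ Q q ≤ M.map Q.subtype`, which is `≠ Q` as `M ≠ ⊤`. -/
theorem Q1_ne {F : Type w} [Field F] {Γ : Type u} [Group Γ] [Finite Γ] {V : Type v}
    [AddCommGroup V] [Module F V] (ρ : Representation F Γ V) (Q : Subgroup Γ) {q : ℕ}
    (hq : q.Prime) (hQ : IsPGroup q ↥Q) (hne : kerIn ρ Q ≠ Q) : Q1 ρ Q q ≠ Q := by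
  classical
  haveI : Fact q.Prime := ⟨hq⟩
  intro heq
  have hK : (kerIn ρ Q).subgroupOf Q ≠ ⊤ := by
    intro h
    apply hne
    apply le_antisymm (kerIn_le ρ Q)
    rw [Subgroup.subgroupOf_eq_top] at h
    exact h
  obtain ⟨M, hM, hKM⟩ :=
    (eq_top_or_exists_le_coatom ((kerIn ρ Q).subgroupOf Q)).resolve_left hK
  haveI hMn : M.Normal := Cfsg.Agent.Helper21.coatom_normal_of_isPGroup hQ M hM
  have hidx : M.index = q := Cfsg.Agent.Helper21.coatom_index_of_isPGroup hQ M hM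
  have hcard : Nat.card (↥Q ⧸ M) = q := hidx
  haveI : IsCyclic (↥Q ⧸ M) := isCyclic_of_prime_card hcard
  have hc : ∀ a b : ↥Q ⧸ M, a * b = b * a := isMulCommutative_iff.mp IsCyclic.isMulCommutative
  have hcomm : ∀ x y : ↥Q, x * y * x⁻¹ * y⁻¹ ∈ M := by
    intro x y
    rw [← QuotientGroup.eq_one_iff]
    rw [QuotientGroup.mk_mul, QuotientGroup.mk_mul, QuotientGroup.mk_mul, QuotientGroup.mk_inv,
      QuotientGroup.mk_inv, hc (x : ↥Q ⧸ M) (y : ↥Q ⧸ M)]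
    group
  have hpow : ∀ x : ↥Q, x ^ q ∈ M := by
    intro x
    rw [← hidx]
    exact Subgroup.pow_index_mem M x
  have hle : Q1 ρ Q q ≤ M.map Q.subtype := by
    unfold Q1
    refine sup_le ?_ ?_
    · rw [Subgroup.closure_le]
      rintro x (⟨a, ha, b, hb, rfl⟩ | ⟨a, ha, rfl⟩)
      · exact ⟨(⟨a, ha⟩ : ↥Q) * ⟨b, hb⟩ * (⟨a, ha⟩ : ↥Q)⁻¹ * (⟨b, hb⟩ : ↥Q)⁻¹, hcomm _ _, rfl⟩
      · exact ⟨(⟨a, ha⟩ : ↥Q) ^ q, hpow _, by simp⟩
    · intro x hx
      have hxQ := kerIn_le ρ Q hx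
      exact ⟨⟨x, hxQ⟩, hKM (by rw [Subgroup.mem_subgroupOf]; exact hx), rfl⟩
  apply hM.1
  rw [eq_top_iff]
  intro y _
  have hy : (y : Γ) ∈ Q1 ρ Q q := by rw [heq]; exact y.2
  obtain ⟨m, hm, hmy⟩ := hle hy
  have : m = y := Subtype.ext hmy
  rw [← this]
  exact hm

end Cfsg.Agent.Helper8.SG2N
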