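import Mathlib
import Cfsg.Agent.Lib.SG2N.NSRDefs

/-! S3795 NO-STACKING block B4 (designer helper27), piece NSR-TS (three subgroups, elementwise); implemented by helper11.
See plans/S3795_nostack_plan.md (B4, R5). -/

set_option autoImplicit false
set_option linter.unusedSectionVars false
set_option linter.style.haveILetI false

namespace Cfsg.Agent.Helper8.SG2N

open Module Cfsg.Agent.Helper8.FrobLin Cfsg.Agent.Helper8.HHLin Cfsg.Agent.Helper23.SGF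

universe u v w

/-- if `ρ g` commutes with `ρ x` for all `x ∈ Q₁` and `u` normalises `Q₁`, then `ρ (g u g⁻¹ u⁻¹)` commutes with `ρ x` for all `x ∈ Q₁`.
PROOF.  `ρ (g u g⁻¹ u⁻¹) = ρ g * ρ u * ρ g⁻¹ * ρ u⁻¹`; `ρ u⁻¹ * ρ x = ρ (u⁻¹ x u) * ρ u⁻¹`; `ρ g⁻¹` commutes with `ρ (u⁻¹ x u)`
(from `hg`, multiply by `ρ g⁻¹` on both sides); `ρ u * ρ (u⁻¹ x u) = ρ x * ρ u`; `ρ g * ρ x = ρ x * ρ g`. -/
theorem comm_centralises {F : Type w} [Field F] {Γ : Type u} [Group Γ] {V : Type v} [AddCommGroup V]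
    [Module F V] (ρ : Representation F Γ V) (Q₁ : Subgroup Γ) (g u : Γ)
    (hg : ∀ x ∈ Q₁, ρ g * ρ x = ρ x * ρ g) (hu : ∀ x ∈ Q₁, u⁻¹ * x * u ∈ Q₁) :
    ∀ x ∈ Q₁, ρ (g * u * g⁻¹ * u⁻¹) * ρ x = ρ x * ρ (g * u * g⁻¹ * u⁻¹) := by
  intro x hx
  have hx' : u⁻¹ * x * u ∈ Q₁ := hu x hx
  have hAX : ρ g * ρ x = ρ x * ρ g := hg x hx
  have hAX' : ρ g * ρ (u⁻¹ * x * u) = ρ (u⁻¹ * x * u) * ρ g := hg _ hx'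
  have hAA' : ρ g * ρ g⁻¹ = 1 := by rw [← map_mul, mul_inv_cancel, map_one]
  have hA'A : ρ g⁻¹ * ρ g = 1 := by rw [← map_mul, inv_mul_cancel, map_one]
  have hA'X' : ρ g⁻¹ * ρ (u⁻¹ * x * u) = ρ (u⁻¹ * x * u) * ρ g⁻¹ := by
    calc ρ g⁻¹ * ρ (u⁻¹ * x * u) = ρ g⁻¹ * ρ (u⁻¹ * x * u) * (ρ g * ρ g⁻¹) := by
          rw [hAA', mul_one]
      _ = ρ g⁻¹ * (ρ (u⁻¹ * x * u) * ρ g) * ρ g⁻¹ := by simp only [mul_assoc]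
      _ = ρ g⁻¹ * (ρ g * ρ (u⁻¹ * x * u)) * ρ g⁻¹ := by rw [hAX']
      _ = (ρ g⁻¹ * ρ g) * ρ (u⁻¹ * x * u) * ρ g⁻¹ := by simp only [mul_assoc]
      _ = ρ (u⁻¹ * x * u) * ρ g⁻¹ := by rw [hA'A, one_mul]
  have h1 : ρ u⁻¹ * ρ x = ρ (u⁻¹ * x * u) * ρ u⁻¹ := by
    rw [← map_mul, ← map_mul]
    congr 1
    group
  have h2 : ρ u * ρ (u⁻¹ * x * u) = ρ x * ρ u := by
    rw [← map_mul, ← map_mul]
    congr 1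
    group
  rw [map_mul, map_mul, map_mul]
  calc ρ g * ρ u * ρ g⁻¹ * ρ u⁻¹ * ρ x = ρ g * ρ u * ρ g⁻¹ * (ρ u⁻¹ * ρ x) := by
        simp only [mul_assoc]
    _ = ρ g * ρ u * ρ g⁻¹ * (ρ (u⁻¹ * x * u) * ρ u⁻¹) := by rw [h1]
    _ = ρ g * ρ u * (ρ g⁻¹ * ρ (u⁻¹ * x * u)) * ρ u⁻¹ := by simp only [mul_assoc]
    _ = ρ g * ρ u * (ρ (u⁻¹ * x * u) * ρ g⁻¹) * ρ u⁻¹ := by rw [hA'X']
    _ = ρ g * (ρ u * ρ (u⁻¹ * x * u)) * ρ g⁻¹ * ρ u⁻¹ := by simp only [mul_assoc]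
    _ = ρ g * (ρ x * ρ u) * ρ g⁻¹ * ρ u⁻¹ := by rw [h2]
    _ = (ρ g * ρ x) * ρ u * ρ g⁻¹ * ρ u⁻¹ := by simp only [mul_assoc]
    _ = (ρ x * ρ g) * ρ u * ρ g⁻¹ * ρ u⁻¹ := by rw [hAX]
    _ = ρ x * (ρ g * ρ u * ρ g⁻¹ * ρ u⁻¹) := by simp only [mul_assoc]

end Cfsg.Agent.Helper8.SG2N
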