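import Mathlib
import Cfsg.Agent.Lib.SG2N.NSRDefs
import Cfsg.Agent.Lib.SG2N.NSRCON
import Cfsg.Agent.Lib.SG2N.NSRFR1
import Cfsg.Agent.Lib.SG2N.NSRFR2
import Cfsg.Agent.Lib.SG2N.NSRTS

/-! S3795 NO-STACKING block B4 (designer helper27), piece NSR-R5 (Frattini step).  Proved by helper27.
See plans/S3795_nostack_plan.md (B4, R5). -/

set_option autoImplicit false
set_option linter.unusedSectionVars false
set_option linter.style.haveILetI false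

namespace Cfsg.Agent.Helper8.SG2N

open Module Cfsg.Agent.Helper8.FrobLin Cfsg.Agent.Helper8.HHLin Cfsg.Agent.Helper23.SGF

universe u v w

/-- (R5) Assume `S` centralises on `V` every proper subgroup of `Q` normalised by `S` and `A` (`hR2`), `Q ⊴ Γ`, `Q ⊄ ker ρ`.
Then either `S` centralises `Q` on `V`, or `Q1 ρ Q q ≤ KZ ρ Q`.
PROOF.  `Q₁ := Q1 ρ Q q` is normal in `Γ` (`Q1_normal`), `Q₁ ≤ Q` (`Q1_le`), `Q₁ ≠ Q` (`Q1_ne`); so `S` centralises `Q₁` on `V` (`hR2`).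
`Q₃ := cOn ρ Q Q₁ ≤ Q` is normalised by every element of `Γ` (`cOn_conj_mem`, as `Q` and `Q₁` are normal).
Case `Q₃ = Q`: for `x ∈ Q₁`, `u ∈ Q`: `ρ u` commutes with `ρ x`, so `x u x⁻¹ u⁻¹ ∈ kerIn ρ Q` (`rho_comm_iff_commutator` in Lib/Helper8, or directly), i.e. `x ∈ relCenter Q (kerIn ρ Q) = KZ ρ Q` (`mem_relCenter`).
Case `Q₃ ≠ Q`: `S` centralises `Q₃` on `V` (`hR2`); for `g ∈ S`, `u ∈ Q`: `g u g⁻¹ u⁻¹ ∈ Q₃` (`comm_centralises` with `Q₁`; it lies in `Q` as `Q` is normal),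
so `ρ g` commutes with `ρ (g u g⁻¹ u⁻¹)`; `g ^ |S| = 1`, `(g u g⁻¹ u⁻¹) ^ |Q| = 1`, `|S| = s ^ a` and `|Q| = q ^ b` coprime:
`rho_comm_of_commutator` (Lib/Helper8/HHLin10.lean) gives `ρ g * ρ u = ρ u * ρ g`. -/
theorem step_R5 {F : Type w} [Field F] [IsAlgClosed F] {Γ : Type u} [Group Γ] [Finite Γ]
    {V : Type v} [AddCommGroup V] [Module F V] [FiniteDimensional F V]
    (ρ : Representation F Γ V) (Q S A : Subgroup Γ) [Q.Normal] {q s : ℕ} (hq : q.Prime)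
    (hs : s.Prime) (hqs : q ≠ s) (hQ : IsPGroup q ↥Q) (hS : IsPGroup s ↥S)
    (hker : kerIn ρ Q ≠ Q)
    (hR2 : ∀ Q' : Subgroup Γ, Q' ≤ Q → Q' ≠ Q → (∀ g ∈ S, ∀ x ∈ Q', g * x * g⁻¹ ∈ Q') →
      (∀ a ∈ A, ∀ x ∈ Q', a * x * a⁻¹ ∈ Q') → ∀ g ∈ S, ∀ x ∈ Q', ρ g * ρ x = ρ x * ρ g) :
    (∀ g ∈ S, ∀ x ∈ Q, ρ g * ρ x = ρ x * ρ g) ∨ Q1 ρ Q q ≤ KZ ρ Q := by
  classical
  haveI : Fact q.Prime := ⟨hq⟩
  haveI : Fact s.Prime := ⟨hs⟩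
  have hQn : Q.Normal := inferInstance
  have hQ₁n : (Q1 ρ Q q).Normal := Q1_normal ρ Q q
  have hQ₁le : Q1 ρ Q q ≤ Q := Q1_le ρ Q q
  have hQ₁ne : Q1 ρ Q q ≠ Q := Q1_ne ρ Q hq hQ hker
  have hS1 : ∀ g ∈ S, ∀ x ∈ Q1 ρ Q q, ρ g * ρ x = ρ x * ρ g :=
    hR2 (Q1 ρ Q q) hQ₁le hQ₁ne (fun g _ x hx => hQ₁n.conj_mem x hx g)
      (fun a _ x hx => hQ₁n.conj_mem x hx a)
  have hQ₃le : cOn ρ Q (Q1 ρ Q q) ≤ Q := cOn_le ρ Q (Q1 ρ Q q)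
  have hQ₃c : ∀ a : Γ, ∀ x ∈ cOn ρ Q (Q1 ρ Q q), a * x * a⁻¹ ∈ cOn ρ Q (Q1 ρ Q q) := fun a =>
    cOn_conj_mem ρ Q (Q1 ρ Q q) a (fun x hx => hQn.conj_mem x hx a) (fun y hy => by
      have := hQ₁n.conj_mem y hy a⁻¹
      rwa [inv_inv] at this)
  by_cases h3 : cOn ρ Q (Q1 ρ Q q) = Q
  · right
    intro x hx
    show x ∈ relCenter Q (kerIn ρ Q)
    rw [mem_relCenter]
    refine ⟨hQ₁le hx, fun u hu => ?_⟩
    rw [mem_kerIn]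
    refine ⟨Q.mul_mem (Q.mul_mem (Q.mul_mem (hQ₁le hx) hu) (Q.inv_mem (hQ₁le hx)))
      (Q.inv_mem hu), ?_⟩
    have hu3 : u ∈ cOn ρ Q (Q1 ρ Q q) := by rw [h3]; exact hu
    have hc : ρ u * ρ x = ρ x * ρ u := (mem_cOn.mp hu3).2 x hx
    rw [← rho_comm_iff_commutator]
    exact hc.symm
  · left
    have hS3 : ∀ g ∈ S, ∀ x ∈ cOn ρ Q (Q1 ρ Q q), ρ g * ρ x = ρ x * ρ g :=
      hR2 _ hQ₃le h3 (fun g _ x hx => hQ₃c g x hx) (fun a _ x hx => hQ₃c a x hx)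
    obtain ⟨a, ha⟩ := hS.exists_card_eq
    obtain ⟨b, hb⟩ := hQ.exists_card_eq
    intro g hg u hu
    have hcQ : g * u * g⁻¹ * u⁻¹ ∈ Q := Q.mul_mem (hQn.conj_mem u hu g) (Q.inv_mem hu)
    have hc3 : g * u * g⁻¹ * u⁻¹ ∈ cOn ρ Q (Q1 ρ Q q) := by
      rw [mem_cOn]
      exact ⟨hcQ, comm_centralises ρ (Q1 ρ Q q) g u (hS1 g hg) (fun x hx => by
        have := hQ₁n.conj_mem x hx u⁻¹
        rwa [inv_inv] at this)⟩
    have h1 := hS3 g hg _ hc3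
    have hgk : g ^ (s ^ a) = 1 := by
      have h1 : (⟨g, hg⟩ : ↥S) ^ Nat.card ↥S = 1 := pow_card_eq_one'
      rw [ha] at h1
      have := congrArg Subtype.val h1
      simpa using this
    have hcm : (g * u * g⁻¹ * u⁻¹) ^ (q ^ b) = 1 := by
      have h1 : (⟨_, hcQ⟩ : ↥Q) ^ Nat.card ↥Q = 1 := pow_card_eq_one'
      rw [hb] at h1
      have := congrArg Subtype.val h1
      simpa using this
    exact rho_comm_of_commutator (ρ := ρ) g u h1 hgk hcm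
      (Nat.Coprime.pow _ _ ((Nat.coprime_primes hs hq).mpr (Ne.symm hqs)))

end Cfsg.Agent.Helper8.SG2N
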