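import Mathlib
import Cfsg.Agent.Lib.SG2N.NSRDefs

/-! S3795 NO-STACKING block B4 (designer helper27), piece NSR-R7 (radical intersection).  Proved by helper27 (after helper10).
See plans/S3795_nostack_plan.md (B4, R7). -/

set_option autoImplicit false
set_option linter.unusedSectionVars false
set_option linter.style.haveILetI false

namespace Cfsg.Agent.Helper8.SG2N

open Module Cfsg.Agent.Helper8.FrobLin Cfsg.Agent.Helper8.HHLin Cfsg.Agent.Helper23.SGF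

universe u v w

attribute [local instance] dualAct

/-- an element of `Q` lying in the radical for every occurring weight lies in `KZ ρ Q`.
PROOF: copy of `mem_KZ_of_inRad` (Lib/SG3/SGFKRADI.lean) with `T.hq, T.hQ, T.hqF` replaced by the hypotheses and
`T.hNZ.le` by `le_relCenter (kerIn_le ρ Q)`. -/
theorem mem_KZ_of_forall_inRad {F : Type w} [Field F] [IsAlgClosed F] {Γ : Type u} [Group Γ]
    [Finite Γ] {V : Type v} [AddCommGroup V] [Module F V] [FiniteDimensional F V]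
    {ρ : Representation F Γ V} {Q : Subgroup Γ} [Q.Normal] {q : ℕ} (hq : q.Prime)
    (hqF : (q : F) ≠ 0) (hQ : IsPGroup q ↥Q) (g : Γ) (hg : g ∈ Q)
    (h : ∀ χ : KW ρ Q, KP ρ Q χ ≠ 0 → InRad ρ Q χ g) : g ∈ KZ ρ Q := by
  classical
  haveI : Fact q.Prime := ⟨hq⟩
  have hZQ : KZ ρ Q ≤ Q := relCenter_le Q _
  have hZcomm : ∀ a ∈ KZ ρ Q, ∀ b ∈ KZ ρ Q, a * b * a⁻¹ * b⁻¹ ∈ KN ρ Q := relCenter_comm Q _
  obtain ⟨a, ha⟩ := hQ.exists_card_eq
  have hcharQ : (Nat.card ↥Q : F) ≠ 0 := by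
    rw [ha]; push_cast; exact pow_ne_zero _ hqF
  have hcharZ : (Nat.card ↥(KZ ρ Q) : F) ≠ 0 := by
    intro h0
    apply hcharQ
    obtain ⟨k, hk⟩ := Subgroup.card_dvd_of_le hZQ
    rw [hk]; push_cast; rw [h0, zero_mul]
  letI : Fintype ↥(KZ ρ Q) := Fintype.ofFinite _
  letI : Fintype (KW ρ Q) := Fintype.ofFinite _
  have hrS : LinearMap.range (∑ χ : KW ρ Q, wproj ρ (KZ ρ Q) (KN ρ Q) χ) = ⊤ := by
    rw [range_sum_wproj ρ (KZ ρ Q) (KN ρ Q) (le_relCenter (kerIn_le ρ Q)) hZcomm hcharZ,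
      fixedBy_kerIn]
  rw [mem_relCenter]
  refine ⟨hg, fun u hu => ?_⟩
  rw [mem_kerIn]
  refine ⟨Q.mul_mem (Q.mul_mem (Q.mul_mem hg hu) (Q.inv_mem hg)) (Q.inv_mem hu), ?_⟩
  apply LinearMap.ext
  intro v
  have hv : v ∈ LinearMap.range (∑ χ : KW ρ Q, wproj ρ (KZ ρ Q) (KN ρ Q) χ) := by
    rw [hrS]; trivial
  obtain ⟨u', rfl⟩ := hv
  rw [LinearMap.sum_apply, map_sum, Module.End.one_apply]
  apply Finset.sum_congr rfl
  intro χ _
  by_cases hχ : KP ρ Q χ = 0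
  · have h0 : wproj ρ (KZ ρ Q) (KN ρ Q) χ = 0 := hχ
    rw [h0]; simp
  · exact (h χ hχ).2 u hu _ ⟨u', rfl⟩

end Cfsg.Agent.Helper8.SG2N
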