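import Mathlib
import Cfsg.Agent.Lib.SG2N.NSRDefs
import Cfsg.Agent.Lib.SG2N.NSRR1
import Cfsg.Agent.Lib.SG2N.NSRR2
import Cfsg.Agent.Lib.SG2N.NSRR3
import Cfsg.Agent.Lib.SG2N.NSRR4
import Cfsg.Agent.Lib.SG2N.NSRR5
import Cfsg.Agent.Lib.SG2N.NSRR7
import Cfsg.Agent.Lib.SG2N.NSLevel

/-! S3795 NO-STACKING block B4 (designer helper27): assembly of the reductions (R0)-(R8); `ns_core`, `ns_all`.
See plans/S3795_nostack_plan.md (B4). -/

set_option autoImplicit false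
set_option linter.unusedSectionVars false
set_option linter.style.haveILetI false

namespace Cfsg.Agent.Helper8.SG2N

open Module Cfsg.Agent.Helper8.FrobLin Cfsg.Agent.Helper8.HHLin Cfsg.Agent.Helper23.SGF

universe u v w

attribute [local instance] dualAct

section Core

variable {F : Type w} [Field F] [IsAlgClosed F] {q s : ℕ}

/-- the inductive step when `Q ⊔ (S ⊔ A) = ⊤` -/
theorem ns_core (hq : q.Prime) (hs : s.Prime) (hq2 : q ≠ 2) (hs2 : s ≠ 2) (hqs : q ≠ s)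
    (hqF : (q : F) ≠ 0) (h2F : (2 : F) ≠ 0) (N : ℕ) (IH : ∀ N' < N, NSStmt.{u, v, w} F q s N')
    (Γ : Type u) [Group Γ] [Finite Γ] (V : Type v) [AddCommGroup V] [Module F V]
    [FiniteDimensional F V] (ρ : Representation F Γ V) (Q S A : Subgroup Γ) (σ : Γ)
    (hN : Nat.card ↥Q + Nat.card ↥S + finrank F V = N)
    (hQ : IsPGroup q ↥Q) (hS : IsPGroup s ↥S) (hAc : IsCyclic ↥A) (hA : IsPGroup 2 ↥A)
    (hSQ : ∀ g ∈ S, ∀ x ∈ Q, g * x * g⁻¹ ∈ Q) (hAQ : ∀ a ∈ A, ∀ x ∈ Q, a * x * a⁻¹ ∈ Q)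
    (hAS : ∀ a ∈ A, ∀ g ∈ S, a * g * a⁻¹ ∈ S)
    (hfix : fixedBy ρ A = ⊥) (hfpf : ∀ x ∈ Q, (∀ a ∈ A, a * x = x * a) → x = 1)
    (hσA : σ ∈ A) (hσ2 : σ * σ = 1) (htop : Q ⊔ (S ⊔ A) = ⊤) :
    ∀ g ∈ S, ∀ x ∈ Q, ρ (g * σ * g⁻¹ * σ⁻¹) * ρ x = ρ x * ρ (g * σ * g⁻¹ * σ⁻¹) := by
  classical
  haveI : Fact q.Prime := ⟨hq⟩
  haveI : Fact s.Prime := ⟨hs⟩
  -- (R0)
  by_cases hσ1 : σ = 1
  · intro g _ x _
    have e : g * σ * g⁻¹ * σ⁻¹ = 1 := by rw [hσ1]; group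
    rw [e, map_one, one_mul, mul_one]
  -- (R1)
  by_cases hS2 : S2 ρ Q S σ = S
  swap
  · exact step_R1 hs hs2 IH Γ V ρ Q S A σ hN hQ hS hAc hA hSQ hAQ hAS hfix hfpf hσA hσ2 hS2
  -- (R2)
  have hR2 := step_R2 IH Γ V ρ Q S A σ hN hQ hS hAc hA hAS hfix hfpf hσA hσ2 hS2
  -- `Q` is normal
  have hSA : ∀ a ∈ S ⊔ A, ∀ x ∈ Q, a * x * a⁻¹ ∈ Q := by
    have key : ∀ (T : Subgroup Γ), (∀ a ∈ T, ∀ g ∈ Q, a * g * a⁻¹ ∈ Q) →
        T ≤ Subgroup.normalizer (Q : Set Γ) := by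
      intro T h g hg
      rw [Subgroup.mem_normalizer_iff]
      intro x
      constructor
      · exact h g hg x
      · intro hx
        have := h g⁻¹ (T.inv_mem hg) _ hx
        have e : g⁻¹ * (g * x * g⁻¹) * g⁻¹⁻¹ = x := by group
        rwa [e] at this
    intro a ha x hx
    have h1 : S ⊔ A ≤ Subgroup.normalizer (Q : Set Γ) := sup_le (key S hSQ) (key A hAQ)
    exact (Subgroup.mem_normalizer_iff.mp (h1 ha) x).mp hx
  haveI hQn : Q.Normal := normal_of_sup_eq_top Q Q (S ⊔ A) htop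
    (fun a ha g hg => Q.mul_mem (Q.mul_mem ha hg) (Q.inv_mem ha)) hSA
  -- the kernel
  by_cases hker : kerIn ρ Q = Q
  · intro g _ x hx
    have hx' : x ∈ kerIn ρ Q := by rw [hker]; exact hx
    rw [((mem_kerIn ρ).mp hx').2, mul_one, one_mul]
  -- (R4)
  have hσZ := sigma_comm_KZ ρ Q A σ hq hqF h2F hQ hAc hA hfix hσA hσ2 hσ1
  by_cases hZQ : KZ ρ Q = Q
  · exact step_R3 ρ Q S σ hSQ (fun x hx => hσZ x (by rw [hZQ]; exact hx))
  have hZn : (KZ ρ Q).Normal := relCenter_normal Q _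
  have hSZ : ∀ g ∈ S, ∀ z ∈ KZ ρ Q, ρ g * ρ z = ρ z * ρ g :=
    hR2 (KZ ρ Q) (relCenter_le Q _) hZQ (fun g _ x hx => hZn.conj_mem x hx g)
      (fun a _ x hx => hZn.conj_mem x hx a)
  have hcS : ∀ g ∈ S, g * σ * g⁻¹ * σ⁻¹ ∈ S := by
    intro g hg
    have h1 := hAS σ hσA g⁻¹ (S.inv_mem hg)
    have e : g * σ * g⁻¹ * σ⁻¹ = g * (σ * g⁻¹ * σ⁻¹) := by group
    rw [e]
    exact S.mul_mem hg h1
  -- (R5)
  rcases step_R5 ρ Q S A hq hs hqs hQ hS hker hR2 with hall | hQ1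
  · intro g hg x hx
    exact hall _ (hcS g hg) x hx
  -- (R6)
  have C : NSConf ρ Q S A σ q s :=
    { hq := hq, hs := hs, hq2 := hq2, hs2 := hs2, hqs := hqs, hqF := hqF, h2F := h2F, hQ := hQ,
      hS := hS, hAc := hAc, hA := hA, hAS := hAS, hfix := hfix, hσA := hσA, hσ2 := hσ2,
      hσ1 := hσ1,
      hQZ := fun a ha b hb => hQ1 (comm_mem_Q1 ρ Q q a ha b hb),
      hQq := fun a ha => hQ1 (pow_mem_Q1 ρ Q q a ha),
      hSZ := hSZ }
  -- (R7), (R8)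
  obtain ⟨a, ha⟩ := hS.exists_card_eq
  obtain ⟨b, hb⟩ := hQ.exists_card_eq
  have hSpow : ∀ y ∈ S, y ^ (s ^ a) = 1 := by
    intro y hy
    have h1 : (⟨y, hy⟩ : ↥S) ^ Nat.card ↥S = 1 := pow_card_eq_one'
    rw [ha] at h1
    have := congrArg Subtype.val h1
    simpa using this
  have hQpow : ∀ y ∈ Q, y ^ (q ^ b) = 1 := by
    intro y hy
    have h1 : (⟨y, hy⟩ : ↥Q) ^ Nat.card ↥Q = 1 := pow_card_eq_one'
    rw [hb] at h1
    have := congrArg Subtype.val h1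
    simpa using this
  have hcop : (s ^ a).Coprime (q ^ b) :=
    Nat.Coprime.pow _ _ ((Nat.coprime_primes hs hq).mpr (Ne.symm hqs))
  intro g hg u hu
  have hyS := hcS g hg
  have hyQ : ∀ u ∈ Q, (g * σ * g⁻¹ * σ⁻¹) * u * (g * σ * g⁻¹ * σ⁻¹)⁻¹ * u⁻¹ ∈ KZ ρ Q := by
    intro u hu
    apply mem_KZ_of_forall_inRad hq hqF hQ _
      (Q.mul_mem (hQn.conj_mem u hu _) (Q.inv_mem hu))
    intro χ hχ
    exact level12 C χ hχ g hg u hu
  exact rho_comm_of_commutator (ρ := ρ) _ u (hSZ _ hyS _ (hyQ u hu)) (hSpow _ hyS)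
    (hQpow _ (relCenter_le Q _ (hyQ u hu))) hcop

end Core

section All

variable {F : Type w} [Field F] [IsAlgClosed F] {q s : ℕ}

theorem ns_all (hq : q.Prime) (hs : s.Prime) (hq2 : q ≠ 2) (hs2 : s ≠ 2) (hqs : q ≠ s)
    (hqF : (q : F) ≠ 0) (h2F : (2 : F) ≠ 0) : ∀ N, NSStmt.{u, v, w} F q s N := by
  intro N
  induction N using Nat.strong_induction_on with
  | _ N IH =>
    intro Γ _ _ V _ _ _ ρ Q S A σ hN hQ hS hAc hA hSQ hAQ hAS hfix hfpf hσA hσ2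
    set H : Subgroup Γ := Q ⊔ (S ⊔ A) with hH
    have hQH : Q ≤ H := le_sup_left
    have hSH : S ≤ H := le_sup_left.trans le_sup_right
    have hAH : A ≤ H := le_sup_right.trans le_sup_right
    set ρ' : Representation F ↥H V := ρ.comp H.subtype with hρ'
    have hρ'a : ∀ h : ↥H, ρ' h = ρ (h : Γ) := fun h => rfl
    have htop : Q.subgroupOf H ⊔ (S.subgroupOf H ⊔ A.subgroupOf H) = ⊤ := by
      rw [← Subgroup.subgroupOf_sup hSH hAH, ← Subgroup.subgroupOf_sup hQH (sup_le hSH hAH),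
        Subgroup.subgroupOf_self]
    have hcQ : Nat.card ↥(Q.subgroupOf H) = Nat.card ↥Q :=
      Nat.card_congr (Subgroup.subgroupOfEquivOfLe hQH).toEquiv
    have hcS : Nat.card ↥(S.subgroupOf H) = Nat.card ↥S :=
      Nat.card_congr (Subgroup.subgroupOfEquivOfLe hSH).toEquiv
    have hAc' : IsCyclic ↥(A.subgroupOf H) := by
      haveI := hAc
      exact isCyclic_of_surjective (Subgroup.subgroupOfEquivOfLe hAH).symm.toMonoidHom
        (Subgroup.subgroupOfEquivOfLe hAH).symm.surjective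
    have h1 : ∀ g ∈ S.subgroupOf H, ∀ x ∈ Q.subgroupOf H, g * x * g⁻¹ ∈ Q.subgroupOf H := by
      intro g hg x hx
      rw [Subgroup.mem_subgroupOf] at hg hx ⊢
      exact hSQ _ hg _ hx
    have h2 : ∀ a ∈ A.subgroupOf H, ∀ x ∈ Q.subgroupOf H, a * x * a⁻¹ ∈ Q.subgroupOf H := by
      intro g hg x hx
      rw [Subgroup.mem_subgroupOf] at hg hx ⊢
      exact hAQ _ hg _ hx
    have h3 : ∀ a ∈ A.subgroupOf H, ∀ g ∈ S.subgroupOf H, a * g * a⁻¹ ∈ S.subgroupOf H := by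
      intro g hg x hx
      rw [Subgroup.mem_subgroupOf] at hg hx ⊢
      exact hAS _ hg _ hx
    have h4 : fixedBy ρ' (A.subgroupOf H) = ⊥ := by
      rw [eq_bot_iff]
      intro v hv
      rw [mem_fixedBy] at hv
      have : v ∈ fixedBy ρ A := by
        rw [mem_fixedBy]
        intro x hx
        exact hv ⟨x, hAH hx⟩ hx
      rw [hfix] at this
      exact this
    have h5 : ∀ x ∈ Q.subgroupOf H, (∀ a ∈ A.subgroupOf H, a * x = x * a) → x = 1 := by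
      intro x hx hcomm
      rw [Subgroup.mem_subgroupOf] at hx
      have := hfpf _ hx (fun a ha => by
        have := hcomm ⟨a, hAH ha⟩ (by rw [Subgroup.mem_subgroupOf]; exact ha)
        exact congrArg Subtype.val this)
      exact Subtype.ext this
    have h6 : (⟨σ, hAH hσA⟩ : ↥H) ∈ A.subgroupOf H := by
      rw [Subgroup.mem_subgroupOf]; exact hσA
    have h7 : (⟨σ, hAH hσA⟩ : ↥H) * ⟨σ, hAH hσA⟩ = 1 := Subtype.ext hσ2
    have key := ns_core hq hs hq2 hs2 hqs hqF h2F N IH ↥H V ρ' (Q.subgroupOf H)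
      (S.subgroupOf H) (A.subgroupOf H) ⟨σ, hAH hσA⟩ (by rw [hcQ, hcS]; exact hN)
      hQ.comap_subtype hS.comap_subtype hAc' hA.comap_subtype h1 h2 h3 h4 h5 h6 h7 htop
    intro g hg x hx
    exact key ⟨g, hSH hg⟩ hg ⟨x, hQH hx⟩ hx

end All

end Cfsg.Agent.Helper8.SG2N
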