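import Mathlib
import Cfsg.Agent.Lib.SG2N.NSStmt
import Cfsg.Agent.Lib.SG2N.NSRAll

/-!
# S3795 (Gross, p = 2): the NO-STACKING theorem (designer: helper8) -- interface for the outer part
-/

set_option autoImplicit false
set_option linter.unusedSectionVars false

namespace Cfsg.Agent.Helper8.SG2N

open Module Cfsg.Agent.Helper8.FrobLin Cfsg.Agent.Helper8.HHLin

universe u v w

/-- **NO STACKING.** -/
theorem no_stack {F : Type w} [Field F] [IsAlgClosed F] {q s : ℕ} (hq : q.Prime) (hs : s.Prime)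
    (hq2 : q ≠ 2) (hs2 : s ≠ 2) (hqs : q ≠ s) (hqF : (q : F) ≠ 0) (h2F : (2 : F) ≠ 0)
    {Γ : Type u} [Group Γ] [Finite Γ] {V : Type v} [AddCommGroup V] [Module F V]
    [FiniteDimensional F V] (ρ : Representation F Γ V) (Q S A : Subgroup Γ) (σ : Γ)
    (hQ : IsPGroup q ↥Q) (hS : IsPGroup s ↥S) (hAc : IsCyclic ↥A) (hA : IsPGroup 2 ↥A)
    (hSQ : ∀ g ∈ S, ∀ x ∈ Q, g * x * g⁻¹ ∈ Q) (hAQ : ∀ a ∈ A, ∀ x ∈ Q, a * x * a⁻¹ ∈ Q)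
    (hAS : ∀ a ∈ A, ∀ g ∈ S, a * g * a⁻¹ ∈ S)
    (hfix : fixedBy ρ A = ⊥) (hfpf : ∀ x ∈ Q, (∀ a ∈ A, a * x = x * a) → x = 1)
    (hσA : σ ∈ A) (hσ2 : σ * σ = 1) :
    ∀ g ∈ S, ∀ x ∈ Q, ρ (g * σ * g⁻¹ * σ⁻¹) * ρ x = ρ x * ρ (g * σ * g⁻¹ * σ⁻¹) :=
  ns_all hq hs hq2 hs2 hqs hqF h2F _ Γ V ρ Q S A σ rfl hQ hS hAc hA hSQ hAQ hAS hfix hfpf hσA hσ2

end Cfsg.Agent.Helper8.SG2N
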